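import Cfsg.Agent.Lib.Zass.NormalSub

/-!
# A non-trivial normal subgroup of a Zassenhaus group is a Zassenhaus group
-/

set_option autoImplicit false
set_option linter.unusedSectionVars false
set_option linter.style.haveILetI false

namespace Cfsg.Agent.Lib.Zass.NormalZass

open Cfsg MulAction
open Cfsg.Agent.Lib.Zass.Basic Cfsg.Agent.Lib.Zass.NormalSub

variable {G Ω : Type*} [Group G] [MulAction G Ω] [Finite G] [Finite Ω]

/-- Double transitivity of a non-trivial normal subgroup. -/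
theorem two_trans (hZ : IsZassenhausGroup G Ω) (N : Subgroup G) [hN : N.Normal] (hN1 : N ≠ ⊥)
    {a b c d : Ω} (hab : a ≠ b) (hcd : c ≠ d) : ∃ g ∈ N, g • a = c ∧ g • b = d := by
  obtain ⟨n, hn, hna⟩ := exists_smul_eq_of_normal hZ N hN1 a c
  have hnb : n • b ≠ c := by
    intro h
    rw [← hna] at h
    exact hab (smul_left_cancel _ h).symm
  obtain ⟨u, hu, -⟩ := kernelAt_regular (G := G) (a := c) (b := d) hZ hcd (y := n • b) (z := d) hnb
    hcd.symm
  refine ⟨u * n, N.mul_mem (kernelAt_le_of_normal hZ N hN1 hcd u.2) hn, ?_, ?_⟩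
  · rw [mul_smul, hna]
    exact kernelAt_le c d u.2
  · rw [mul_smul]
    exact hu

/-- Two subgroups normal in `N`, acting regularly on `Ω`, one of them commutative, coincide. -/
theorem regular_unique (hZ : IsZassenhausGroup G Ω) (N : Subgroup G) [hN : N.Normal] (hN1 : N ≠ ⊥)
    (A B : Subgroup G) (hAN : A ≤ N) (hBN : B ≤ N)
    (hAn : ∀ n ∈ N, ∀ m ∈ A, n * m * n⁻¹ ∈ A) (hBn : ∀ n ∈ N, ∀ m ∈ B, n * m * n⁻¹ ∈ B)
    (hAreg : ∀ x y : Ω, ∃ m ∈ A, m • x = y) (hBreg : ∀ x y : Ω, ∃ m ∈ B, m • x = y)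
    (hAfree : ∀ m ∈ A, ∀ x : Ω, m • x = x → m = 1) (hBfree : ∀ m ∈ B, ∀ x : Ω, m • x = x → m = 1)
    (hAcomm : ∀ x ∈ A, ∀ y ∈ A, x * y = y * x) : A = B := by
  obtain ⟨a⟩ : Nonempty Ω := by
    obtain ⟨_, _, p, _⟩ := hZ.2.2.2.1
    exact ⟨p⟩
  -- elements of `A` and `B` are determined by the image of `a`
  have hAu : ∀ m ∈ A, ∀ m' ∈ A, m • a = m' • a → m = m' := by
    intro m hm m' hm' h
    have h1 := hAfree (m'⁻¹ * m) (A.mul_mem (A.inv_mem hm') hm) a (by rw [mul_smul, h, inv_smul_smul])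
    exact (inv_mul_eq_one.mp h1).symm
  have hBu : ∀ m ∈ B, ∀ m' ∈ B, m • a = m' • a → m = m' := by
    intro m hm m' hm' h
    have h1 := hBfree (m'⁻¹ * m) (B.mul_mem (B.inv_mem hm') hm) a (by rw [mul_smul, h, inv_smul_smul])
    exact (inv_mul_eq_one.mp h1).symm
  by_cases hint : ∃ z ∈ A, z ∈ B ∧ z ≠ 1
  · -- `A ⊓ B` is transitive
    obtain ⟨z, hzA, hzB, hz1⟩ := hint
    obtain ⟨x, hx⟩ := exists_moved hZ hz1
    have htr : ∀ y y' : Ω, ∃ w ∈ A, w ∈ B ∧ w • y = y' := by
      intro y y'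
      by_cases hyy : y = y'
      · exact ⟨1, A.one_mem, B.one_mem, by simp [hyy]⟩
      obtain ⟨t, ht, ht1, ht2⟩ := two_trans hZ N hN1 (a := x) (b := z • x) (Ne.symm hx) hyy
      refine ⟨t * z * t⁻¹, hAn t ht z hzA, hBn t ht z hzB, ?_⟩
      rw [← ht1, ← ht2]
      simp [mul_smul]
    apply le_antisymm
    · intro m hm
      obtain ⟨w, hwA, hwB, hw⟩ := htr a (m • a)
      rw [hAu m hm w hwA hw.symm]
      exact hwB
    · intro m hm
      obtain ⟨w, hwA, hwB, hw⟩ := htr a (m • a)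
      rw [hBu m hm w hwB hw.symm]
      exact hwA
  · -- the subgroups commute, so `B ≤ A`, which is absurd
    exfalso
    push Not at hint
    have hcomm : ∀ x ∈ A, ∀ y ∈ B, x * y = y * x := by
      intro x hx y hy
      have h1 : x * y * x⁻¹ * y⁻¹ ∈ A := by
        have := hAn y (hBN hy) x⁻¹ (A.inv_mem hx)
        have h2 : x * (y * x⁻¹ * y⁻¹) ∈ A := A.mul_mem hx this
        simpa [mul_assoc] using h2
      have h2 : x * y * x⁻¹ * y⁻¹ ∈ B := B.mul_mem (hBn x (hAN hx) y hy) (B.inv_mem hy)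
      have h3 := hint _ h1 h2
      have h4 : x * y * x⁻¹ = y := by
        rw [mul_inv_eq_one] at h3
        exact h3
      rw [mul_inv_eq_iff_eq_mul] at h4
      exact h4
    obtain ⟨y, hyB, hy1⟩ : ∃ y ∈ B, y ≠ 1 := by
      obtain ⟨c, hc, _⟩ := exists_third hZ a a
      obtain ⟨y, hy, hyc⟩ := hBreg a c
      refine ⟨y, hy, ?_⟩
      rintro rfl
      rw [one_smul] at hyc
      exact hc hyc.symm
    obtain ⟨m, hmA, hm⟩ := hAreg a (y • a)
    have hym : y = m := by
      apply eq_of_smul hZ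
      intro w
      obtain ⟨m', hm'A, hm'⟩ := hAreg a w
      rw [← hm', ← mul_smul, ← mul_smul, ← hcomm m' hm'A y hyB, hAcomm m hmA m' hm'A, mul_smul,
        mul_smul, hm]
    exact hy1 (hint y (hym ▸ hmA) hyB)

/-- A non-trivial normal subgroup of a Zassenhaus group is a Zassenhaus group. -/
theorem isZassenhausGroup_of_normal (hZ : IsZassenhausGroup G Ω) (N : Subgroup G) [hN : N.Normal]
    (hN1 : N ≠ ⊥) : IsZassenhausGroup N Ω := by
  haveI := hZ.1
  have hN2 : MulAction.IsMultiplyPretransitive N Ω 2 := by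
    rw [MulAction.is_two_pretransitive_iff]
    intro a b c d hab hcd
    obtain ⟨g, hg, h1, h2⟩ := two_trans hZ N hN1 hab hcd
    exact ⟨⟨g, hg⟩, h1, h2⟩
  refine ⟨?_, hN2, ?_, ?_, ?_⟩
  · constructor
    intro g g' h
    apply Subtype.ext
    exact FaithfulSMul.eq_of_smul_eq_smul (α := Ω) h
  · intro g a b c hab hbc hac ha hb hc
    apply Subtype.ext
    exact hZ.2.2.1 g a b c hab hbc hac ha hb hc
  · obtain ⟨_, _, a, b, hab, _⟩ := hZ.2.2.2.1
    obtain ⟨n, hn, hn1, hna, hnb⟩ := exists_ne_one_fix2 hZ N hN1 hab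
    refine ⟨⟨n, hn⟩, fun h => hn1 (congrArg Subtype.val h), a, b, hab, hna, hnb⟩
  · intro M hMn hMt
    by_contra hcon
    push Not at hcon
    -- `M` as a subgroup of `G`
    let M' : Subgroup G := M.map N.subtype
    have hM'N : M' ≤ N := by
      rintro _ ⟨m, _, rfl⟩
      exact m.2
    have hM'n : ∀ n ∈ N, ∀ m ∈ M', n * m * n⁻¹ ∈ M' := by
      rintro n hn _ ⟨m, hm, rfl⟩
      exact ⟨⟨n, hn⟩ * m * ⟨n, hn⟩⁻¹, hMn.conj_mem m hm _, rfl⟩
    have hM'reg : ∀ x y : Ω, ∃ m ∈ M', m • x = y := by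
      intro x y
      obtain ⟨m, hm⟩ := hMt.exists_smul_eq x y
      exact ⟨(m : N), ⟨m, m.2, rfl⟩, hm⟩
    have hM'free : ∀ m ∈ M', ∀ x : Ω, m • x = x → m = 1 := by
      rintro _ ⟨m, hm, rfl⟩ x hx
      have h1 : (⟨m, hm⟩ : M) ∈ stabilizer M x := hx
      rw [hcon x, Subgroup.mem_bot] at h1
      have h2 : m = 1 := congrArg Subtype.val h1
      rw [h2]
      rfl
    -- exponent two
    have hsq : ∀ m ∈ M', m * m = 1 := by
      intro m hm
      by_cases hm1 : m = 1
      · simp [hm1]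
      obtain ⟨a⟩ : Nonempty Ω := by
        obtain ⟨_, _, p, _⟩ := hZ.2.2.2.1
        exact ⟨p⟩
      have hab : a ≠ m • a := fun h => hm1 (hM'free m hm a h.symm)
      obtain ⟨h, hh, hh1, hha, hhb⟩ := exists_ne_one_fix2 hZ N hN1 hab
      have hconj : h * m * h⁻¹ = m := by
        have h1 : (m⁻¹ * (h * m * h⁻¹)) • a = a := by
          simp only [mul_smul]
          rw [inv_smul_eq_iff]
          have : h⁻¹ • a = a := by rw [inv_smul_eq_iff, hha]
          rw [this, hhb]
        have h2 := hM'free _ (M'.mul_mem (M'.inv_mem hm) (hM'n h hh m hm)) a h1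
        exact (inv_mul_eq_one.mp h2).symm
      have hfix : h • (m • m • a) = m • m • a := by
        have h1 : h * m = m * h := by
          rw [mul_inv_eq_iff_eq_mul] at hconj
          exact hconj
        rw [← mul_smul, h1, mul_smul, hhb]
      have hcases : m • m • a = a ∨ m • m • a = m • a := by
        by_contra hne
        push Not at hne
        exact hh1 (fix3 hZ hab (Ne.symm hne.2) (Ne.symm hne.1) hha hhb hfix)
      rcases hcases with h2 | h2
      · rw [← mul_smul] at h2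
        exact hM'free _ (M'.mul_mem hm hm) a h2
      · exact absurd (smul_left_cancel _ h2) (Ne.symm hab)
    have hcomm : ∀ x ∈ M', ∀ y ∈ M', x * y = y * x := by
      intro x hx y hy
      have h1 := hsq _ (M'.mul_mem hx hy)
      have h2 := hsq x hx
      have h3 := hsq y hy
      have hxi : x⁻¹ = x := inv_eq_of_mul_eq_one_left h2
      have hyi : y⁻¹ = y := inv_eq_of_mul_eq_one_left h3
      have h4 : (x * y)⁻¹ = x * y := inv_eq_of_mul_eq_one_left h1
      rw [mul_inv_rev, hxi, hyi] at h4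
      exact h4.symm
    -- `M'` is normal in `G`
    have hnormal : M'.Normal := by
      constructor
      intro m hm g
      let B : Subgroup G := M'.map (MulAut.conj g).toMonoidHom
      have hBmem : ∀ z, z ∈ B ↔ g⁻¹ * z * g ∈ M' := by
        intro z
        constructor
        · rintro ⟨w, hw, rfl⟩
          simpa [mul_assoc] using hw
        · intro hz
          exact ⟨g⁻¹ * z * g, hz, by simp [mul_assoc]⟩
      have hEq : M' = B := by
        apply regular_unique hZ N hN1 M' B hM'N ?_ hM'n ?_ hM'reg ?_ hM'free ?_ hcomm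
        · intro z hz
          have h1 := hM'N ((hBmem z).1 hz)
          have h2 := hN.conj_mem _ h1 g
          simpa [mul_assoc] using h2
        · intro n hn z hz
          rw [hBmem] at hz ⊢
          have h1 : g⁻¹ * n * g ∈ N := by simpa using hN.conj_mem n hn g⁻¹
          have h2 := hM'n _ h1 _ hz
          simpa [mul_assoc] using h2
        · intro x y
          obtain ⟨w, hw, hwx⟩ := hM'reg (g⁻¹ • x) (g⁻¹ • y)
          refine ⟨g * w * g⁻¹, (hBmem _).2 (by simpa [mul_assoc] using hw), ?_⟩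
          simp only [mul_smul]
          rw [hwx, smul_inv_smul]
        · intro z hz x hx
          have h1 := hM'free _ ((hBmem z).1 hz) (g⁻¹ • x) (by
            simp only [mul_smul]
            rw [smul_inv_smul, hx])
          have h2 : z = g * (g⁻¹ * z * g) * g⁻¹ := by group
          rw [h2, h1]
          group
      rw [hEq]
      exact ⟨m, hm, rfl⟩
    have htrans : IsPretransitive M' Ω := by
      refine ⟨fun y z => ?_⟩
      obtain ⟨n, hn, hnz⟩ := hM'reg y z
      exact ⟨⟨n, hn⟩, hnz⟩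
    obtain ⟨c, hc⟩ := hZ.2.2.2.2 M' hnormal htrans
    obtain ⟨n, hn, hn1⟩ := (Subgroup.bot_or_exists_ne_one _).resolve_left hc
    exact hn1 (Subtype.ext (hM'free _ n.2 c hn))

end Cfsg.Agent.Lib.Zass.NormalZass
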