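import Cfsg.Agent.Lib.Zass.NormalZass
import Cfsg.Agent.S0740

/-!
# Zassenhaus groups of odd degree are simple
-/

set_option autoImplicit false
set_option linter.unusedSectionVars false
set_option linter.style.haveILetI false

namespace Cfsg.Agent.Lib.Zass.OddDegree

open Cfsg MulAction
open Cfsg.Agent.Lib.Zass.Basic Cfsg.Agent.Lib.Zass.NormalSub Cfsg.Agent.Lib.Frobenius.Theorem

variable {G Ω : Type*} [Group G] [MulAction G Ω]

theorem finite_of_zass [Finite Ω] (hZ : IsZassenhausGroup G Ω) : Finite G := by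
  haveI := hZ.1
  exact Finite.of_injective (MulAction.toPerm : G → Equiv.Perm Ω) MulAction.toPerm_injective

variable [Finite G] [Fintype Ω]

/-- An element of order 2 has an odd number of fixed points in odd degree. -/
theorem exists_third_fix (hZ : IsZassenhausGroup G Ω) (hodd : Odd (Fintype.card Ω)) {t : G}
    (ht : orderOf t = 2) {a b : Ω} (hab : a ≠ b) (hta : t • a = a) (htb : t • b = b) : False := by
  classical
  have h1 := Cfsg.Agent.S0740.card_fixedBy_parity (Ω := Ω) ht
  have ht1 : t ≠ 1 := by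
    rintro rfl
    simp at ht
  have h2 : fixedBy Ω t = {a, b} := by
    ext c
    simp only [mem_fixedBy, Set.mem_insert_iff, Set.mem_singleton_iff]
    constructor
    · intro hc
      by_contra hne
      push Not at hne
      exact ht1 (fix3 hZ hab (Ne.symm hne.2) (Ne.symm hne.1) hta htb hc)
    · rintro (rfl | rfl)
      · exact hta
      · exact htb
  have h3 : Nat.card (fixedBy Ω t) = 2 := by
    rw [h2]
    rw [Nat.card_coe_set_eq, Set.ncard_pair hab]
  rw [h3] at h1
  obtain ⟨k, hk⟩ := hodd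
  omega

theorem odd_card_stabilizer (hZ : IsZassenhausGroup G Ω) (hodd : Odd (Fintype.card Ω)) {a b : Ω}
    (hab : a ≠ b) : Odd (Nat.card ↥(stabilizer G a ⊓ stabilizer G b)) := by
  rw [← Nat.not_even_iff_odd, even_iff_two_dvd]
  intro h2
  haveI : Fact (Nat.Prime 2) := ⟨Nat.prime_two⟩
  obtain ⟨t, ht⟩ := exists_prime_orderOf_dvd_card' 2 h2
  have hG : orderOf (t : G) = 2 := by
    rw [Subgroup.orderOf_coe, ht]
  exact exists_third_fix hZ hodd hG hab t.2.1 t.2.2

/-- In a Zassenhaus group of odd degree, an involution swapping two points inverts the stabiliser. -/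
theorem conj_eq_inv (hZ : IsZassenhausGroup G Ω) (hodd : Odd (Fintype.card Ω)) {a b : Ω} (hab : a ≠ b)
    {s : G} (hs : orderOf s = 2) (hsa : s • a = b) (hsb : s • b = a) {c : Ω}
    (hfix : s • c = c) {h : G} (hh : h ∈ stabilizer G a ⊓ stabilizer G b) : s * h * s⁻¹ = h⁻¹ := by
  have hs2 : s * s = 1 := by
    rw [← pow_two, ← hs, pow_orderOf_eq_one]
  have hsi : s⁻¹ = s := inv_eq_of_mul_eq_one_left hs2
  have hca : c ≠ a := by
    rintro rfl
    exact hab (hfix.symm.trans hsa)
  have hcb : c ≠ b := by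
    rintro rfl
    exact hab (hsb.symm.trans hfix)
  -- the conjugation on the stabiliser
  let H := stabilizer G a ⊓ stabilizer G b
  have hconj : ∀ x ∈ H, s * x * s⁻¹ ∈ H := by
    rintro x ⟨hxa, hxb⟩
    have hxa' : x • a = a := hxa
    have hxb' : x • b = b := hxb
    constructor
    · show (s * x * s⁻¹) • a = a
      rw [hsi, mul_smul, mul_smul, hsa, hxb', hsb]
    · show (s * x * s⁻¹) • b = b
      rw [hsi, mul_smul, mul_smul, hsb, hxa', hsa]
  let φ : H →* H :=
    { toFun := fun x => ⟨s * x * s⁻¹, hconj x x.2⟩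
      map_one' := by
        apply Subtype.ext
        simp
      map_mul' := fun x y => by
        apply Subtype.ext
        simp [mul_assoc] }
  have hfpf : MonoidHom.FixedPointFree φ := by
    intro x hx
    have h1 : s * (x : G) * s⁻¹ = x := congrArg Subtype.val hx
    have h2 : s * (x : G) = x * s := by
      rw [mul_inv_eq_iff_eq_mul] at h1
      exact h1
    -- `x c` is fixed by `s`
    have h3 : s • ((x : G) • c) = (x : G) • c := by
      rw [← mul_smul, h2, mul_smul, hfix]
    have hodd' : Nat.card (fixedBy Ω s) = 1 :=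
      ((Cfsg.Agent.S0740.result hZ hab).2.1 s hs hsa hsb).1 hodd
    have h4 : (x : G) • c = c := by
      rw [Nat.card_eq_one_iff_unique] at hodd'
      have h5 := hodd'.1.elim ⟨_, h3⟩ ⟨c, hfix⟩
      exact congrArg Subtype.val h5
    apply Subtype.ext
    exact fix3 hZ hab hcb.symm hca.symm x.2.1 x.2.2 h4
  have hsq : φ^[2] = _root_.id := by
    funext x
    apply Subtype.ext
    show s * (s * (x : G) * s⁻¹) * s⁻¹ = x
    rw [hsi]
    calc s * (s * (x : G) * s) * s = (s * s) * (x : G) * (s * s) := by group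
      _ = x := by rw [hs2]; simp
  have h1 := hfpf.coe_eq_inv_of_sq_eq_one hsq
  have h2 := congrFun h1 ⟨h, hh⟩
  exact congrArg Subtype.val h2

/-- A Zassenhaus group of odd degree is simple. -/
theorem isSimpleGroup (hZ : IsZassenhausGroup G Ω) (hodd : Odd (Fintype.card Ω)) : IsSimpleGroup G := by
  obtain ⟨_, hg1, a, b, hab, _⟩ := hZ.2.2.2.1
  haveI : Nontrivial G := ⟨⟨_, _, hg1⟩⟩
  refine ⟨fun N hN => ?_⟩
  by_cases hN1 : N = ⊥
  · exact Or.inl hN1
  right
  obtain ⟨⟨s, hs, hsa, hsb⟩, h2, _⟩ := Cfsg.Agent.S0740.result hZ hab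
  have hcard : Nat.card (fixedBy Ω s) = 1 := (h2 s hs hsa hsb).1 hodd
  obtain ⟨⟨c, hc⟩, hcu⟩ := Nat.card_eq_one_iff_unique.1 hcard |>.2.elim
    (fun x => (⟨x, fun y => (Nat.card_eq_one_iff_unique.1 hcard).1.elim y x⟩ : ∃ x : fixedBy Ω s, ∀ y, y = x))
  have hfix : s • c = c := hc
  have hfixu : ∀ w : Ω, s • w = w → w = c := fun w hw =>
    congrArg Subtype.val (hcu ⟨w, hw⟩)
  have hca : c ≠ a := by
    rintro rfl
    exact hab (hfix.symm.trans hsa)
  -- `s` lies in `N`
  have hsN : s ∈ N := kernelAt_le_of_normal hZ N hN1 hca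
    (mem_kernelAt_of_fix hZ hca hfix hfixu)
  -- the two-point stabiliser lies in `N`
  have hHN : stabilizer G a ⊓ stabilizer G b ≤ N := by
    intro h hh
    have hinv := conj_eq_inv hZ hodd hab hs hsa hsb hfix hh
    have h1 : h⁻¹ * h⁻¹ ∈ N := by
      have h3 : h⁻¹ * h⁻¹ = s * (h * s⁻¹ * h⁻¹) := by
        rw [← hinv]
        group
      rw [h3]
      exact N.mul_mem hsN (hN.conj_mem _ (N.inv_mem hsN) h)
    have hord : Odd (orderOf h) := by
      have h3 : orderOf (⟨h, hh⟩ : ↥(stabilizer G a ⊓ stabilizer G b)) ∣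
          Nat.card ↥(stabilizer G a ⊓ stabilizer G b) := orderOf_dvd_natCard _
      rw [Subgroup.orderOf_mk] at h3
      exact Odd.of_dvd_nat (odd_card_stabilizer hZ hodd hab) h3
    obtain ⟨m, hm⟩ := hord
    have h3 : h = (h⁻¹ * h⁻¹) ^ m := by
      have h4 : h ^ (2 * m + 1) = 1 := by
        rw [← hm, pow_orderOf_eq_one]
      have h5 : (h⁻¹ * h⁻¹) ^ m = (h ^ (2 * m))⁻¹ := by
        rw [pow_mul, ← mul_inv_rev, ← pow_two, inv_pow]
      rw [h5, eq_inv_iff_mul_eq_one, ← pow_succ']
      exact h4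
    rw [h3]
    exact N.pow_mem h1 m
  -- the point stabiliser lies in `N`
  have hStab : stabilizer G a ≤ N := by
    have hH := isFrobeniusComplement_compl hZ hab
    have hc := kernel_isComplement' hH
    have htop := hc.sup_eq_top
    have hle : kernel (compl (G := G) a b) ⊔ compl (G := G) a b ≤ N.subgroupOf (stabilizer G a) := by
      apply sup_le
      · intro x hx
        exact kernelAt_le_of_normal hZ N hN1 hab ⟨x, hx, rfl⟩
      · intro x hx
        exact hHN ⟨x.2, hx⟩
    rw [htop] at hle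
    intro x hx
    exact hle (Subgroup.mem_top ⟨x, hx⟩)
  rw [eq_top_iff]
  intro g _
  obtain ⟨n, hn, hna⟩ := exists_smul_eq_of_normal hZ N hN1 a (g • a)
  have h1 : n⁻¹ * g ∈ stabilizer G a := by
    show (n⁻¹ * g) • a = a
    rw [mul_smul, ← hna, inv_smul_smul]
  have h2 := N.mul_mem hn (hStab h1)
  simpa using h2

end Cfsg.Agent.Lib.Zass.OddDegree
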