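import Cfsg.Agent.Lib.Zass.AbKernel
import Cfsg.Agent.Lib.Zass.NormalZass
import Cfsg.Agent.S0339

/-!
# Consequences of the bound for abelian kernels
-/

set_option autoImplicit false
set_option linter.unusedSectionVars false
set_option linter.unusedVariables false
set_option linter.style.haveILetI false

namespace Cfsg.Agent.Lib.Zass.AbFinal

open Cfsg MulAction
open Cfsg.Agent.Lib.Zass.Basic Cfsg.Agent.Lib.Zass.Stab Cfsg.Agent.Lib.Zass.Infl
  Cfsg.Agent.Lib.Zass.NoSharp Cfsg.Agent.Lib.Zass.NormalSub Cfsg.Agent.Lib.Zass.NormalZass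
  Cfsg.Agent.Lib.Zass.Inv Cfsg.Agent.Lib.Zass.RootPSL

universe u v

variable {G : Type u} {Ω : Type v} [Group G] [MulAction G Ω]

section Closure

variable [Finite G] [Finite Ω]

/-- The conjugates of the kernel. -/
theorem conj_mem_kernelAt (hZ : IsZassenhausGroup G Ω) {a b : Ω} (hab : a ≠ b) (g : G) {u : G}
    (hu : u ∈ kernelAt (G := G) a b) : g * u * g⁻¹ ∈ kernelAt (G := G) (g • a) (g • b) := by
  have hc : g • a ≠ g • b := fun h => hab (smul_left_cancel _ h)
  by_cases hu1 : u = 1
  · rw [hu1]
    simp [(kernelAt (G := G) (g • a) (g • b)).one_mem]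
  apply mem_kernelAt_of_fix hZ hc
  · have hua : u • a = a := kernelAt_le a b hu
    simp only [mul_smul, inv_smul_smul, hua]
  · intro w hw
    have h1 : u • (g⁻¹ • w) = g⁻¹ • w := by
      simp only [mul_smul] at hw
      rw [← smul_left_cancel_iff g, hw, smul_inv_smul]
    by_contra hne
    apply hu1
    apply kernelAt_fix hZ hab hu _ h1
    intro h
    apply hne
    rw [inv_smul_eq_iff] at h
    exact h

/-- The normal closure of a kernel is a simple Zassenhaus group. -/
theorem isSimple_closure (hZ : IsZassenhausGroup G Ω) {a b : Ω} (hab : a ≠ b)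
    (hne : kernelAt (G := G) a b ≠ ⊥) :
    IsSimpleGroup (Subgroup.normalClosure (kernelAt (G := G) a b : Set G)) := by
  set L := Subgroup.normalClosure (kernelAt (G := G) a b : Set G) with hL
  have hLn : L.Normal := Subgroup.normalClosure_normal
  have hkL : kernelAt (G := G) a b ≤ L := Subgroup.subset_normalClosure
  have hL1 : L ≠ ⊥ := by
    intro h
    apply hne
    rw [eq_bot_iff, ← h]
    exact hkL
  have hLZ : IsZassenhausGroup L Ω := isZassenhausGroup_of_normal hZ L hL1
  have hnt : Nontrivial L := (Subgroup.nontrivial_iff_ne_bot L).mpr hL1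
  refine ⟨fun K hK => ?_⟩
  by_cases hK1 : K = ⊥
  · exact Or.inl hK1
  refine Or.inr ?_
  -- `L ≤ K`
  have hle : L ≤ K.map L.subtype := by
    change Subgroup.closure (Group.conjugatesOfSet (kernelAt (G := G) a b : Set G)) ≤ _
    rw [Subgroup.closure_le]
    intro x hx
    obtain ⟨u, hu, hux⟩ := Group.mem_conjugatesOfSet_iff.mp hx
    obtain ⟨g, rfl⟩ := isConj_iff.mp hux
    have hxL : g * u * g⁻¹ ∈ L := hLn.conj_mem u (hkL hu) g
    have hk := conj_mem_kernelAt hZ hab g hu
    have hc : g • a ≠ g • b := fun h => hab (smul_left_cancel _ h)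
    have hfix : (⟨g * u * g⁻¹, hxL⟩ : L) ∈ kernelAt (G := L) (g • a) (g • b) := by
      by_cases hu1 : g * u * g⁻¹ = 1
      · have : (⟨g * u * g⁻¹, hxL⟩ : L) = 1 := Subtype.ext hu1
        rw [this]
        exact Subgroup.one_mem _
      apply mem_kernelAt_of_fix hLZ hc
      · exact kernelAt_le (G := G) (g • a) (g • b) hk
      · intro w hw
        by_contra hne
        exact hu1 (kernelAt_fix hZ hc hk hne hw)
    have := kernelAt_le_of_normal hLZ K hK1 hc hfix
    exact ⟨_, this, rfl⟩
  rw [eq_top_iff]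
  intro l _
  obtain ⟨k, hk, hkl⟩ := hle l.2
  have : k = l := Subtype.ext hkl
  rwa [← this]

end Closure

section Odd

variable [Fintype G] [Fintype Ω]

/-- The kernel as `Data`. -/
theorem data_kernelAt (hZ : IsZassenhausGroup G Ω) {a b : Ω} (hab : a ≠ b) :
    Data a b (kernelAt (G := G) a b) :=
  { hZ := hZ
    hab := hab
    hHa := kernelAt_le a b
    hHcard := card_regular hab (kernelAt_le a b) (fun y hy => kernelAt_regular hZ hab (Ne.symm hab) hy)
    hHfix := by
      intro u hu hu1 x hx
      by_contra hxa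
      exact hu1 (kernelAt_fix hZ hab hu hxa hx) }

/-- The kernel is determined. -/
theorem eq_kernelAt {a b : Ω} {H : Subgroup G} (D : Data a b H) : H = kernelAt (G := G) a b := by
  have h1 : H ≤ kernelAt (G := G) a b := by
    intro u hu
    by_cases hu1 : u = 1
    · rw [hu1]
      exact Subgroup.one_mem _
    exact mem_kernelAt_of_fix D.hZ D.hab (D.hHa hu) (D.hHfix u hu hu1)
  apply Subgroup.eq_of_le_of_card_ge h1
  have h2 := (data_kernelAt D.hZ D.hab).hHcard
  have h3 := D.hHcard
  omega

/-- **With abelian kernel and odd two-point stabilisers the group is simple.** -/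
theorem simple_of_odd_abelian (hZ : IsZassenhausGroup G Ω) {a b : Ω} (hab : a ≠ b)
    (hodd : Odd (Nat.card (E (G := G) a b)))
    (hcomm : ∀ x ∈ kernelAt (G := G) a b, ∀ y ∈ kernelAt (G := G) a b, x * y = y * x) :
    IsSimpleGroup G := by
  classical
  have Dk := data_kernelAt hZ hab
  have hk1 : kernelAt (G := G) a b ≠ ⊥ := by
    intro h
    have h1 := Dk.hHcard
    rw [h] at h1
    simp only [Subgroup.card_bot] at h1
    obtain ⟨c, hca, hcb⟩ := exists_third hZ a b
    have hΩ3 : 3 ≤ Fintype.card Ω := by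
      have : ({a, b, c} : Finset Ω).card = 3 := by
        rw [Finset.card_eq_three]
        exact ⟨a, b, c, hab, Ne.symm hca, Ne.symm hcb, rfl⟩
      rw [← this]
      exact Finset.card_le_univ _
    omega
  set L := Subgroup.normalClosure (kernelAt (G := G) a b : Set G) with hL
  have hLn : L.Normal := Subgroup.normalClosure_normal
  have hkL : kernelAt (G := G) a b ≤ L := Subgroup.subset_normalClosure
  have hL1 : L ≠ ⊥ := by
    intro h
    apply hk1
    rw [eq_bot_iff, ← h]
    exact hkL
  have hLZ : IsZassenhausGroup L Ω := isZassenhausGroup_of_normal hZ L hL1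
  have hLs : IsSimpleGroup L := isSimple_closure hZ hab hk1
  -- the two-point stabiliser of `L`
  let ι : E (G := L) a b →* E (G := G) a b :=
    { toFun := fun x => ⟨x.1.1, x.2.1, x.2.2⟩
      map_one' := rfl
      map_mul' := fun _ _ => rfl }
  have hιinj : Function.Injective ι := by
    intro x y h
    apply Subtype.ext
    apply Subtype.ext
    exact congrArg (fun z : E (G := G) a b => (z : G)) h
  have hdvd : Nat.card (E (G := L) a b) ∣ Nat.card (E (G := G) a b) :=
    Subgroup.card_dvd_of_injective ι hιinj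
  have hoddL : Odd (Nat.card (E (G := L) a b)) := Odd.of_dvd_nat hodd hdvd
  have hC := Ctx.of_simple hLZ hab hoddL
  have DL := data_kernelAt hLZ hab
  have hcommL : ∀ x ∈ kernelAt (G := L) a b, ∀ y ∈ kernelAt (G := L) a b, x * y = y * x := by
    have hmem : ∀ x ∈ kernelAt (G := L) a b, (x : G) ∈ kernelAt (G := G) a b := by
      intro x hx
      by_cases hx1 : x = 1
      · rw [hx1]
        exact Subgroup.one_mem _
      apply mem_kernelAt_of_fix hZ hab (kernelAt_le (G := L) a b hx)
      intro w hw
      by_contra hne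
      exact hx1 (kernelAt_fix hLZ hab hx hne hw)
    intro x hx y hy
    exact Subtype.ext (hcomm _ (hmem x hx) _ (hmem y hy))
  have hb := Cfsg.Agent.Lib.Zass.AbKernel.two_bound DL hC hcommL
  have hcardL := DL.hHcard
  obtain ⟨t, ht⟩ := hdvd
  obtain ⟨R, hR⟩ := card_E_dvd hZ hab
  have hoddt : Odd t := by
    rw [ht] at hodd
    exact (Nat.odd_mul.mp hodd).2
  have hpos : 0 < Nat.card (E (G := L) a b) := Nat.card_pos
  have ht1 : t = 1 := by
    by_contra hne
    have ht3 : 3 ≤ t := by
      obtain ⟨k, hk⟩ := hoddt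
      omega
    have hR0 : 1 ≤ R := by
      rcases Nat.eq_zero_or_pos R with h0 | h0
      · subst h0
        obtain ⟨c, hca, hcb⟩ := exists_third hZ a b
        have hΩ3 : 3 ≤ Fintype.card Ω := by
          have : ({a, b, c} : Finset Ω).card = 3 := by
            rw [Finset.card_eq_three]
            exact ⟨a, b, c, hab, Ne.symm hca, Ne.symm hcb, rfl⟩
          rw [← this]
          exact Finset.card_le_univ _
        omega
      · exact h0
    have h1 : 3 * Nat.card (E (G := L) a b) ≤ Fintype.card Ω - 2 := by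
      rw [hR, ht]
      calc 3 * Nat.card (E (G := L) a b) ≤ Nat.card (E (G := L) a b) * t * 1 := by nlinarith
        _ ≤ Nat.card (E (G := L) a b) * t * R := Nat.mul_le_mul_left _ hR0
    omega
  have hcardeq : Nat.card (E (G := L) a b) = Nat.card (E (G := G) a b) := by
    rw [ht, ht1, mul_one]
  have hιsurj : Function.Surjective ι :=
    ((Nat.bijective_iff_injective_and_card ι).mpr ⟨hιinj, hcardeq⟩).2
  have hEL : E (G := G) a b ≤ L := by
    intro e he
    obtain ⟨x, hx⟩ := hιsurj ⟨e, he⟩
    have h1 : (x.1 : G) = e := congrArg (fun z : E (G := G) a b => (z : G)) hx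
    rw [← h1]
    exact x.1.2
  have hNL : stabilizer G a ≤ L := by
    intro v hv
    obtain ⟨u, hu, e, he, rfl⟩ := exists_decomp Dk hv
    exact L.mul_mem (hkL hu) (hEL he)
  have hLtop : L = ⊤ := by
    rw [eq_top_iff]
    intro g _
    obtain ⟨l, hl, hla⟩ := exists_smul_eq_of_normal hZ L hL1 a (g • a)
    have h1 : l⁻¹ * g ∈ stabilizer G a := by
      show (l⁻¹ * g) • a = a
      rw [mul_smul, inv_smul_eq_iff, hla]
    have h2 : g = l * (l⁻¹ * g) := by group
    rw [h2]
    exact L.mul_mem hl (hNL h1)
  obtain ⟨_, hg1, _⟩ := hZ.2.2.2.1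
  have hnt : Nontrivial G := ⟨⟨_, _, hg1⟩⟩
  refine ⟨fun N hN => ?_⟩
  by_cases hN1 : N = ⊥
  · exact Or.inl hN1
  refine Or.inr ?_
  have h1 := kernelAt_le_of_normal hZ N hN1 hab
  rw [eq_top_iff, ← hLtop]
  exact Subgroup.normalClosure_le_normal h1

/-- **Three-transitivity when `d = n - 2`.** -/
theorem sharp3_of_eq (hZ : IsZassenhausGroup G Ω) {a b : Ω} (hab : a ≠ b)
    (hd : Nat.card (E (G := G) a b) + 2 = Fintype.card Ω) :
    IsMultiplyPretransitive G Ω 3 ∧ ∀ t : Fin 3 ↪ Ω, stabilizer G t = ⊥ := by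
  classical
  have htrans : ∀ {c d x y : Ω}, c ≠ d → x ≠ c → x ≠ d → y ≠ c → y ≠ d →
      ∃ e ∈ E (G := G) c d, e • x = y := by
    intro c d x y hcd hxc hxd hyc hyd
    have hcard : Nat.card (E (G := G) c d) + 2 = Fintype.card Ω := by
      rw [card_E_eq hZ hab hcd, hd]
    let f : E (G := G) c d → {w : Ω // w ≠ c ∧ w ≠ d} := fun e => ⟨(e : G) • x, by
      constructor
      · intro h
        have h1 : (e : G) • c = c := e.2.1
        exact hxc (smul_left_cancel (e : G) (h.trans h1.symm))
      · intro h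
        have h1 : (e : G) • d = d := e.2.2
        exact hxd (smul_left_cancel (e : G) (h.trans h1.symm))⟩
    have hfinj : Function.Injective f := by
      intro e e' h
      have h1 : (e : G) • x = (e' : G) • x := congrArg Subtype.val h
      have h2 : ((e' : G)⁻¹ * e) = 1 := by
        apply fix3 hZ hcd (Ne.symm hxd) (Ne.symm hxc)
        · exact (E (G := G) c d).mul_mem ((E (G := G) c d).inv_mem e'.2) e.2 |>.1
        · exact (E (G := G) c d).mul_mem ((E (G := G) c d).inv_mem e'.2) e.2 |>.2
        · rw [mul_smul, h1, inv_smul_smul]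
      exact Subtype.ext (inv_mul_eq_one.mp h2).symm
    have hcard2 : Nat.card (E (G := G) c d) = Nat.card {w : Ω // w ≠ c ∧ w ≠ d} := by
      rw [Nat.card_eq_fintype_card (α := {w : Ω // w ≠ c ∧ w ≠ d}), Fintype.card_subtype]
      have : (Finset.univ.filter (fun x : Ω => x ≠ c ∧ x ≠ d)) = Finset.univ \ {c, d} := by
        ext x
        simp
      rw [this, Finset.card_sdiff_of_subset (Finset.subset_univ _), Finset.card_univ,
        Finset.card_pair hcd]
      omega
    have hfsurj := ((Nat.bijective_iff_injective_and_card f).mpr ⟨hfinj, hcard2⟩).2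
    obtain ⟨e, he⟩ := hfsurj ⟨y, hyc, hyd⟩
    exact ⟨e, e.2, congrArg Subtype.val he⟩
  constructor
  · constructor
    intro x y
    have hx01 : x 0 ≠ x 1 := fun h => by simpa using x.injective h
    have hx02 : x 0 ≠ x 2 := fun h => by simpa using x.injective h
    have hx12 : x 1 ≠ x 2 := fun h => by simpa using x.injective h
    have hy01 : y 0 ≠ y 1 := fun h => by simpa using y.injective h
    have hy02 : y 0 ≠ y 2 := fun h => by simpa using y.injective h
    have hy12 : y 1 ≠ y 2 := fun h => by simpa using y.injective h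
    obtain ⟨g, hg0, hg1⟩ := trans2 hZ hx01 hy01
    have h1 : g • x 2 ≠ y 0 := by
      rw [← hg0]
      exact fun h => hx02 (smul_left_cancel _ h).symm
    have h2 : g • x 2 ≠ y 1 := by
      rw [← hg1]
      exact fun h => hx12 (smul_left_cancel _ h).symm
    obtain ⟨e, he, he2⟩ := htrans hy01 h1 h2 (Ne.symm hy02) (Ne.symm hy12)
    refine ⟨e * g, ?_⟩
    ext i
    fin_cases i
    · show (e * g) • x 0 = y 0
      rw [mul_smul, hg0]
      exact he.1
    · show (e * g) • x 1 = y 1
      rw [mul_smul, hg1]
      exact he.2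
    · show (e * g) • x 2 = y 2
      rw [mul_smul, he2]
  · intro t
    rw [eq_bot_iff]
    intro g hg
    rw [Subgroup.mem_bot]
    have hg' : g • t = t := hg
    have h : ∀ i, g • t i = t i := fun i => by
      have := congrArg (fun z : Fin 3 ↪ Ω => z i) hg'
      exact this
    have hx01 : t 0 ≠ t 1 := fun h => by simpa using t.injective h
    have hx02 : t 0 ≠ t 2 := fun h => by simpa using t.injective h
    have hx12 : t 1 ≠ t 2 := fun h => by simpa using t.injective h
    exact fix3 hZ hx01 hx12 hx02 (h 0) (h 1) (h 2)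

end Odd

end Cfsg.Agent.Lib.Zass.AbFinal
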