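import Cfsg.Agent.Lib.Zass.Inv
import Cfsg.Agent.Lib.Frobenius.Conjugacy

/-!
# Counting involutions and fixed-point-free classes in Zassenhaus groups with odd two-point stabiliser
-/

set_option autoImplicit false
set_option linter.unusedSectionVars false
set_option linter.style.haveILetI false

namespace Cfsg.Agent.Lib.Zass.InvCount

open Cfsg MulAction
open Cfsg.Agent.Lib.Zass.Basic Cfsg.Agent.Lib.Zass.Stab Cfsg.Agent.Lib.Zass.Inv
open Finset
open scoped Classical

theorem card_filter_eq {α : Type*} [Fintype α] (p : α → Prop) [DecidablePred p] :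
    ((univ : Finset α).filter p).card = Nat.card {x // p x} := by
  rw [Nat.card_eq_fintype_card, Fintype.card_subtype]

variable {G Ω : Type*} [Group G] [MulAction G Ω] [Fintype G] [Fintype Ω]

/-- The order of `G`. -/
theorem card_G (hZ : IsZassenhausGroup G Ω) {a b : Ω} (hab : a ≠ b) :
    Nat.card G = Fintype.card Ω * (Fintype.card Ω - 1) * Nat.card (E (G := G) a b) := by
  have h1 : (univ : Finset G).card =
      ∑ y ∈ (univ : Finset Ω).offDiag, ((univ : Finset G).filter (fun g => (g • a, g • b) = y)).card := by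
    apply Finset.card_eq_sum_card_fiberwise
    intro g _
    simp only [coe_offDiag, coe_univ, Set.mem_offDiag, Set.mem_univ, true_and]
    exact fun h => hab (smul_left_cancel _ h)
  have h2 : ∀ y ∈ (univ : Finset Ω).offDiag,
      ((univ : Finset G).filter (fun g => (g • a, g • b) = y)).card = Nat.card (E (G := G) a b) := by
    rintro ⟨c, d⟩ hy
    have hcd : c ≠ d := by simpa using hy
    obtain ⟨g, hg1, hg2⟩ := trans2 hZ hab hcd
    rw [card_filter_eq]
    apply Nat.card_congr
    refine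
      { toFun := fun x => ⟨g⁻¹ * x.1, ?_, ?_⟩
        invFun := fun x => ⟨g * x.1, ?_⟩
        left_inv := fun x => by apply Subtype.ext; simp
        right_inv := fun x => by apply Subtype.ext; simp }
    · have : (x.1 : G) • a = c := congrArg Prod.fst x.2
      show (g⁻¹ * x.1) • a = a
      rw [mul_smul, this, ← hg1, inv_smul_smul]
    · have : (x.1 : G) • b = d := congrArg Prod.snd x.2
      show (g⁻¹ * x.1) • b = b
      rw [mul_smul, this, ← hg2, inv_smul_smul]
    · have h3 : (x.1 : G) • a = a := x.2.1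
      have h4 : (x.1 : G) • b = b := x.2.2
      simp only [Prod.mk.injEq, mul_smul, h3, h4]
      exact ⟨hg1, hg2⟩
  rw [Finset.sum_congr rfl h2, Finset.sum_const, smul_eq_mul, Finset.offDiag_card,
    Finset.card_univ, Finset.card_univ] at h1
  rw [Nat.card_eq_fintype_card, h1]
  congr 1
  rw [Nat.mul_sub, mul_one]

/-- The two-point stabiliser acts semiregularly on the other points. -/
theorem card_E_le (hZ : IsZassenhausGroup G Ω) {a b : Ω} (hab : a ≠ b) :
    Nat.card (E (G := G) a b) + 2 ≤ Fintype.card Ω := by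
  obtain ⟨c, hca, hcb⟩ := exists_third hZ a b
  let f : E (G := G) a b → {x : Ω // x ≠ a ∧ x ≠ b} := fun x => ⟨(x : G) • c, by
    constructor
    · intro h
      apply hca
      have h1 : (x : G) • a = a := x.2.1
      exact smul_left_cancel _ (h.trans h1.symm)
    · intro h
      apply hcb
      have h1 : (x : G) • b = b := x.2.2
      exact smul_left_cancel _ (h.trans h1.symm)⟩
  have hinj : Function.Injective f := by
    intro x y hxy
    have h1 : (x : G) • c = (y : G) • c := congrArg Subtype.val hxy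
    apply Subtype.ext
    have h2 : ((y : G)⁻¹ * x) = 1 := by
      apply fix3 hZ hab (Ne.symm hcb) (Ne.symm hca)
      · show ((y : G)⁻¹ * x) • a = a
        have h3 : (x : G) • a = a := x.2.1
        have h4 : (y : G) • a = a := y.2.1
        rw [mul_smul, h3, inv_smul_eq_iff, h4]
      · show ((y : G)⁻¹ * x) • b = b
        have h3 : (x : G) • b = b := x.2.2
        have h4 : (y : G) • b = b := y.2.2
        rw [mul_smul, h3, inv_smul_eq_iff, h4]
      · rw [mul_smul, h1, inv_smul_smul]
    exact (inv_mul_eq_one.mp h2).symm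
  have h1 := Nat.card_le_card_of_injective f hinj
  have h2 : Nat.card {x : Ω // x ≠ a ∧ x ≠ b} + 2 = Fintype.card Ω := by
    rw [← card_filter_eq, ← Finset.card_univ]
    have h3 : (univ : Finset Ω) = insert a (insert b (univ.filter (fun x => x ≠ a ∧ x ≠ b))) := by
      ext x
      simp only [mem_univ, mem_insert, mem_filter, true_and, true_iff]
      tauto
    nth_rw 2 [h3]
    rw [Finset.card_insert_of_notMem, Finset.card_insert_of_notMem]
    · simp
    · simp [hab]
  omega

/-- The set of involutions. -/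
noncomputable def invs (G : Type*) [Group G] [Fintype G] : Finset G :=
  univ.filter (fun t => orderOf t = 2)

theorem mem_invs {t : G} : t ∈ invs G ↔ orderOf t = 2 := by simp [invs]

/-- Involutions taking `c` to `d`. -/
noncomputable def fib (c d : Ω) : Finset G := (invs G).filter (fun t => t • c = d)

theorem mem_fib {c d : Ω} {t : G} : t ∈ fib c d ↔ orderOf t = 2 ∧ t • c = d := by
  simp [fib, mem_invs]

theorem exists_smul (hZ : IsZassenhausGroup G Ω) (a c : Ω) : ∃ g : G, g • a = c := by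
  by_cases h : a = c
  · exact ⟨1, by simp [h]⟩
  · obtain ⟨g, hg, -⟩ := trans2 hZ h (Ne.symm h)
    exact ⟨g, hg⟩

section Ctx

variable (hC : Ctx G Ω)
include hC

theorem card_fib {c d : Ω} (hcd : c ≠ d) :
    (fib (G := G) c d).card = Nat.card (E (G := G) c d) := by
  rw [← card_swap hC hcd, ← card_filter_eq]
  congr 1
  ext t
  simp [mem_fib]

theorem card_fib_self (a c : Ω) : (fib (G := G) c c).card = (fib (G := G) a a).card := by
  obtain ⟨g, hg⟩ := exists_smul hC.hZ a c
  apply Finset.card_bij' (fun t _ => g⁻¹ * t * g) (fun t _ => g * t * g⁻¹)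
  · intro t ht
    rw [mem_fib] at ht ⊢
    refine ⟨?_, ?_⟩
    · rw [← ht.1]
      have := (MulAut.conj g⁻¹).orderOf_eq t
      simpa using this
    · rw [mul_smul, mul_smul, hg, ht.2, ← hg, inv_smul_smul]
  · intro t ht
    rw [mem_fib] at ht ⊢
    refine ⟨?_, ?_⟩
    · rw [← ht.1]
      exact (MulAut.conj g).orderOf_eq t
    · rw [mul_smul, mul_smul, ← hg, inv_smul_smul, ht.2]
  · intro t _
    simp [mul_assoc]
  · intro t _
    simp [mul_assoc]

theorem card_invs {a b : Ω} (hab : a ≠ b) {h : ℕ} (hh : Fintype.card Ω = h + 1) :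
    (invs G).card = (fib (G := G) a a).card + h * Nat.card (E (G := G) a b) := by
  have h1 : (invs G).card = ∑ d ∈ (univ : Finset Ω), (fib (G := G) a d).card :=
    Finset.card_eq_sum_card_fiberwise (f := fun t : G => t • a) (fun _ _ => Finset.mem_coe.2 (mem_univ _))
  rw [h1, ← Finset.add_sum_erase _ _ (mem_univ a)]
  congr 1
  have h2 : ∀ d ∈ (univ : Finset Ω).erase a, (fib (G := G) a d).card = Nat.card (E (G := G) a b) := by
    intro d hd
    have had : a ≠ d := (Finset.ne_of_mem_erase hd).symm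
    rw [card_fib hC had, card_E_eq hC.hZ hab had]
  rw [Finset.sum_congr rfl h2, Finset.sum_const, smul_eq_mul, Finset.card_erase_of_mem (mem_univ a),
    Finset.card_univ, hh]
  simp

theorem fib_self_empty (heven : Even (Fintype.card Ω)) (a : Ω) : (fib (G := G) a a) = ∅ := by
  rw [Finset.eq_empty_iff_forall_notMem]
  intro t ht
  rw [mem_fib] at ht
  exact no_fix_of_even hC heven ht.1 a ht.2

theorem sum_fib_self (hodd : Odd (Fintype.card Ω)) :
    ∑ c : Ω, (fib (G := G) c c).card = (invs G).card := by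
  have h1 := Finset.sum_card_bipartiteAbove_eq_sum_card_bipartiteBelow (s := invs G)
    (t := (univ : Finset Ω)) (fun t c => t • c = c)
  have h2 : ∀ t ∈ invs G, ((univ : Finset Ω).bipartiteAbove (fun (t : G) c => t • c = c) t).card = 1 := by
    intro t ht
    rw [mem_invs] at ht
    obtain ⟨c, hc⟩ := exists_fix_of_odd hC hodd ht
    rw [Finset.card_eq_one]
    refine ⟨c, ?_⟩
    ext d
    simp only [bipartiteAbove, mem_filter, mem_univ, true_and, mem_singleton]
    exact ⟨fun hd => fix_unique hC ht hd hc, fun hd => hd ▸ hc⟩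
  rw [Finset.sum_congr rfl h2] at h1
  simp only [sum_const, smul_eq_mul, mul_one] at h1
  rw [h1]
  rfl

theorem card_fib_self_of_odd (hodd : Odd (Fintype.card Ω)) {a b : Ω} (hab : a ≠ b) :
    (fib (G := G) a a).card = Nat.card (E (G := G) a b) := by
  have h1 := sum_fib_self (G := G) hC hodd
  obtain ⟨h, hh⟩ : ∃ h, Fintype.card Ω = h + 1 := ⟨Fintype.card Ω - 1, by
    have := Fintype.card_pos_iff.2 ⟨a⟩
    omega⟩
  have h2 := card_invs (G := G) hC hab hh
  rw [Finset.sum_congr rfl (fun c _ => card_fib_self (G := G) hC a c), Finset.sum_const,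
    Finset.card_univ, hh, smul_eq_mul] at h1
  have hh0 : 0 < h := by
    have := card_E_le hC.hZ hab
    omega
  rw [h2] at h1
  have h3 : h * (fib (G := G) a a).card = h * Nat.card (E (G := G) a b) := by
    nlinarith
  exact Nat.eq_of_mul_eq_mul_left hh0 h3

/-- The number of involutions. -/
theorem card_invs_eq {a b : Ω} (hab : a ≠ b) {h : ℕ} (hh : Fintype.card Ω = h + 1) :
    (invs G).card = if Even h then Nat.card (E (G := G) a b) * (h + 1) else
      Nat.card (E (G := G) a b) * h := by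
  have h2 := card_invs (G := G) hC hab hh
  split_ifs with hev
  · have : Odd (Fintype.card Ω) := by rw [hh]; exact hev.add_one
    rw [h2, card_fib_self_of_odd hC this hab]
    ring
  · have : Even (Fintype.card Ω) := by
      rw [hh]; exact (Nat.not_even_iff_odd.1 hev).add_one
    rw [h2, fib_self_empty hC this, card_empty]
    ring

end Ctx

/-- Pairs of involutions whose product has no fixed points. -/
noncomputable def fpfPairs (G Ω : Type*) [Group G] [MulAction G Ω] [Fintype G] [Fintype Ω] :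
    Finset (G × G) :=
  (invs G ×ˢ invs G).filter (fun x => ∀ c : Ω, (x.1 * x.2) • c ≠ c)

/-- Conjugacy classes without fixed points. -/
noncomputable def fpfClasses (G Ω : Type*) [Group G] [MulAction G Ω] [Fintype G] [Fintype Ω] :
    Finset (ConjClasses G) :=
  univ.filter (fun C => ∀ g : G, ConjClasses.mk g = C → ∀ c : Ω, g • c ≠ c)

theorem invert_product {v w : G} (hv : orderOf v = 2) (hw : orderOf w = 2) :
    v * (v * w) * v⁻¹ = (v * w)⁻¹ := by
  have h1 : v⁻¹ = v := invol_inv hv
  have h2 : w⁻¹ = w := invol_inv hw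
  rw [mul_inv_rev, h1, h2, ← mul_assoc, invol_mul_self hv, one_mul]

/-- The pairs of involutions with product in a fixed class are at most `|G|`. -/
theorem card_pairs_conj_le (g₀ : G) :
    ((invs G ×ˢ invs G).filter (fun x => IsConj (x.1 * x.2) g₀)).card ≤ Nat.card G := by
  by_cases hne : ∃ x : G × G, x ∈ (invs G ×ˢ invs G) ∧ IsConj (x.1 * x.2) g₀
  swap
  · rw [Finset.filter_false_of_mem (fun x hx h => hne ⟨x, hx, h⟩)]
    simp
  obtain ⟨⟨v₁, w₁⟩, hx₁, hc₁⟩ := hne
  rw [Finset.mem_product] at hx₁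
  have hv₁ : orderOf v₁ = 2 := mem_invs.1 hx₁.1
  have hw₁ : orderOf w₁ = 2 := mem_invs.1 hx₁.2
  -- an involution inverting `g₀`
  obtain ⟨y₁, hy₁⟩ := isConj_iff.1 hc₁
  set v₀ := y₁ * v₁ * y₁⁻¹ with hv₀
  have hv₀inv : v₀ * g₀ * v₀⁻¹ = g₀⁻¹ := by
    have h1 := invert_product hv₁ hw₁
    rw [← hy₁, hv₀]
    calc y₁ * v₁ * y₁⁻¹ * (y₁ * (v₁ * w₁) * y₁⁻¹) * (y₁ * v₁ * y₁⁻¹)⁻¹
        = y₁ * (v₁ * (v₁ * w₁) * v₁⁻¹) * y₁⁻¹ := by group
      _ = (y₁ * (v₁ * w₁) * y₁⁻¹)⁻¹ := by rw [h1]; group
  -- representatives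
  have hex : ∀ g : G, ∃ y : G, IsConj g g₀ → y * g₀ * y⁻¹ = g := by
    intro g
    by_cases hg : IsConj g g₀
    · obtain ⟨y, hy⟩ := isConj_iff.1 hg.symm
      exact ⟨y, fun _ => hy⟩
    · exact ⟨1, fun h => absurd h hg⟩
  choose y hy using hex
  have hkey : ∀ x ∈ (invs G ×ˢ invs G).filter (fun x => IsConj (x.1 * x.2) g₀),
      (y (x.1 * x.2) * (v₀ * (y (x.1 * x.2))⁻¹ * x.1 * y (x.1 * x.2))) * g₀ *
        (y (x.1 * x.2) * (v₀ * (y (x.1 * x.2))⁻¹ * x.1 * y (x.1 * x.2)))⁻¹ = x.1 * x.2 := by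
    rintro ⟨v, w⟩ hx
    rw [mem_filter, mem_product] at hx
    obtain ⟨⟨hv, hw⟩, hc⟩ := hx
    have hv : orderOf v = 2 := mem_invs.1 hv
    have hw : orderOf w = 2 := mem_invs.1 hw
    simp only at hc ⊢
    have h1 := hy (v * w) hc
    set u := y (v * w) with hu
    have h2 := invert_product hv hw
    rw [← h1] at h2
    have h3 : (u⁻¹ * v * u) * g₀ * (u⁻¹ * v * u)⁻¹ = g₀⁻¹ := by
      calc (u⁻¹ * v * u) * g₀ * (u⁻¹ * v * u)⁻¹ = u⁻¹ * (v * (u * g₀ * u⁻¹) * v⁻¹) * u := by group
        _ = g₀⁻¹ := by rw [h2]; group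
    have h4 : (v₀ * u⁻¹ * v * u) * g₀ * (v₀ * u⁻¹ * v * u)⁻¹ = g₀ := by
      calc (v₀ * u⁻¹ * v * u) * g₀ * (v₀ * u⁻¹ * v * u)⁻¹
          = v₀ * ((u⁻¹ * v * u) * g₀ * (u⁻¹ * v * u)⁻¹) * v₀⁻¹ := by group
        _ = (v₀ * g₀ * v₀⁻¹)⁻¹ := by rw [h3]; group
        _ = g₀ := by rw [hv₀inv, inv_inv]
    rw [← h1]
    calc u * (v₀ * u⁻¹ * v * u) * g₀ * (u * (v₀ * u⁻¹ * v * u))⁻¹
        = u * ((v₀ * u⁻¹ * v * u) * g₀ * (v₀ * u⁻¹ * v * u)⁻¹) * u⁻¹ := by group
      _ = u * g₀ * u⁻¹ := by rw [h4]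
  have hcardG : Nat.card G = (univ : Finset G).card := by simp [Nat.card_eq_fintype_card]
  rw [hcardG]
  apply Finset.card_le_card_of_injOn
    (fun x => y (x.1 * x.2) * (v₀ * (y (x.1 * x.2))⁻¹ * x.1 * y (x.1 * x.2)))
  · intro _ _
    exact mem_univ _
  · intro x hx x' hx' heq
    have h1 := hkey x hx
    have h2 := hkey x' hx'
    simp only at heq
    have hg : x.1 * x.2 = x'.1 * x'.2 := by rw [← h1, ← h2, heq]
    rw [hg] at heq
    have h3 := mul_left_cancel (mul_right_cancel (mul_left_cancel heq))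
    apply Prod.ext h3
    rw [h3] at hg
    exact mul_left_cancel hg

theorem card_fpfPairs_le : (fpfPairs G Ω).card ≤ Nat.card G * (fpfClasses G Ω).card := by
  have h1 := Finset.card_le_mul_card_image (f := fun x : G × G => ConjClasses.mk (x.1 * x.2))
    (fpfPairs G Ω) (Nat.card G) (by
      intro C hC
      obtain ⟨x, hx, rfl⟩ := Finset.mem_image.1 hC
      refine (card_le_card ?_).trans (card_pairs_conj_le (x.1 * x.2))
      intro z hz
      rw [mem_filter] at hz ⊢
      exact ⟨(mem_filter.1 hz.1).1, ConjClasses.mk_eq_mk_iff_isConj.1 hz.2⟩)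
  refine h1.trans (Nat.mul_le_mul_left _ (Finset.card_le_card ?_))
  intro C hC
  obtain ⟨x, hx, rfl⟩ := Finset.mem_image.1 hC
  rw [fpfClasses, mem_filter]
  refine ⟨mem_univ _, ?_⟩
  intro g hg c hc
  obtain ⟨y, hy⟩ := isConj_iff.1 (ConjClasses.mk_eq_mk_iff_isConj.1 hg)
  have hx' := (mem_filter.1 hx).2 (y • c)
  apply hx'
  rw [← hy, mul_smul, mul_smul, inv_smul_smul, hc]

/-- Ordered pairs of distinct involutions swapping two points. -/
noncomputable def pairsB (G Ω : Type*) [Group G] [MulAction G Ω] [Fintype G] [Fintype Ω] :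
    Finset (G × G) :=
  (invs G ×ˢ invs G).filter (fun x => x.1 ≠ x.2 ∧ ∃ c : Ω, x.1 • c = x.2 • c ∧ x.1 • c ≠ c)

/-- Ordered pairs of distinct involutions with a common fixed point. -/
noncomputable def pairsA (G Ω : Type*) [Group G] [MulAction G Ω] [Fintype G] [Fintype Ω] :
    Finset (G × G) :=
  univ.biUnion (fun c : Ω => (fib (G := G) c c).offDiag)

section Ctx

variable (hC : Ctx G Ω)
include hC

theorem two_mul_card_B {a b : Ω} (hab : a ≠ b) {h e : ℕ} (hh : Fintype.card Ω = h + 1)
    (he : Nat.card (E (G := G) a b) = e) :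
    2 * (pairsB G Ω).card ≤ (h + 1) * h * (e * e - e) := by
  set T : Finset (Ω × Ω) := (univ : Finset Ω).offDiag with hT
  let r : G × G → Ω × Ω → Prop := fun x y => x ∈ (fib (G := G) y.1 y.2).offDiag
  have h1 := Finset.sum_card_bipartiteAbove_eq_sum_card_bipartiteBelow (s := pairsB G Ω) (t := T) r
  have h2 : (pairsB G Ω).card • 2 ≤ ∑ x ∈ pairsB G Ω, (T.bipartiteAbove r x).card := by
    apply Finset.card_nsmul_le_sum
    rintro ⟨v, w⟩ hx
    simp only [pairsB, mem_filter, mem_product, mem_invs] at hx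
    obtain ⟨⟨hv, hw⟩, hne, c, hc1, hc2⟩ := hx
    change 2 ≤ _
    have h3 : 1 < (T.bipartiteAbove r (v, w)).card := by
      rw [Finset.one_lt_card]
      refine ⟨(c, v • c), ?_, (v • c, c), ?_, ?_⟩
      · simp only [bipartiteAbove, mem_filter, hT, mem_offDiag, mem_univ, true_and, r, mem_fib]
        exact ⟨Ne.symm hc2, ⟨hv, trivial⟩, ⟨hw, hc1.symm⟩, hne⟩
      · simp only [bipartiteAbove, mem_filter, hT, mem_offDiag, mem_univ, true_and, r, mem_fib]
        refine ⟨hc2, ⟨hv, invol_swap hv rfl⟩, ⟨hw, ?_⟩, hne⟩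
        exact invol_swap hw hc1.symm
      · intro heq
        exact hc2 (congrArg Prod.snd heq)
    omega
  have h4 : ∀ y ∈ T, (( pairsB G Ω).bipartiteBelow r y).card ≤ e * e - e := by
    rintro ⟨c, d⟩ hy
    have hcd : c ≠ d := by simpa [hT] using hy
    have h5 : (fib (G := G) c d).offDiag.card = e * e - e := by
      rw [Finset.offDiag_card, card_fib hC hcd, card_E_eq hC.hZ hab hcd, he]
    rw [← h5]
    apply Finset.card_le_card
    intro x hx
    exact (mem_filter.1 hx).2
  have h5 : ∑ y ∈ T, ((pairsB G Ω).bipartiteBelow r y).card ≤ T.card • (e * e - e) :=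
    Finset.sum_le_card_nsmul _ _ _ h4
  have h6 : T.card = (h + 1) * h := by
    rw [hT, Finset.offDiag_card, Finset.card_univ, hh, Nat.mul_succ]
    simp [Nat.mul_comm]
  rw [h6, smul_eq_mul] at h5
  rw [smul_eq_mul] at h2
  linarith

theorem card_A_le {a : Ω} {h : ℕ} (hh : Fintype.card Ω = h + 1) :
    (pairsA G Ω).card ≤ (h + 1) * ((fib (G := G) a a).card * (fib (G := G) a a).card
      - (fib (G := G) a a).card) := by
  refine Finset.card_biUnion_le.trans ?_
  have h1 : ∀ c ∈ (univ : Finset Ω), (fib (G := G) c c).offDiag.card =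
      (fib (G := G) a a).card * (fib (G := G) a a).card - (fib (G := G) a a).card := by
    intro c _
    rw [Finset.offDiag_card, card_fib_self hC a c]
  rw [Finset.sum_congr rfl h1, Finset.sum_const, smul_eq_mul, Finset.card_univ, hh]

/-- The main count of pairs of involutions. -/
theorem pairs_bound :
    (invs G).card * (invs G).card ≤ (fpfPairs G Ω).card + (invs G).card + (pairsA G Ω).card +
      (pairsB G Ω).card := by
  have h1 : invs G ×ˢ invs G ⊆ fpfPairs G Ω ∪ ((invs G).diag ∪ (pairsA G Ω ∪ pairsB G Ω)) := by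
    rintro ⟨v, w⟩ hx
    rw [mem_product] at hx
    obtain ⟨hv, hw⟩ := hx
    have hv' : orderOf v = 2 := mem_invs.1 hv
    have hw' : orderOf w = 2 := mem_invs.1 hw
    simp only [mem_union]
    by_cases hf : ∀ c : Ω, (v * w) • c ≠ c
    · left
      simp only [fpfPairs, mem_filter, mem_product]
      exact ⟨⟨hv, hw⟩, hf⟩
    right
    by_cases hvw : v = w
    · left
      subst hvw
      exact mem_diag.2 ⟨hv, rfl⟩
    right
    push Not at hf
    obtain ⟨c, hc⟩ := hf
    have h2 : w • c = v • c := by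
      rw [mul_smul, smul_eq_iff_eq_inv_smul, invol_inv hv'] at hc
      exact hc
    by_cases h3 : v • c = c
    · left
      simp only [pairsA, mem_biUnion, mem_univ, true_and, mem_offDiag, mem_fib]
      exact ⟨c, ⟨hv', h3⟩, ⟨hw', h2.trans h3⟩, hvw⟩
    · right
      simp only [pairsB, mem_filter, mem_product]
      exact ⟨⟨hv, hw⟩, hvw, c, h2.symm, h3⟩
  have h2 := Finset.card_le_card h1
  rw [Finset.card_product] at h2
  have h3 := card_union_le (fpfPairs G Ω) ((invs G).diag ∪ (pairsA G Ω ∪ pairsB G Ω))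
  have h4 := card_union_le ((invs G).diag) (pairsA G Ω ∪ pairsB G Ω)
  have h5 := card_union_le (pairsA G Ω) (pairsB G Ω)
  rw [Finset.diag_card] at h4
  omega

/-- At least `(e + 1) / 2` classes without fixed points. -/
theorem two_mul_card_fpfClasses {a b : Ω} (hab : a ≠ b) :
    Nat.card (E (G := G) a b) + 1 ≤ 2 * (fpfClasses G Ω).card := by
  obtain ⟨h, hh⟩ : ∃ h, Fintype.card Ω = h + 1 := ⟨Fintype.card Ω - 1, by
    have := Fintype.card_pos_iff.2 ⟨a⟩
    omega⟩
  set e := Nat.card (E (G := G) a b) with he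
  have hle := card_E_le hC.hZ hab
  rw [← he] at hle
  have hepos : 0 < e := Nat.card_pos
  have hG := card_G hC.hZ hab
  rw [← he, hh] at hG
  simp only [Nat.add_sub_cancel] at hG
  have h1 := pairs_bound (G := G) hC
  have h2 := card_A_le (G := G) hC (a := a) hh
  have h3 := two_mul_card_B (G := G) hC hab hh he.symm
  have h4 := card_fpfPairs_le (G := G) (Ω := Ω)
  rw [hG] at h4
  have h5 := card_invs_eq (G := G) hC hab hh
  rw [← he] at h5
  set F := (fpfClasses G Ω).card
  set y := e * e - e with hy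
  have hy' : y + e = e * e := by
    rw [hy]
    exact Nat.sub_add_cancel (Nat.le_mul_self e)
  have hhpos : 0 < h := by omega
  have hprod : 0 < (h + 1) * h * e := by positivity
  split_ifs at h5 with hev
  · -- `h` even
    have hodd : Odd (Fintype.card Ω) := by rw [hh]; exact hev.add_one
    have h6 := card_fib_self_of_odd (G := G) hC hodd hab
    rw [← he] at h6
    rw [h6, ← hy] at h2
    rw [h5] at h1
    -- `2 * P ≥ (h+1) h e (e+1)`
    have h7 : (h + 1) * h * e * (e + 1) ≤ (h + 1) * h * e * (2 * F) := by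
      nlinarith
    exact Nat.le_of_mul_le_mul_left h7 hprod
  · have heven : Even (Fintype.card Ω) := by
      rw [hh]; exact (Nat.not_even_iff_odd.1 hev).add_one
    have h6 := fib_self_empty (G := G) hC heven a
    rw [h6] at h2
    simp only [card_empty, mul_zero, Nat.sub_zero] at h2
    rw [h5] at h1
    have hodde : Odd e := hC.odd hab
    obtain ⟨k, hk⟩ := hodde
    by_contra hcon
    have h8 : 2 * F + 2 ≤ e + 1 := by omega
    obtain ⟨g, rfl⟩ : ∃ g, h = g + 1 := ⟨h - 1, by omega⟩
    have h7 : (g + 1) * e * ((e + 1) * g) ≤ (g + 1) * e * ((g + 1 + 1) * (2 * F)) := by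
      have h10 : (g + 1 + 1) * (g + 1) * (y + e) = (g + 1 + 1) * (g + 1) * (e * e) := by rw [hy']
      nlinarith
    have h9 : (e + 1) * g ≤ (g + 1 + 1) * (2 * F) := Nat.le_of_mul_le_mul_left h7 (by positivity)
    have h10 : (g + 1 + 1) * (2 * F + 2) ≤ (g + 1 + 1) * (e + 1) := Nat.mul_le_mul_left _ h8
    nlinarith

end Ctx

end Cfsg.Agent.Lib.Zass.InvCount
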