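import Mathlib

/-!
# The algebra of the "special" lemma

Abstract data: a function `s` on a module, a transversal `Φ`, a group `D` of scalars.  The functional
equation forces `s (-y) = y` on `Φ`.
-/

set_option autoImplicit false
set_option linter.unusedSectionVars false
set_option linter.unusedVariables false
set_option linter.style.haveILetI false

namespace Cfsg.Agent.Lib.Zass.HardSpecial

universe u v

/-- Abstract data. -/
structure Data (Λ : Type u) (A : Type v) [CommRing Λ] [AddCommGroup A] [Module Λ A] where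
  s : A → A
  Φ : Set A
  D : Subgroup Λˣ
  s_ne : ∀ x, x ≠ 0 → s x ≠ 0
  s_s : ∀ x, x ≠ 0 → s (s x) = x
  Φ_ne : ∀ y ∈ Φ, y ≠ 0
  Φ_neg : ∀ y ∈ Φ, -y ∈ Φ
  Φ_s : ∀ y ∈ Φ, s y ∈ Φ
  δ3 : ∀ y ∈ Φ, s (- s (- s (- y))) = y
  s_D : ∀ h ∈ D, ∀ x, x ≠ 0 → s ((h : Λ) • x) = ((h⁻¹ : Λˣ) : Λ) • s x
  law : ∀ y ∈ Φ, ∀ v, v ≠ 0 → y + v ≠ 0 → s (y + v) = s y + s (s v - s (-y))
  trans : ∀ x, x ≠ 0 → ∃ g ∈ D, ∃ y ∈ Φ, x = (g : Λ) • y

namespace Data

variable {Λ : Type u} {A : Type v} [CommRing Λ] [AddCommGroup A] [Module Λ A] (T : Data Λ A)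

/-- The map `δ = s ∘ (-1)`. -/
def δ (y : A) : A := T.s (-y)

theorem δ_mem {y : A} (hy : y ∈ T.Φ) : T.δ y ∈ T.Φ := T.Φ_s _ (T.Φ_neg _ hy)

theorem δ_three {y : A} (hy : y ∈ T.Φ) : T.δ (T.δ (T.δ y)) = y := T.δ3 y hy

theorem s_neg {y : A} : T.s (-y) = T.δ y := rfl

theorem neg_ne {y : A} (hy : y ∈ T.Φ) : -y ≠ 0 := neg_ne_zero.mpr (T.Φ_ne y hy)

/-- `s (δ y) = -y`. -/
theorem s_δ {y : A} (hy : y ∈ T.Φ) : T.s (T.δ y) = -y := T.s_s _ (T.neg_ne hy)

/-- `s y = - δ δ y`. -/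
theorem s_eq {y : A} (hy : y ∈ T.Φ) : T.s y = - T.δ (T.δ y) := by
  have h1 : T.δ (T.δ (T.δ y)) = y := T.δ_three hy
  have h2 := T.s_δ (T.δ_mem (T.δ_mem hy))
  rwa [h1] at h2

theorem s_inj {x y : A} (hx : x ≠ 0) (hy : y ≠ 0) (h : T.s x = T.s y) : x = y := by
  rw [← T.s_s x hx, ← T.s_s y hy, h]

theorem smul_ne {h : Λˣ} {x : A} (hx : x ≠ 0) : (h : Λ) • x ≠ 0 := by
  intro h0
  apply hx
  have : ((h⁻¹ : Λˣ) : Λ) • ((h : Λ) • x) = x := by
    rw [smul_smul, Units.inv_mul, one_smul]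
  rw [← this, h0, smul_zero]

/-- The two-step law. -/
theorem two_step {a a' : A} (ha : a ∈ T.Φ) (ha' : a' ∈ T.Φ) {h : Λˣ} (hh : h ∈ T.D)
    (hne : a + (h : Λ) • a' ≠ 0) :
    T.s (a + (h : Λ) • a') = - T.δ (T.δ a) + (h : Λ) • a' +
        ((h : Λ) * h) • T.s (T.δ (T.δ a) + (h : Λ) • T.δ a') ∧
      T.δ (T.δ a) + (h : Λ) • T.δ a' ≠ 0 := by
  set b := T.δ a with hb
  set c := T.δ b with hc
  set b' := T.δ a' with hb'
  set c' := T.δ b' with hc'
  have hbm : b ∈ T.Φ := T.δ_mem ha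
  have hcm : c ∈ T.Φ := T.δ_mem hbm
  have hb'm : b' ∈ T.Φ := T.δ_mem ha'
  have hc'm : c' ∈ T.Φ := T.δ_mem hb'm
  have hh' : h⁻¹ ∈ T.D := T.D.inv_mem hh
  have hinv : ((h⁻¹ : Λˣ) : Λ) * h = 1 := Units.inv_mul h
  have hinv2 : (h : Λ) * ((h⁻¹ : Λˣ) : Λ) = 1 := Units.mul_inv h
  have hv : (h : Λ) • a' ≠ 0 := smul_ne (T.Φ_ne _ ha')
  -- first application
  have h1 := T.law a ha _ hv hne
  have hsv : T.s ((h : Λ) • a') = ((h⁻¹ : Λˣ) : Λ) • (- c') := by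
    rw [T.s_D h hh _ (T.Φ_ne _ ha'), T.s_eq ha']
  have hin1 : T.s ((h : Λ) • a') - T.s (-a) ≠ 0 := by
    intro h0
    have := T.s_inj hv (T.neg_ne ha) (sub_eq_zero.mp h0)
    apply hne
    rw [this]
    exact add_neg_cancel a
  set Z := - c' + (h : Λ) • (- b) with hZ
  have hin1' : T.s ((h : Λ) • a') - T.s (-a) = ((h⁻¹ : Λˣ) : Λ) • Z := by
    rw [hsv, T.s_neg, ← hb, hZ, smul_add, smul_smul, hinv, one_smul, sub_eq_add_neg]
  have hZ0 : Z ≠ 0 := by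
    intro h0
    apply hin1
    rw [hin1', h0, smul_zero]
  have hsZ : T.s (T.s ((h : Λ) • a') - T.s (-a)) = (h : Λ) • T.s Z := by
    rw [hin1', T.s_D _ hh' _ hZ0, inv_inv]
  -- second application
  have hmc' : - c' ∈ T.Φ := T.Φ_neg _ hc'm
  have hmb : - b ∈ T.Φ := T.Φ_neg _ hbm
  have hv2 : (h : Λ) • (- b) ≠ 0 := smul_ne (T.Φ_ne _ hmb)
  have h2 := T.law (- c') hmc' _ hv2 hZ0
  have hsv2 : T.s ((h : Λ) • (- b)) = ((h⁻¹ : Λˣ) : Λ) • c := by
    rw [T.s_D h hh _ (T.Φ_ne _ hmb), T.s_neg]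
  have hs1 : T.s (- c') = a' := T.δ_three ha'
  have hs2 : T.s (- - c') = - b' := by
    rw [neg_neg]
    exact T.s_δ hb'm
  have hin2 : T.s ((h : Λ) • (- b)) - T.s (- - c') ≠ 0 := by
    intro h0
    have := T.s_inj hv2 (T.neg_ne hmc') (sub_eq_zero.mp h0)
    apply hZ0
    rw [hZ, this]
    exact add_neg_cancel _
  set Z2 := c + (h : Λ) • b' with hZ2
  have hin2' : T.s ((h : Λ) • (- b)) - T.s (- - c') = ((h⁻¹ : Λˣ) : Λ) • Z2 := by
    rw [hsv2, hs2, hZ2, smul_add, smul_smul, hinv, one_smul, sub_neg_eq_add]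
  have hZ20 : Z2 ≠ 0 := by
    intro h0
    apply hin2
    rw [hin2', h0, smul_zero]
  have hsZ2 : T.s (T.s ((h : Λ) • (- b)) - T.s (- - c')) = (h : Λ) • T.s Z2 := by
    rw [hin2', T.s_D _ hh' _ hZ20, inv_inv]
  refine ⟨?_, hZ20⟩
  rw [h1, hsZ, T.s_eq ha, h2, hsZ2, hs1]
  module

/-- Six steps: the closed formula. -/
theorem six_step {a a' : A} (ha : a ∈ T.Φ) (ha' : a' ∈ T.Φ) {h : Λˣ} (hh : h ∈ T.D)
    (hne : a + (h : Λ) • a' ≠ 0) :
    T.s (a + (h : Λ) • a') =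
      - T.δ (T.δ a) + (h : Λ) • a' - (h : Λ) ^ 2 • T.δ a + (h : Λ) ^ 3 • T.δ a'
        - (h : Λ) ^ 4 • a + (h : Λ) ^ 5 • T.δ (T.δ a') + (h : Λ) ^ 6 • T.s (a + (h : Λ) • a') := by
  have hb := T.δ_mem ha
  have hc := T.δ_mem hb
  have hb' := T.δ_mem ha'
  have hc' := T.δ_mem hb'
  obtain ⟨h1, hne1⟩ := T.two_step ha ha' hh hne
  obtain ⟨h2, hne2⟩ := T.two_step hc hb' hh hne1
  have e1 : T.δ (T.δ (T.δ (T.δ a))) = T.δ a := T.δ_three hb
  rw [e1] at h2 hne2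
  obtain ⟨h3, -⟩ := T.two_step hb hc' hh hne2
  have e2 : T.δ (T.δ (T.δ a)) = a := T.δ_three ha
  have e3 : T.δ (T.δ (T.δ a')) = a' := T.δ_three ha'
  rw [e2, e3] at h3
  nth_rw 1 [h1]
  rw [h2, h3]
  module

/-- The sum over a `δ`-orbit. -/
def σ (y : A) : A := y + T.δ y + T.δ (T.δ y)

/-- With `h = 1`: `σ` is constant on pairs with nonzero sum. -/
theorem σ_eq {a a' : A} (ha : a ∈ T.Φ) (ha' : a' ∈ T.Φ) (hne : a + a' ≠ 0) : T.σ a = T.σ a' := by
  have h1 := T.six_step ha ha' (T.D.one_mem) (h := 1) (by simpa using hne)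
  simp only [Units.val_one, one_pow, one_smul] at h1
  have h2 : T.σ a - T.σ a' = 0 := by
    have h3 : T.σ a - T.σ a' =
      (T.s (a + a') - (- T.δ (T.δ a) + a' - T.δ a + T.δ a' - a + T.δ (T.δ a') + T.s (a + a')))
        := by
      unfold σ
      abel
    rw [h3]
    exact sub_eq_zero.mpr h1
  exact sub_eq_zero.mp h2

theorem δ_neg {y : A} (hy : y ∈ T.Φ) : T.δ (-y) = - T.δ (T.δ y) := by
  show T.s (- - y) = _
  rw [neg_neg, T.s_eq hy]

theorem δ_neg' {y : A} (hy : y ∈ T.Φ) : T.δ (- T.δ (T.δ y)) = - T.δ y := by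
  have h := T.δ_neg (T.δ_mem (T.δ_mem hy))
  rw [T.δ_three (T.δ_mem hy)] at h
  exact h

theorem σ_neg {y : A} (hy : y ∈ T.Φ) : T.σ (-y) = - T.σ y := by
  unfold σ
  rw [T.δ_neg hy, T.δ_neg' hy]
  abel

/-- If `2` is injective and some `a` is not `δ`-fixed, then `σ` vanishes. -/
theorem σ_zero (h2 : ∀ x : A, x + x = 0 → x = 0) {a : A} (ha : a ∈ T.Φ) (hne : T.δ a ≠ a)
    {y : A} (hy : y ∈ T.Φ) : T.σ y = 0 := by
  have hb := T.δ_mem ha
  have hσa : T.σ a = 0 := by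
    apply h2
    have h1 : T.σ a = T.σ (- T.δ a) := T.σ_eq ha (T.Φ_neg _ hb) (by
      intro h
      apply hne
      exact (sub_eq_zero.mp (by rw [← h]; abel)).symm)
    have h3 : T.σ (- T.δ a) = - T.σ a := by
      rw [T.σ_neg hb]
      congr 1
      unfold σ
      rw [T.δ_three ha]
      abel
    rw [h3] at h1
    nth_rw 1 [h1]
    abel
  by_cases h0 : a + y = 0
  · have : y = -a := eq_neg_of_add_eq_zero_right h0
    rw [this, T.σ_neg ha, hσa, neg_zero]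
  · rw [← T.σ_eq ha hy h0, hσa]


/-- The basic consequence of the vanishing of `σ` (up to the factor `1 - h²`). -/
theorem key_I (hσ : ∀ y ∈ T.Φ, T.σ y = 0) {a a' y₀ : A} (ha : a ∈ T.Φ) (ha' : a' ∈ T.Φ)
    (hy₀ : y₀ ∈ T.Φ) {h g : Λˣ} (hh : h ∈ T.D) (hg : g ∈ T.D) (hX : a + (h : Λ) • a' = (g : Λ) • y₀) :
    (1 - (h : Λ) ^ 2) • ((1 + (h : Λ) ^ 2 + (h : Λ) ^ 4) • (((g⁻¹ : Λˣ) : Λ) • y₀)
      - ((1 + 2 * (h : Λ) ^ 2) • a + (2 * (h : Λ) + (h : Λ) ^ 3) • a')) = 0 := by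
  have hne : a + (h : Λ) • a' ≠ 0 := by
    rw [hX]
    exact smul_ne (T.Φ_ne _ hy₀)
  have hne2 : - a + (h : Λ) • (- a') ≠ 0 := by
    intro h0
    apply hne
    have : - a + (h : Λ) • (- a') = - (a + (h : Λ) • a') := by module
    rw [this] at h0
    exact neg_eq_zero.mp h0
  have h1 := T.six_step ha ha' hh hne
  have h2 := T.six_step (T.Φ_neg _ ha) (T.Φ_neg _ ha') hh hne2
  rw [T.δ_neg ha, T.δ_neg' ha, T.δ_neg ha', T.δ_neg' ha'] at h2
  have hmX : - a + (h : Λ) • (- a') = (g : Λ) • (- y₀) := by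
    have : - a + (h : Λ) • (- a') = - (a + (h : Λ) • a') := by module
    rw [this, hX, smul_neg]
  rw [hmX, T.s_D g hg _ (T.neg_ne hy₀), T.s_neg] at h2
  rw [hX, T.s_D g hg _ (T.Φ_ne _ hy₀), T.s_eq hy₀] at h1
  have e1 := hσ a ha
  have e2 := hσ a' ha'
  have e3 := hσ y₀ hy₀
  unfold σ at e1 e2 e3
  set b := T.δ a
  set c := T.δ b
  set b' := T.δ a'
  set c' := T.δ b'
  set b₀ := T.δ y₀
  set c₀ := T.δ b₀
  have ec : c = - a - b := by
    rw [eq_sub_iff_add_eq, eq_neg_iff_add_eq_zero, ← e1]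
    abel
  have ec' : c' = - a' - b' := by
    rw [eq_sub_iff_add_eq, eq_neg_iff_add_eq_zero, ← e2]
    abel
  have ec₀ : c₀ = - y₀ - b₀ := by
    rw [eq_sub_iff_add_eq, eq_neg_iff_add_eq_zero, ← e3]
    abel
  clear_value c c' c₀
  subst ec ec' ec₀
  set U := ((g⁻¹ : Λˣ) : Λ) • y₀ with hU
  set B := ((g⁻¹ : Λˣ) : Λ) • b₀ with hB
  have h1' : U + B = - (- a - b) + (h : Λ) • a' - (h : Λ) ^ 2 • b + (h : Λ) ^ 3 • b'
      - (h : Λ) ^ 4 • a + (h : Λ) ^ 5 • (- a' - b') + (h : Λ) ^ 6 • (U + B) := by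
    have e : ((g⁻¹ : Λˣ) : Λ) • - (- y₀ - b₀) = U + B := by
      rw [hU, hB]
      module
    rw [e] at h1
    exact h1
  have h2' : B = - - b + (h : Λ) • - a' - (h : Λ) ^ 2 • - (- a - b) + (h : Λ) ^ 3 • - (- a' - b')
      - (h : Λ) ^ 4 • - a + (h : Λ) ^ 5 • - b' + (h : Λ) ^ 6 • B := by
    exact h2
  linear_combination (norm := module) h1' - h2'


section Field

variable {K : Type u} {V : Type v} [Field K] [AddCommGroup V] [Module K V] (T : Data K V)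

/-- If `h` has order three then `δ` is trivial. -/
theorem δ_eq_of_order_three (h2 : (2 : K) ≠ 0) (hsep : ∀ g ∈ T.D, ∀ y ∈ T.Φ, ∀ y' ∈ T.Φ, (g : K) • y = y' → g = 1)
    {h : Kˣ} (hh : h ∈ T.D) (h1 : h ≠ 1) (h3 : (h : K) ^ 3 = 1) (hsq : (h : K) ^ 2 ≠ 1)
    {a : V} (ha : a ∈ T.Φ) : T.δ a = a := by
  have hne : a + (h : K) • a ≠ 0 := by
    intro h0
    have h4 : (h : K) • a = -a := (eq_neg_of_add_eq_zero_right h0)
    exact h1 (hsep h hh a ha _ (T.Φ_neg _ ha) h4)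
  have h5 := T.six_step ha ha hh hne
  have e4 : (h : K) ^ 4 = (h : K) := by
    calc (h : K) ^ 4 = (h : K) ^ 3 * (h : K) := by ring
      _ = (h : K) := by rw [h3, one_mul]
  have e5 : (h : K) ^ 5 = (h : K) ^ 2 := by
    calc (h : K) ^ 5 = (h : K) ^ 3 * (h : K) ^ 2 := by ring
      _ = (h : K) ^ 2 := by rw [h3, one_mul]
  have e6 : (h : K) ^ 6 = 1 := by
    calc (h : K) ^ 6 = (h : K) ^ 3 * (h : K) ^ 3 := by ring
      _ = 1 := by rw [h3, one_mul]
  rw [h3, e4, e5, e6, one_smul] at h5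
  have h6 : (1 - (h : K) ^ 2) • (T.δ a - T.δ (T.δ a)) = 0 := by
    linear_combination (norm := module) (-1 : K) • h5
  rcases smul_eq_zero.mp h6 with h7 | h7
  · exact absurd (sub_eq_zero.mp h7).symm hsq
  · have h8 : T.δ (T.δ a) = T.δ a := (sub_eq_zero.mp h7).symm
    have h9 := T.δ_three ha
    rw [h8, h8] at h9
    exact h9


/-- The field form of the basic identity. -/
theorem key_I' (hσ : ∀ y ∈ T.Φ, T.σ y = 0) (hsq : ∀ h ∈ T.D, h ≠ 1 → (h : K) ^ 2 ≠ 1)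
    {a a' y₀ : V} (ha : a ∈ T.Φ) (ha' : a' ∈ T.Φ) (hy₀ : y₀ ∈ T.Φ) {h g : Kˣ} (hh : h ∈ T.D)
    (h1 : h ≠ 1) (hg : g ∈ T.D) (hX : a + (h : K) • a' = (g : K) • y₀) :
    (1 + (h : K) ^ 2 + (h : K) ^ 4) • (a + (h : K) • a')
      = (g : K) ^ 2 • ((1 + 2 * (h : K) ^ 2) • a + (2 * (h : K) + (h : K) ^ 3) • a') := by
  have h2 := T.key_I hσ ha ha' hy₀ hh hg hX
  rcases smul_eq_zero.mp h2 with h3 | h3
  · exact absurd (sub_eq_zero.mp h3).symm (hsq h hh h1)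
  · have h4 := sub_eq_zero.mp h3
    rw [← h4, hX, smul_smul, smul_smul, smul_smul]
    congr 1
    have : (g : K) * ((g⁻¹ : Kˣ) : K) = 1 := Units.mul_inv g
    linear_combination (-(1 + (h : K) ^ 2 + (h : K) ^ 4) * (g : K)) * this

/-- A cubic vanishing at four points. -/
theorem coeffs_zero {v₀ v₁ v₂ v₃ : V} (S : Finset K) (hS : 4 ≤ S.card)
    (h : ∀ t ∈ S, v₀ + t • v₁ + t ^ 2 • v₂ + t ^ 3 • v₃ = 0) :
    v₀ = 0 ∧ v₁ = 0 ∧ v₂ = 0 ∧ v₃ = 0 := by
  classical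
  have key : ∀ φ : Module.Dual K V, φ v₀ = 0 ∧ φ v₁ = 0 ∧ φ v₂ = 0 ∧ φ v₃ = 0 := by
    intro φ
    let P : Polynomial K := Polynomial.C (φ v₀) + Polynomial.C (φ v₁) * Polynomial.X +
      Polynomial.C (φ v₂) * Polynomial.X ^ 2 + Polynomial.C (φ v₃) * Polynomial.X ^ 3
    have hdeg : P.natDegree ≤ 3 := by
      show (Polynomial.C (φ v₀) + Polynomial.C (φ v₁) * Polynomial.X +
        Polynomial.C (φ v₂) * Polynomial.X ^ 2 + Polynomial.C (φ v₃) * Polynomial.X ^ 3).natDegree ≤ 3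
      compute_degree
    have hP : P = 0 := by
      apply Polynomial.eq_zero_of_natDegree_lt_card_of_eval_eq_zero' P S
      · intro t ht
        have h1 := congrArg φ (h t ht)
        simp only [map_add, map_smul, map_zero, smul_eq_mul] at h1
        simp only [P, Polynomial.eval_add, Polynomial.eval_mul, Polynomial.eval_C, Polynomial.eval_X,
          Polynomial.eval_pow]
        linear_combination h1
      · omega
    have hc : ∀ n, P.coeff n = 0 := fun n => by rw [hP, Polynomial.coeff_zero]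
    have c0 := hc 0
    have c1 := hc 1
    have c2 := hc 2
    have c3 := hc 3
    simp only [P, Polynomial.coeff_add, Polynomial.coeff_C_mul, Polynomial.coeff_X_pow, Polynomial.coeff_C,
      Polynomial.coeff_X] at c0 c1 c2 c3
    norm_num at c0 c1 c2 c3
    exact ⟨c0, c1, c2, c3⟩
  refine ⟨?_, ?_, ?_, ?_⟩
  · exact (Module.forall_dual_apply_eq_zero_iff K _).mp fun φ => (key φ).1
  · exact (Module.forall_dual_apply_eq_zero_iff K _).mp fun φ => (key φ).2.1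
  · exact (Module.forall_dual_apply_eq_zero_iff K _).mp fun φ => (key φ).2.2.1
  · exact (Module.forall_dual_apply_eq_zero_iff K _).mp fun φ => (key φ).2.2.2

/-- **The main lemma**: when `D` has at least four non-identity elements, there is no `a`
with `δ a ≠ a`. -/
theorem δ_eq_of_four (h2 : (2 : K) ≠ 0) (h3 : (3 : K) ≠ 0)
    (hsep : ∀ g ∈ T.D, ∀ y ∈ T.Φ, ∀ y' ∈ T.Φ, (g : K) • y = y' → g = 1)
    (hsq : ∀ h ∈ T.D, h ≠ 1 → (h : K) ^ 2 ≠ 1)
    (S : Finset K) (hS : 4 ≤ S.card) (hSD : ∀ t ∈ S, ∃ h ∈ T.D, h ≠ 1 ∧ (h : K) = t)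
    {a : V} (ha : a ∈ T.Φ) : T.δ a = a := by
  by_contra hne
  have h22 : ∀ x : V, x + x = 0 → x = 0 := by
    intro x hx
    have : (2 : K) • x = 0 := by rw [two_smul, hx]
    exact (smul_eq_zero.mp this).resolve_left h2
  have hσ : ∀ y ∈ T.Φ, T.σ y = 0 := fun y hy => T.σ_zero h22 ha hne hy
  set b := T.δ a with hb
  set c := T.δ b with hc
  have hbm : b ∈ T.Φ := T.δ_mem ha
  have hcm : c ∈ T.Φ := T.δ_mem hbm
  have hsum : a + b + c = 0 := hσ a ha
  have hcval : c = - a - b := by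
    rw [eq_sub_iff_add_eq, eq_neg_iff_add_eq_zero, ← hsum]
    abel
  have hb0 : b ≠ 0 := T.Φ_ne _ hbm
  -- the polynomial relation
  have hrel : ∀ t ∈ S, (a + (2 : K) • b) + t • ((4 : K) • a + (2 : K) • b) + t ^ 2 • ((2 : K) • a + (4 : K) • b)
      + t ^ 3 • ((2 : K) • a + b) = 0 := by
    intro t ht
    obtain ⟨h, hh, h1, rfl⟩ := hSD t ht
    set u : K := (h : K) with hu
    have hu0 : u ≠ 0 := h.ne_zero
    have hu2 : u ^ 2 ≠ 1 := hsq h hh h1
    have hu1 : u - 1 ≠ 0 := by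
      intro h0
      apply hu2
      have : u = 1 := sub_eq_zero.mp h0
      rw [this, one_pow]
    have huneg : u + 1 ≠ 0 := by
      intro h0
      apply hu2
      have : u = -1 := eq_neg_of_add_eq_zero_left h0
      rw [this]
      norm_num
    have hqq : u ^ 2 - u + 1 ≠ 0 := by
      intro h0
      have e1 : u ^ 3 = -1 := by linear_combination (u + 1) * h0
      have hD : h ^ 3 ∈ T.D := T.D.pow_mem hh 3
      have hne3 : h ^ 3 = 1 := by
        by_contra h3ne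
        apply hsq _ hD h3ne
        rw [Units.val_pow_eq_pow_val, ← hu, e1]
        norm_num
      have e2 : u ^ 3 = 1 := by
        have := congrArg (fun z : Kˣ => (z : K)) hne3
        simpa using this
      rw [e1] at e2
      have : (2 : K) = 0 := by linear_combination -e2
      exact h2 this
    -- the value at `(h - 1) b`
    have hYne : (u - 1) • b ≠ 0 := smul_ne_zero hu1 hb0
    obtain ⟨g, hg, y₀, hy₀, hY⟩ := T.trans _ hYne
    have hY' : - b + u • b = (g : K) • y₀ := by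
      rw [← hY]
      module
    have hJ := T.key_I' hσ hsq (T.Φ_neg _ hbm) hbm hy₀ hh h1 hg hY'
    have hgval : (g : K) ^ 2 = 1 + u + u ^ 2 := by
      have h5 : ((1 + u ^ 2 + u ^ 4) * (u - 1) - (g : K) ^ 2 * ((u - 1) * (u ^ 2 - u + 1))) • b = 0 := by
        linear_combination (norm := module) hJ
      have h6 := (smul_eq_zero.mp h5).resolve_right hb0
      have h7 : ((u - 1) * (u ^ 2 - u + 1)) * (1 + u + u ^ 2 - (g : K) ^ 2) = 0 := by
        linear_combination h6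
      have h8 := (mul_eq_zero.mp h7).resolve_left (mul_ne_zero hu1 hqq)
      exact (sub_eq_zero.mp h8).symm
    have hg1 : g ≠ 1 := by
      rintro rfl
      have h5 : u * (u + 1) = 0 := by
        simp only [Units.val_one, one_pow] at hgval
        linear_combination -hgval
      exact (mul_ne_zero hu0 huneg) h5
    -- the element `x = a + h b`
    have hXne : a + u • b ≠ 0 := by
      intro h0
      have h4 : u • b = -a := eq_neg_of_add_eq_zero_right h0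
      exact h1 (hsep h hh b hbm _ (T.Φ_neg _ ha) h4)
    obtain ⟨g₁, hg₁, y₁, hy₁, hX⟩ := T.trans _ hXne
    have hI1 := T.key_I' hσ hsq ha hbm hy₁ hh h1 hg₁ hX
    have hX2 : - c + (g : K) • y₀ = (g₁ : K) • y₁ := by
      rw [← hX, ← hY, hcval]
      module
    have hI2 := T.key_I' hσ hsq (T.Φ_neg _ hcm) hy₀ hy₁ hg hg1 hg₁ hX2
    set f : K := 1 + u + u ^ 2 with hf
    have hW : - c + (g : K) • y₀ = a + u • b := by rw [hX2, hX]
    have e1 : (g : K) ^ 4 = f ^ 2 := by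
      rw [← hgval]; ring
    have e2 : (2 * (g : K) + (g : K) ^ 3) • y₀ = (2 + f) • ((u - 1) • b) := by
      rw [hY, smul_smul, ← hgval]
      congr 1
      ring
    rw [hW, hgval, e1, e2, hcval] at hI2
    set n : K := (g₁ : K) ^ 2 with hn
    have hn0 : n ≠ 0 := pow_ne_zero 2 g₁.ne_zero
    have h10 : n • ((u * (u + 1)) • ((a + (2 : K) • b) + u • ((4 : K) • a + (2 : K) • b)
        + u ^ 2 • ((2 : K) • a + (4 : K) • b) + u ^ 3 • ((2 : K) • a + b))) = 0 := by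
      rw [hf] at hI2
      linear_combination (norm := module) (-(1 + (1 + u + u ^ 2) + (1 + u + u ^ 2) ^ 2)) • hI1
        + (1 + u ^ 2 + u ^ 4) • hI2
    have h11 := (smul_eq_zero.mp h10).resolve_left hn0
    exact (smul_eq_zero.mp h11).resolve_left (mul_ne_zero hu0 huneg)
  obtain ⟨h4, -, -, h5⟩ := coeffs_zero S hS hrel
  have h6 : (3 : K) • b = 0 := by
    linear_combination (norm := module) (2 : K) • h4 - h5
  exact hb0 ((smul_eq_zero.mp h6).resolve_left h3)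

end Field

end Data

end Cfsg.Agent.Lib.Zass.HardSpecial
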