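import Cfsg.Agent.Lib.Zass.Root
import Cfsg.Agent.Lib.Zass.HardSpecial

/-!
# Root data in which an involution inverts `H`

`s` is an involution interchanging `∞`, `0` and inverting `H`, and `|A|` is odd.  We prove
`μ (-z) = μ z` and set up the abstract data of `HardSpecial`.
-/

set_option autoImplicit false
set_option linter.unusedSectionVars false
set_option linter.unusedVariables false
set_option linter.style.haveILetI false

namespace Cfsg.Agent.Lib.Zass.OddSpecial

open MulAction Cfsg.Agent.Lib.Zass.Root Cfsg.Agent.Lib.Zass.Root.RootData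

universe u v w

variable {G : Type u} {Ω : Type v} {A : Type w} [Group G] [MulAction G Ω] [AddCommGroup A]
variable {R : RootData G Ω A} {s : G}

section Basic

variable (hs : R.Inv s) (hinv : ∀ g ∈ R.H, s * g * s = g⁻¹)

include hs hinv

/-- All elements of `s H` are involutions. -/
theorem sq_of_mem {m : G} (hm : m * s ∈ R.H) : m * m = 1 := by
  have h1 := hinv _ hm
  have h3 : s * (m * s) * s = s * m := by rw [mul_assoc, mul_assoc, hs.sq, mul_one]
  rw [h3] at h1
  calc m * m = (m * s) * (s * m) := by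
        rw [mul_assoc, ← mul_assoc s s m, hs.sq, one_mul]
    _ = 1 := by rw [h1, mul_inv_cancel]

theorem mu_sq {x : A} (hx : x ≠ 0) : mu s R x * mu s R x = 1 :=
  sq_of_mem hs hinv (mu_mem hs hx)

theorem mu_kap_eq {x : A} (hx : x ≠ 0) : mu s R (kap s R x) = mu s R x := by
  rw [mu_kap hs hx]
  exact inv_eq_of_mul_eq_one_left (mu_sq hs hinv hx)

omit hinv in
/-- The key construction. -/
theorem exists_E {x y : A} (hx : x ≠ 0) (hy : y ≠ 0) (hne : x ≠ y) (hmu : mu s R x = mu s R y) :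
    ∃ P Q : A, P ≠ 0 ∧ Q ≠ 0 ∧ P ≠ Q ∧ mu s R P = mu s R Q ∧ Q - P = x ∧ kap s R Q - kap s R P = y := by
  set m := mu s R x with hm
  have hmsw : R.Sw m := mu_sw hs hx
  have hmm : m * s ∈ R.H := mu_mem hs hx
  have hz : kap s R y - kap s R x ≠ 0 := by
    intro h
    apply hne
    have h1 : kap s R y = kap s R x := sub_eq_zero.mp h
    rw [← kap_kap hs hx, ← kap_kap hs hy, h1]
  set P := R.ap m (kap s R y - kap s R x) with hP
  have hP0 : P ≠ 0 := hmsw.ne_zero hz
  have hconj : m * R.τ (kap s R y - kap s R x) * m⁻¹ = br s R P := conj_tau hs hmm hmsw hz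
  set w := R.ap s x - R.ap s y with hw
  have hw0 : w ≠ 0 := by
    intro h
    exact hne (hs.ap_inj hx hy (sub_eq_zero.mp h))
  set Q := R.ap s w with hQ
  have hQ0 : Q ≠ 0 := hs.ne_zero hw0
  have hbQ : br s R Q = bB s R w := by
    rw [br_def, hQ, hs.ap_ap hw0]
  have hf1 : bB s R w = br s R x * (br s R y)⁻¹ := by
    rw [hw, bB_sub hs, br_def, br_def]
  have hbx : br s R x = R.τ x * m * R.τ (- kap s R x) := br_eq x
  have hby : br s R y = R.τ y * m * R.τ (- kap s R y) := by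
    have := br_eq (s := s) (R := R) y
    rwa [← hmu] at this
  have hτz : R.τ (kap s R y - kap s R x) = R.τ (- kap s R x) * R.τ (kap s R y) := by
    rw [← R.τ_add]
    congr 1
    abel
  have hf2 : bB s R w = R.τ x * br s R P * R.τ (-y) := by
    rw [hf1, hbx, hby, ← hconj, hτz, R.τ_neg (kap s R y), R.τ_neg y]
    group
  have h1 : R.τ Q * mu s R Q * R.τ (- kap s R Q)
      = R.τ (x + P) * mu s R P * R.τ (- kap s R P + -y) := by
    rw [← br_eq, hbQ, hf2, br_eq P, R.τ_add, R.τ_add]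
    group
  obtain ⟨h2, h3, h4⟩ := bruhat_unique (mu_sw hs hQ0) (mu_sw hs hP0) h1
  refine ⟨P, Q, hP0, hQ0, ?_, h3.symm, ?_, ?_⟩
  · intro h
    apply hx
    have : Q = x + P := h2
    rw [← h] at this
    exact (right_eq_add.mp this)
  · rw [h2]; abel
  · have h5 : kap s R Q = kap s R P + y := by
      have := neg_inj.mp (h4.trans (neg_add (kap s R P) y).symm ▸ rfl : - kap s R Q = -(kap s R P + y))
      exact this
    rw [h5]; abel

omit hinv in
/-- Differences of a fibre of `μ` again lie in a fibre. -/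
theorem mu_D [Finite A] {P Q : A} (hP : P ≠ 0) (hQ : Q ≠ 0) (hne : P ≠ Q) (hmu : mu s R P = mu s R Q) :
    mu s R (Q - P) = mu s R (kap s R Q - kap s R P) := by
  classical
  let Pi := {t : A × A // t.1 ≠ 0 ∧ t.2 ≠ 0 ∧ t.1 ≠ t.2 ∧ mu s R t.1 = mu s R t.2}
  have hex : ∀ t : Pi, ∃ t' : Pi, t'.1.2 - t'.1.1 = t.1.1 ∧ kap s R t'.1.2 - kap s R t'.1.1 = t.1.2 := by
    rintro ⟨⟨x, y⟩, hx, hy, hxy, hm⟩
    obtain ⟨P', Q', h1, h2, h3, h4, h5, h6⟩ := exists_E hs hx hy hxy hm
    exact ⟨⟨(P', Q'), h1, h2, h3, h4⟩, h5, h6⟩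
  choose E hE1 hE2 using hex
  have hinj : Function.Injective E := by
    intro t t' h
    apply Subtype.ext
    apply Prod.ext
    · rw [← hE1 t, ← hE1 t', h]
    · rw [← hE2 t, ← hE2 t', h]
  have hsurj := Finite.surjective_of_injective hinj
  obtain ⟨t, ht⟩ := hsurj ⟨(P, Q), hP, hQ, hne, hmu⟩
  have h1 := hE1 t
  have h2 := hE2 t
  rw [ht] at h1 h2
  show mu s R (Q - P) = mu s R (kap s R Q - kap s R P)
  have h1' : Q - P = t.1.1 := h1
  have h2' : kap s R Q - kap s R P = t.1.2 := h2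
  rw [h1', h2']
  exact t.2.2.2.2

/-- In odd order `κ` has no fixed points. -/
theorem kap_ne_self (hodd : ∀ x : A, x + x = 0 → x = 0) {x : A} (hx : x ≠ 0) : kap s R x ≠ x := by
  intro h
  have h1 : (br s R x)⁻¹ = br s R x := by
    rw [br_inv hs hx, h]
  have h2 : br s R x * br s R x = 1 := by
    nth_rw 1 [← h1]
    exact inv_mul_cancel _
  have h3 : br s R x * br s R x = s * R.τ (R.ap s x + R.ap s x) * s := by
    rw [br_def, bB_def, R.τ_add]
    calc s * R.τ (R.ap s x) * s * (s * R.τ (R.ap s x) * s)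
        = s * R.τ (R.ap s x) * (s * s) * R.τ (R.ap s x) * s := by group
      _ = _ := by rw [hs.sq]; group
  rw [h3] at h2
  have h4 : R.τ (R.ap s x + R.ap s x) = 1 := by
    calc R.τ (R.ap s x + R.ap s x) = s * (s * R.τ (R.ap s x + R.ap s x) * s) * s := by
          calc _ = (s * s) * R.τ (R.ap s x + R.ap s x) * (s * s) := by rw [hs.sq]; group
            _ = _ := by group
      _ = 1 := by rw [h2, mul_one, hs.sq]
  have h5 : R.ap s x + R.ap s x = 0 := by
    apply R.τ_inj
    rw [h4, R.τ_zero]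
  exact hs.ne_zero hx (hodd _ h5)

/-- The formula for `s` in terms of `ρ = 1 - κ`. -/
theorem rho_formula (hodd : ∀ x : A, x + x = 0 → x = 0) {x : A} (hx : x ≠ 0) :
    R.ap s x = kap s R (R.ap s (-(x - kap s R x))) - R.ap s (-(x - kap s R x)) := by
  have hz : x - kap s R x ≠ 0 := sub_ne_zero.mpr (Ne.symm (kap_ne_self hs hinv hodd hx))
  set z := x - kap s R x with hzdef
  have hz' : -z ≠ 0 := neg_ne_zero.mpr hz
  set u := R.ap s (-z) with hu
  have hu0 : u ≠ 0 := hs.ne_zero hz'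
  -- the involution
  set w := R.τ x * mu s R x * R.τ (-x) with hw
  have hww : w * w = 1 := by
    have hτ : R.τ (-x) = (R.τ x)⁻¹ := R.τ_neg x
    have h1 : w * w = R.τ x * (mu s R x * mu s R x) * (R.τ x)⁻¹ := by
      rw [hw, hτ]; group
    rw [h1, mu_sq hs hinv hx]
    group
  have hw2 : w = br s R x * R.τ (-z) := by
    rw [br_eq, hw, mul_assoc (R.τ x * mu s R x), ← R.τ_add]
    congr 3
    rw [hzdef]
    abel
  have hbu : br s R u = bB s R (-z) := by
    rw [br_def, hu, hs.ap_ap hz']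
  set g := R.τ (R.ap s x) * br s R u with hg
  have hgw : g = s * w * s := by
    rw [hw2, hg, hbu, br_def, bB_def, bB_def]
    calc R.τ (R.ap s x) * (s * R.τ (-z) * s)
        = (s * s) * R.τ (R.ap s x) * (s * R.τ (-z) * s) := by rw [hs.sq, one_mul]
      _ = s * (s * R.τ (R.ap s x) * s * R.τ (-z)) * s := by group
  have hgg : g * g = 1 := by
    have : s * w * s * (s * w * s) = s * w * (s * s) * w * s := by group
    rw [hgw, this, hs.sq, mul_one, mul_assoc s w w, hww, mul_one, hs.sq]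
  have h1 : g • R.inf = R.pt (R.ap s x + u) := by
    rw [hg, mul_smul, br_inf hs hu0, R.τ_pt]
  have h2 : g • R.pt (R.ap s x + u) = R.inf := by
    rw [← h1, ← mul_smul, hgg, one_smul]
  have h3 : br s R u • R.pt (R.ap s x + u) = R.inf := by
    rw [hg, mul_smul] at h2
    calc br s R u • R.pt (R.ap s x + u)
        = (R.τ (R.ap s x))⁻¹ • (R.τ (R.ap s x) • br s R u • R.pt (R.ap s x + u)) :=
          (inv_smul_smul _ _).symm
      _ = (R.τ (R.ap s x))⁻¹ • R.inf := by rw [h2]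
      _ = R.inf := by rw [inv_smul_eq_iff, R.τ_inf]
  have h4 := br_kap_inf hs hu0
  have h5 : R.pt (R.ap s x + u) = R.pt (kap s R u) := by
    apply smul_left_cancel (br s R u)
    rw [h3, h4]
  have h6 := R.pt_inj h5
  rw [← h6]
  abel

/-- `ρ = 1 - κ` is onto. -/
theorem rho_surj [Finite A] (hodd : ∀ x : A, x + x = 0 → x = 0) {z : A} (hz : z ≠ 0) :
    ∃ x : A, x ≠ 0 ∧ x - kap s R x = z := by
  classical
  let ρ : {x : A // x ≠ 0} → {x : A // x ≠ 0} := fun x =>
    ⟨x.1 - kap s R x.1, sub_ne_zero.mpr (Ne.symm (kap_ne_self hs hinv hodd x.2))⟩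
  have hinj : Function.Injective ρ := by
    intro x y h
    have h1 : x.1 - kap s R x.1 = y.1 - kap s R y.1 := congrArg Subtype.val h
    apply Subtype.ext
    apply hs.ap_inj x.2 y.2
    rw [rho_formula hs hinv hodd x.2, rho_formula hs hinv hodd y.2, h1]
  obtain ⟨x, hx⟩ := Finite.surjective_of_injective hinj ⟨z, hz⟩
  exact ⟨x.1, x.2, congrArg Subtype.val hx⟩

/-- **Fact C**: `μ (-z) = μ z`. -/
theorem mu_neg [Finite A] (hodd : ∀ x : A, x + x = 0 → x = 0) {z : A} (hz : z ≠ 0) :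
    mu s R (-z) = mu s R z := by
  obtain ⟨x, hx, rfl⟩ := rho_surj hs hinv hodd hz
  have hk := kap_ne_zero hs hx
  have h1 := mu_D hs hx hk (Ne.symm (kap_ne_self hs hinv hodd hx)) (mu_kap_eq hs hinv hx).symm
  rw [kap_kap hs hx] at h1
  have h2 : kap s R x - x = -(x - kap s R x) := by abel
  rw [h2] at h1
  exact h1

end Basic


/-- The fibre of `μ` over `s`. -/
def Phi (s : G) (R : RootData G Ω A) : Set A := {y | y ≠ 0 ∧ mu s R y = s}

section PhiLemmas

variable [Finite A] (hs : R.Inv s) (hinv : ∀ g ∈ R.H, s * g * s = g⁻¹)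
  (hodd : ∀ x : A, x + x = 0 → x = 0)

include hs hinv hodd

theorem Phi_neg {y : A} (hy : y ∈ Phi s R) : -y ∈ Phi s R :=
  ⟨neg_ne_zero.mpr hy.1, (mu_neg hs hinv hodd hy.1).trans hy.2⟩

omit [Finite A] hodd in
theorem Phi_kap {y : A} (hy : y ∈ Phi s R) : kap s R y ∈ Phi s R :=
  ⟨kap_ne_zero hs hy.1, (mu_kap_eq hs hinv hy.1).trans hy.2⟩

omit [Finite A] hinv hodd in
theorem ap_neg_kap {y : A} (hy : y ∈ Phi s R) : R.ap s (- kap s R y) = -y := by
  have h := mu_ap_neg_kap hs hy.1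
  rwa [hy.2] at h

theorem ap_eq {y : A} (hy : y ∈ Phi s R) : R.ap s y = - kap s R (-y) := by
  have hm := Phi_neg hs hinv hodd hy
  have h := ap_neg_kap hs (Phi_kap hs hinv hm)
  rwa [kap_kap hs hm.1, neg_neg] at h

theorem Phi_s {y : A} (hy : y ∈ Phi s R) : R.ap s y ∈ Phi s R := by
  rw [ap_eq hs hinv hodd hy]
  exact Phi_neg hs hinv hodd (Phi_kap hs hinv (Phi_neg hs hinv hodd hy))

theorem delta_three {y : A} (hy : y ∈ Phi s R) :
    R.ap s (- R.ap s (- R.ap s (-y))) = y := by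
  have h := ap_neg_kap hs (Phi_neg hs hinv hodd hy)
  rw [neg_neg] at h
  exact h

/-- The functional equation. -/
theorem law {y v : A} (hy : y ∈ Phi s R) (hv : v ≠ 0) (hyv : y + v ≠ 0) :
    R.ap s (y + v) = R.ap s y + R.ap s (R.ap s v - R.ap s (-y)) := by
  have hsy := Phi_s hs hinv hodd hy
  have h1 := bB_eq hs hy.1
  rw [hsy.2] at h1
  have hin : R.ap s v - R.ap s (-y) ≠ 0 := by
    intro h0
    apply hyv
    have := hs.ap_inj hv (neg_ne_zero.mpr hy.1) (sub_eq_zero.mp h0)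
    rw [this]
    exact add_neg_cancel y
  have h2 : bB s R y • R.pt (R.ap s v) = R.pt (R.ap s (y + v)) := by
    rw [bB_def, mul_smul, mul_smul, hs.pt (hs.ne_zero hv), hs.ap_ap hv, R.τ_pt, hs.pt hyv]
  have h3 : bB s R y • R.pt (R.ap s v) = R.pt (R.ap s y + R.ap s (R.ap s v - R.ap s (-y))) := by
    rw [h1, mul_smul, mul_smul, R.τ_pt]
    have : - R.ap s (-y) + R.ap s v = R.ap s v - R.ap s (-y) := by abel
    rw [this, hs.pt hin, R.τ_pt]
  exact R.pt_inj (h2.symm.trans h3)

omit [Finite A] hodd in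
theorem ap_s_H {g : G} (hg : g ∈ R.H) {x : A} (hx : x ≠ 0) :
    R.ap s (R.ap g x) = R.ap g⁻¹ (R.ap s x) := by
  rw [hs.ap_conj hg hx, hinv g hg]

end PhiLemmas

section Odd

variable [Finite G] (hs : R.Inv s) (hinv : ∀ g ∈ R.H, s * g * s = g⁻¹)
  (hoddH : Odd (Nat.card R.H))

theorem eq_one_of_sq (hoddH : Odd (Nat.card R.H)) {g : G} (hg : g ∈ R.H) (h : g * g = 1) : g = 1 := by
  have h1 : (⟨g, hg⟩ : R.H) ^ Nat.card R.H = 1 := pow_card_eq_one'
  obtain ⟨k, hk⟩ := hoddH
  have h2 : (⟨g, hg⟩ : R.H) * ⟨g, hg⟩ = 1 := Subtype.ext h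
  have h3 : (⟨g, hg⟩ : R.H) = 1 := by
    rw [hk, pow_succ, pow_mul, pow_two, h2, one_pow, one_mul] at h1
    exact h1
  exact congrArg Subtype.val h3

theorem exists_sq (hoddH : Odd (Nat.card R.H)) {t : G} (ht : t ∈ R.H) : ∃ g ∈ R.H, g * g = t := by
  have h1 : (⟨t, ht⟩ : R.H) ^ Nat.card R.H = 1 := pow_card_eq_one'
  obtain ⟨k, hk⟩ := hoddH
  refine ⟨t ^ (k + 1), R.H.pow_mem ht _, ?_⟩
  have h2 : t ^ Nat.card R.H = 1 := by
    calc t ^ Nat.card R.H = (((⟨t, ht⟩ : R.H) ^ Nat.card R.H : R.H) : G) := rfl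
      _ = 1 := by rw [h1]; rfl
  rw [← pow_add]
  have h3 : k + 1 + (k + 1) = Nat.card R.H + 1 := by omega
  rw [h3, pow_succ, h2, one_mul]

include hs hinv hoddH

/-- `Φ` is a transversal. -/
theorem exists_transversal {x : A} (hx : x ≠ 0) : ∃ g ∈ R.H, ∃ y ∈ Phi s R, x = R.ap g y := by
  obtain ⟨g, hg, hgg⟩ := exists_sq hoddH (mu_mem hs hx)
  have hg' := R.H.inv_mem hg
  refine ⟨g, hg, R.ap g⁻¹ x, ⟨H_ne_zero hg' hx, ?_⟩, (H_inv' hg x).symm⟩
  rw [← mu_conj hs hg' hx]
  have h1 : mu s R x = g * g * s := by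
    rw [hgg, mul_assoc, hs.sq, mul_one]
  have h2 := hinv g⁻¹ hg'
  rw [h1]
  have h3 : g⁻¹ * (g * g * s) * g⁻¹⁻¹ = g * s * g := by group
  rw [h3]
  have h4 : s * g = g⁻¹ * s := by
    have h5 : s * g⁻¹ * s = g := by rw [h2, inv_inv]
    calc s * g = s * (s * g⁻¹ * s) := by rw [h5]
      _ = (s * s) * g⁻¹ * s := by group
      _ = g⁻¹ * s := by rw [hs.sq, one_mul]
  rw [mul_assoc, h4]
  group

omit hoddH in
/-- The separation property. -/
theorem transversal_sep (hoddH : Odd (Nat.card R.H)) {g : G} (hg : g ∈ R.H) {y y' : A} (hy : y ∈ Phi s R)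
    (hy' : y' ∈ Phi s R) (h : R.ap g y = y') : g = 1 := by
  have h1 := mu_conj hs hg hy.1
  rw [h, hy.2, hy'.2] at h1
  have h2 := hinv g hg
  apply eq_one_of_sq hoddH hg
  have h3 : s * g = g⁻¹ * s := by
    calc s * g = (s * g * s) * s := by rw [mul_assoc, mul_assoc, hs.sq, mul_one]
      _ = g⁻¹ * s := by rw [h2]
  have h4 : g * s = s * g := by
    calc g * s = g * s * g⁻¹ * g := by group
      _ = s * g := by rw [h1]
  have h5 : g = g⁻¹ := mul_right_cancel (h4.trans h3)
  calc g * g = g * g⁻¹ := by nth_rw 2 [h5]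
    _ = 1 := mul_inv_cancel g

end Odd


section Scalar

variable {K : Type*} [Field K] [Module K A] [Finite G] [Finite A]

/-- The group of scalars given by `H`. -/
def scalars (K : Type*) [Field K] [Module K A] (R : RootData G Ω A) : Subgroup Kˣ where
  carrier := {u | ∃ g ∈ R.H, ∀ x, R.ap g x = (u : K) • x}
  mul_mem' := by
    rintro u v ⟨g, hg, hu⟩ ⟨k, hk, hv⟩
    refine ⟨g * k, R.H.mul_mem hg hk, fun x => ?_⟩
    rw [H_mul hg hk, hv, hu, smul_smul, Units.val_mul]
  one_mem' := ⟨1, R.H.one_mem, fun x => by rw [H_one]; simp⟩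
  inv_mem' := by
    rintro u ⟨g, hg, hu⟩
    refine ⟨g⁻¹, R.H.inv_mem hg, fun x => ?_⟩
    have h1 : R.ap g (((u⁻¹ : Kˣ) : K) • x) = x := by
      rw [hu, smul_smul, Units.mul_inv, one_smul]
    rw [← H_inv hg (((u⁻¹ : Kˣ) : K) • x), h1]

theorem mem_scalars {u : Kˣ} : u ∈ scalars K R ↔ ∃ g ∈ R.H, ∀ x, R.ap g x = (u : K) • x := Iff.rfl

set_option maxHeartbeats 1000000 in
/-- **The main theorem**: if `H` acts by scalars then `s` is special and `H` has two orbits. -/
theorem special_of_scalar {s : G} (hs : R.Inv s) (hinv : ∀ g ∈ R.H, s * g * s = g⁻¹)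
    (hodd : ∀ x : A, x + x = 0 → x = 0) (hoddH : Odd (Nat.card R.H)) (hH1 : 1 < Nat.card R.H)
    (h2 : (2 : K) ≠ 0) (h3 : (3 : K) ≠ 0)
    (hscal : ∀ g ∈ R.H, ∃ u : Kˣ, ∀ x, R.ap g x = (u : K) • x) :
    Special s R ∧ ∃ e : A, e ≠ 0 ∧ R.ap s e = -e ∧ Nat.card R.H * 2 + 1 = Nat.card A := by
  classical
  haveI : Finite R.H := inferInstance
  have hex0 : ∃ x : A, x ≠ 0 := by
    by_contra hall
    push Not at hall
    have : Subsingleton R.H := ⟨fun g k => Subtype.ext (H_ext g.2 k.2 (fun x => (hall _).trans (hall _).symm))⟩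
    have h1 : Nat.card R.H = 1 := Nat.card_unique (α := R.H)
    omega
  obtain ⟨x₀, hx₀⟩ := hex0
  let T : HardSpecial.Data K A :=
    { s := R.ap s
      Φ := Phi s R
      D := scalars K R
      s_ne := fun x hx => hs.ne_zero hx
      s_s := fun x hx => hs.ap_ap hx
      Φ_ne := fun y hy => hy.1
      Φ_neg := fun y hy => Phi_neg hs hinv hodd hy
      Φ_s := fun y hy => Phi_s hs hinv hodd hy
      δ3 := fun y hy => delta_three hs hinv hodd hy
      s_D := by
        rintro u ⟨g, hg, hu⟩ x hx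
        have hu' := (scalars K R).inv_mem (⟨g, hg, hu⟩ : u ∈ scalars K R)
        rw [← hu, ap_s_H hs hinv hg hx]
        have h1 : R.ap g (((u⁻¹ : Kˣ) : K) • R.ap s x) = R.ap s x := by
          rw [hu, smul_smul, Units.mul_inv, one_smul]
        rw [← H_inv hg (((u⁻¹ : Kˣ) : K) • R.ap s x), h1]
      law := fun y hy v hv hyv => law hs hinv hodd hy hv hyv
      trans := by
        intro x hx
        obtain ⟨g, hg, y, hy, rfl⟩ := exists_transversal hs hinv hoddH hx
        obtain ⟨u, hu⟩ := hscal g hg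
        exact ⟨u, ⟨g, hg, hu⟩, y, hy, hu y⟩ }
  have hsep : ∀ g ∈ T.D, ∀ y ∈ T.Φ, ∀ y' ∈ T.Φ, (g : K) • y = y' → g = 1 := by
    rintro u ⟨g, hg, hu⟩ y hy y' hy' h
    have h1 := transversal_sep hs hinv hoddH hg hy hy' ((hu y).trans h)
    subst h1
    have h3 : (u : K) • y = y := by
      rw [← hu, H_one]
    have h4 : ((u : K) - 1) • y = 0 := by
      rw [sub_smul, h3, one_smul, sub_self]
    have h5 := (smul_eq_zero.mp h4).resolve_right hy.1
    exact Units.ext (sub_eq_zero.mp h5)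
  have hne1 : ∀ g ∈ R.H, ∀ u : Kˣ, (∀ x, R.ap g x = (u : K) • x) → u = 1 → g = 1 := by
    intro g hg u hu h1
    apply H_fix hg hx₀
    rw [hu, h1]
    simp
  have hsq : ∀ h ∈ T.D, h ≠ 1 → (h : K) ^ 2 ≠ 1 := by
    rintro u ⟨g, hg, hu⟩ h1 h4
    apply h1
    have h5 : g * g = 1 := by
      apply H_fix (R.H.mul_mem hg hg) hx₀
      rw [H_mul hg hg, hu, hu, smul_smul, ← pow_two, h4, one_smul]
    have h6 := eq_one_of_sq hoddH hg h5
    subst h6
    have h7 : (u : K) • x₀ = x₀ := by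
      rw [← hu, H_one]
    have h8 : ((u : K) - 1) • x₀ = 0 := by
      rw [sub_smul, h7, one_smul, sub_self]
    exact Units.ext (sub_eq_zero.mp ((smul_eq_zero.mp h8).resolve_right hx₀))
  -- `δ` is trivial
  have hδ : ∀ a ∈ Phi s R, R.ap s (-a) = a := by
    intro a ha
    by_cases h3H : 3 ∣ Nat.card R.H
    · haveI : Fact (Nat.Prime 3) := ⟨Nat.prime_three⟩
      obtain ⟨g, hg⟩ := exists_prime_orderOf_dvd_card' (G := R.H) 3 h3H
      have hgm : (g : G) ∈ R.H := g.2
      have hg3 : (g : G) ^ 3 = 1 := by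
        have := pow_orderOf_eq_one g
        rw [hg] at this
        exact congrArg Subtype.val this
      have hg1 : (g : G) ≠ 1 := by
        intro h
        have : g = 1 := Subtype.ext h
        rw [this, orderOf_one] at hg
        omega
      obtain ⟨u, hu⟩ := hscal g hgm
      have hu1 : u ≠ 1 := fun h => hg1 (hne1 _ hgm u hu h)
      have hu3 : (u : K) ^ 3 = 1 := by
        have h5 : R.ap ((g : G) ^ 3) x₀ = (u : K) ^ 3 • x₀ := by
          have e : (g : G) ^ 3 = g * (g * g) := pow_three _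
          rw [e, H_mul hgm (R.H.mul_mem hgm hgm), H_mul hgm hgm, hu, hu, hu, smul_smul, smul_smul]
          congr 1
          ring
        rw [hg3, H_one] at h5
        have h6 : ((u : K) ^ 3 - 1) • x₀ = 0 := by
          rw [sub_smul, ← h5, one_smul, sub_self]
        exact sub_eq_zero.mp ((smul_eq_zero.mp h6).resolve_right hx₀)
      exact T.δ_eq_of_order_three h2 hsep ⟨g, hgm, hu⟩ hu1 hu3 (hsq u ⟨g, hgm, hu⟩ hu1) ha
    · -- at least four nontrivial elements
      have h5 : 5 ≤ Nat.card R.H := by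
        obtain ⟨k, hk⟩ := hoddH
        by_contra hlt
        have : k = 1 := by omega
        subst this
        apply h3H
        rw [hk]
        norm_num
      have hscal' := hscal
      choose! t ht using hscal'
      haveI := Fintype.ofFinite R.H
      let φ : R.H → K := fun g => (t g : K)
      have hφ : Function.Injective φ := by
        intro g k h
        apply Subtype.ext
        apply H_ext g.2 k.2
        intro x
        rw [ht _ g.2, ht _ k.2]
        show φ g • x = φ k • x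
        rw [h]
      let S : Finset K := (Finset.univ.erase (1 : R.H)).image φ
      have hS : 4 ≤ S.card := by
        rw [Finset.card_image_of_injective _ hφ, Finset.card_erase_of_mem (Finset.mem_univ _),
          Finset.card_univ]
        rw [Nat.card_eq_fintype_card] at h5
        omega
      refine T.δ_eq_of_four h2 h3 hsep hsq S hS ?_ ha
      intro z hz
      obtain ⟨g, hg, rfl⟩ := Finset.mem_image.mp hz
      refine ⟨t g, ⟨g, g.2, ht g g.2⟩, ?_, rfl⟩
      intro h
      have := hne1 g g.2 (t g) (ht g g.2) h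
      exact (Finset.ne_of_mem_erase hg) (Subtype.ext this)
  have hφ : ∀ y ∈ Phi s R, R.ap s y = -y := by
    intro y hy
    have := hδ (-y) (Phi_neg hs hinv hodd hy)
    rwa [neg_neg] at this
  have hsp : Special s R := by
    intro x hx
    obtain ⟨g, hg, y, hy, rfl⟩ := exists_transversal hs hinv hoddH hx
    rw [kap_H hs hg hy.1, kap_def, hφ y hy, neg_neg, hφ y hy, H_neg hg]
  obtain ⟨g₀, -, e, he, -⟩ := exists_transversal hs hinv hoddH hx₀
  refine ⟨hsp, e, he.1, hφ e he, ?_⟩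
  -- counting
  haveI := Fintype.ofFinite A
  haveI := Fintype.ofFinite R.H
  let F : R.H × Bool → {x : A // x ≠ 0} := fun p =>
    if p.2 then ⟨R.ap p.1 e, H_ne_zero p.1.2 he.1⟩
    else ⟨R.ap p.1 (-e), H_ne_zero p.1.2 (neg_ne_zero.mpr he.1)⟩
  have hee : e ≠ -e := by
    intro h
    apply he.1
    apply hodd
    nth_rw 1 [h]
    exact neg_add_cancel e
  have hFval : ∀ (p : R.H × Bool), ∃ y ∈ Phi s R, (F p).1 = R.ap p.1 y ∧ (y = e ↔ p.2 = true) := by
    rintro ⟨g, b⟩
    cases b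
    · refine ⟨-e, Phi_neg hs hinv hodd he, rfl, ?_⟩
      simp only [Bool.false_eq_true, iff_false]
      exact fun h => hee h.symm
    · exact ⟨e, he, rfl, by simp⟩
  have hF : Function.Bijective F := by
    constructor
    · intro p q h
      obtain ⟨y, hy, h1, h2'⟩ := hFval p
      obtain ⟨y', hy', h3', h4⟩ := hFval q
      have h5 : R.ap p.1 y = R.ap q.1 y' := by
        rw [← h1, ← h3', h]
      have hg : ((q.1 : G)⁻¹ * (p.1 : G)) ∈ R.H := R.H.mul_mem (R.H.inv_mem q.1.2) p.1.2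
      have h6 : R.ap ((q.1 : G)⁻¹ * (p.1 : G)) y = y' := by
        rw [H_mul (R.H.inv_mem q.1.2) p.1.2, h5, H_inv q.1.2]
      have h7 := transversal_sep hs hinv hoddH hg hy hy' h6
      have h8 : (p.1 : G) = q.1 := (inv_mul_eq_one.mp h7).symm
      have h9 : p.1 = q.1 := Subtype.ext h8
      have h10 : y = y' := by
        rw [← h6, h7, H_one]
      apply Prod.ext h9
      have h11 : (p.2 = true) ↔ (q.2 = true) := by
        rw [← h2', ← h4, h10]
      exact Bool.eq_iff_iff.mpr h11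
    · rintro ⟨x, hx⟩
      obtain ⟨g, hg, y, hy, rfl⟩ := exists_transversal hs hinv hoddH hx
      rcases mu_fiber hs hsp he.1 hy.1 (he.2.trans hy.2.symm) with h | h
      · exact ⟨(⟨g, hg⟩, true), Subtype.ext (by simp [F, h])⟩
      · exact ⟨(⟨g, hg⟩, false), Subtype.ext (by simp [F, h])⟩
  have hcard := Nat.card_congr (Equiv.ofBijective F hF)
  rw [Nat.card_prod, Nat.card_eq_fintype_card (α := Bool), Fintype.card_bool,
    Nat.card_eq_fintype_card (α := {x : A // x ≠ 0}), Fintype.card_subtype_compl,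
    Fintype.card_subtype_eq] at hcard
  rw [hcard, Nat.card_eq_fintype_card]
  have : 0 < Fintype.card A := Fintype.card_pos_iff.mpr ⟨0⟩
  omega

end Scalar

end Cfsg.Agent.Lib.Zass.OddSpecial
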