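import Cfsg.Agent.Lib.Zass.Stab
import Cfsg.Agent.Lib.FPF.UniqueOrderP

/-!
# Zassenhaus groups with two-point stabiliser of odd order and no normal `q`-complements
-/

set_option autoImplicit false
set_option linter.unusedSectionVars false
set_option linter.style.haveILetI false

namespace Cfsg.Agent.Lib.Zass.OddStab

open Cfsg MulAction
open Cfsg.Agent.Lib.Zass.Basic Cfsg.Agent.Lib.Zass.Stab

variable {G Ω : Type*} [Group G] [MulAction G Ω] [Finite G] [Fintype Ω]

theorem comm_of_cyclic {a b : Ω} (hcyc : IsCyclic (E (G := G) a b)) {x y : G} (hx : x ∈ E (G := G) a b)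
    (hy : y ∈ E (G := G) a b) : x * y = y * x := by
  have := hcyc.isMulCommutative.is_comm.comm (⟨x, hx⟩ : E (G := G) a b) ⟨y, hy⟩
  exact congrArg Subtype.val this

/-- For every prime divisor `q` of the order there is an element of order `q` inverted by `s`. -/
theorem exists_inverted (hZ : IsZassenhausGroup G Ω) {a b : Ω} (hab : a ≠ b)
    (hcyc : IsCyclic (E (G := G) a b)) (hodd : Odd (Nat.card (E (G := G) a b)))
    {s : G} (hsa : s • a = b) (hsb : s • b = a) {q : ℕ} (hq : q.Prime)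
    (hqd : q ∣ Nat.card (E (G := G) a b))
    (hnil : ¬ ∃ N : Subgroup G, N.Normal ∧ N.index = q ^ (Nat.card G).factorization q) :
    ∃ w ∈ E (G := G) a b, orderOf w = q ∧ s * w * s⁻¹ = w⁻¹ := by
  haveI := Fact.mk hq
  have hq2 : q ≠ 2 := by
    rintro rfl
    exact (Nat.not_even_iff_odd.2 hodd) (even_iff_two_dvd.2 hqd)
  have hcomm : ∀ {x y : G}, x ∈ E (G := G) a b → y ∈ E (G := G) a b → x * y = y * x :=
    fun hx hy => comm_of_cyclic hcyc hx hy
  obtain ⟨Q, hQ⟩ := exists_sylow_le hZ hab hq2 hqd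
  have hQ1 : (Q : Subgroup G) ≠ ⊥ := Q.ne_bot_of_dvd_card (hqd.trans
    (Subgroup.card_dvd_of_le (le_top : E (G := G) a b ≤ ⊤) |>.trans (by simp)))
  obtain ⟨g, hg, y, hy, hne⟩ := exists_noncentral Q hnil
  have hgB := normalizer_le_B hZ hab hQ hQ1 hg
  rw [mem_B_iff hZ hab] at hgB
  -- `s * s` lies in `E`
  have hss : s * s ∈ E (G := G) a b := by
    constructor
    · show (s * s) • a = a
      rw [mul_smul, hsa, hsb]
    · show (s * s) • b = b
      rw [mul_smul, hsb, hsa]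
  have hsq : ∀ {x : G}, x ∈ E (G := G) a b → s * (s * x * s⁻¹) * s⁻¹ = x := by
    intro x hx
    have h1 : s * (s * x * s⁻¹) * s⁻¹ = (s * s) * x * (s * s)⁻¹ := by group
    rw [h1, hcomm hss hx]
    group
  have hconjE : ∀ {x : G}, x ∈ E (G := G) a b → s * x * s⁻¹ ∈ E (G := G) a b := fun hx =>
    conj_mem_E_of_fix_or_swap (Or.inr ⟨hsa, hsb⟩) hx
  have hyE := hQ hy
  rcases hgB with ⟨h1, h2⟩ | ⟨h1, h2⟩
  · exfalso
    apply hne
    rw [hcomm (⟨h1, h2⟩ : g ∈ E (G := G) a b) hyE]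
    group
  have hh₀ : s⁻¹ * g ∈ E (G := G) a b := by
    constructor
    · show (s⁻¹ * g) • a = a
      rw [mul_smul, h1, inv_smul_eq_iff, hsa]
    · show (s⁻¹ * g) • b = b
      rw [mul_smul, h2, inv_smul_eq_iff, hsb]
  have hgy : g * y * g⁻¹ = s * y * s⁻¹ := by
    have h3 : g * y * g⁻¹ = s * ((s⁻¹ * g) * y * (s⁻¹ * g)⁻¹) * s⁻¹ := by group
    rw [h3, hcomm hh₀ hyE]
    group
  have hyQ' : s * y * s⁻¹ ∈ (Q : Subgroup G) := by
    rw [← hgy]
    exact (Subgroup.mem_normalizer_iff.1 hg y).1 hy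
  let w₀ : G := (s * y * s⁻¹) * y⁻¹
  have hw₀Q : w₀ ∈ (Q : Subgroup G) := Subgroup.mul_mem _ hyQ' (Subgroup.inv_mem _ hy)
  have hw₀1 : w₀ ≠ 1 := by
    intro h
    apply hne
    rw [hgy]
    exact mul_inv_eq_one.1 h
  have hw₀inv : s * w₀ * s⁻¹ = w₀⁻¹ := by
    have h3 : s * w₀ * s⁻¹ = (s * (s * y * s⁻¹) * s⁻¹) * (s * y * s⁻¹)⁻¹ := by
      simp only [w₀]
      group
    rw [h3, hsq hyE]
    simp only [w₀, mul_inv_rev, inv_inv]
  -- pass to a power of order `q`
  obtain ⟨k, hk⟩ := (IsPGroup.iff_orderOf.1 Q.isPGroup') ⟨w₀, hw₀Q⟩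
  have hk' : orderOf w₀ = q ^ k := by
    rw [← Subgroup.orderOf_mk w₀ hw₀Q]
    exact hk
  have hk0 : k ≠ 0 := by
    rintro rfl
    rw [pow_zero] at hk'
    exact hw₀1 (orderOf_eq_one_iff.1 hk')
  have hqo : q ∣ orderOf w₀ := by
    rw [hk']
    exact dvd_pow_self q hk0
  have hord0 : orderOf w₀ ≠ 0 := by
    rw [hk']
    exact pow_ne_zero _ hq.ne_zero
  refine ⟨w₀ ^ (orderOf w₀ / q), Subgroup.pow_mem _ (hQ hw₀Q) _,
    orderOf_pow_orderOf_div hord0 hqo, ?_⟩
  rw [← conj_pow, hw₀inv, inv_pow]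

/-- The swap acts fixed-point-freely on the two-point stabiliser. -/
theorem eq_one_of_conj_eq (hZ : IsZassenhausGroup G Ω) {a b : Ω} (hab : a ≠ b)
    (hcyc : IsCyclic (E (G := G) a b)) (hodd : Odd (Nat.card (E (G := G) a b)))
    {s : G} (hsa : s • a = b) (hsb : s • b = a)
    (hnil : ∀ q : ℕ, q.Prime → q ∣ Nat.card (E (G := G) a b) →
      ¬ ∃ N : Subgroup G, N.Normal ∧ N.index = q ^ (Nat.card G).factorization q)
    {x : G} (hx : x ∈ E (G := G) a b) (hfix : s * x * s⁻¹ = x) : x = 1 := by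
  by_contra hx1
  have hord0 : orderOf x ≠ 0 := (isOfFinOrder_of_finite x).orderOf_pos.ne'
  have hordne : orderOf x ≠ 1 := fun h => hx1 (orderOf_eq_one_iff.1 h)
  obtain ⟨q, hq, hqo⟩ := Nat.exists_prime_and_dvd hordne
  have hqd : q ∣ Nat.card (E (G := G) a b) := by
    refine hqo.trans ?_
    rw [← Subgroup.orderOf_mk x hx]
    exact orderOf_dvd_natCard _
  obtain ⟨w, hwE, hwo, hwinv⟩ := exists_inverted hZ hab hcyc hodd hsa hsb hq hqd (hnil q hq hqd)
  let x₁ := x ^ (orderOf x / q)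
  have hx₁E : x₁ ∈ E (G := G) a b := Subgroup.pow_mem _ hx _
  have hx₁o : orderOf x₁ = q := orderOf_pow_orderOf_div hord0 hqo
  have hx₁fix : s * x₁ * s⁻¹ = x₁ := by
    simp only [x₁]
    rw [← conj_pow, hfix]
  -- the subgroups generated by `x₁` and `w` coincide
  have heq : Subgroup.zpowers (⟨x₁, hx₁E⟩ : E (G := G) a b) = Subgroup.zpowers ⟨w, hwE⟩ := by
    apply Cfsg.Agent.Lib.FPF.UniqueOrderP.subgroup_eq_of_card_eq
    rw [Nat.card_zpowers, Nat.card_zpowers, Subgroup.orderOf_mk, Subgroup.orderOf_mk, hx₁o, hwo]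
  have hmem : (⟨x₁, hx₁E⟩ : E (G := G) a b) ∈ Subgroup.zpowers (⟨w, hwE⟩ : E (G := G) a b) := by
    rw [← heq]
    exact Subgroup.mem_zpowers _
  obtain ⟨m, hm⟩ := hmem
  have hm' : w ^ m = x₁ := by
    have := congrArg Subtype.val hm
    simpa using this
  have h1 : s * x₁ * s⁻¹ = x₁⁻¹ := by
    rw [← hm', ← conj_zpow, hwinv, inv_zpow]
  rw [hx₁fix] at h1
  have h2 : x₁ * x₁ = 1 := by
    nth_rw 1 [h1]
    exact inv_mul_cancel x₁
  have h3 : orderOf x₁ ∣ 2 := orderOf_dvd_of_pow_eq_one (by rw [pow_two]; exact h2)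
  rw [hx₁o] at h3
  have h4 : q = 2 := (Nat.prime_dvd_prime_iff_eq hq Nat.prime_two).1 h3
  rw [h4] at hqd
  exact (Nat.not_even_iff_odd.2 hodd) (even_iff_two_dvd.2 hqd)

theorem conj_eq_inv (hZ : IsZassenhausGroup G Ω) {a b : Ω} (hab : a ≠ b)
    (hcyc : IsCyclic (E (G := G) a b)) (hodd : Odd (Nat.card (E (G := G) a b)))
    {s : G} (hsa : s • a = b) (hsb : s • b = a)
    (hnil : ∀ q : ℕ, q.Prime → q ∣ Nat.card (E (G := G) a b) →
      ¬ ∃ N : Subgroup G, N.Normal ∧ N.index = q ^ (Nat.card G).factorization q)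
    {h : G} (hh : h ∈ E (G := G) a b) : s * h * s⁻¹ = h⁻¹ := by
  have hcomm : ∀ {x y : G}, x ∈ E (G := G) a b → y ∈ E (G := G) a b → x * y = y * x :=
    fun hx hy => comm_of_cyclic hcyc hx hy
  have hss : s * s ∈ E (G := G) a b := by
    constructor
    · show (s * s) • a = a
      rw [mul_smul, hsa, hsb]
    · show (s * s) • b = b
      rw [mul_smul, hsb, hsa]
  have hconj : ∀ x ∈ E (G := G) a b, s * x * s⁻¹ ∈ E (G := G) a b := fun x hx =>
    conj_mem_E_of_fix_or_swap (Or.inr ⟨hsa, hsb⟩) hx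
  let φ : E (G := G) a b →* E (G := G) a b :=
    { toFun := fun x => ⟨s * x * s⁻¹, hconj x x.2⟩
      map_one' := by
        apply Subtype.ext
        simp
      map_mul' := fun x y => by
        apply Subtype.ext
        simp [mul_assoc] }
  have hfpf : MonoidHom.FixedPointFree φ := by
    intro x hx
    apply Subtype.ext
    exact eq_one_of_conj_eq hZ hab hcyc hodd hsa hsb hnil x.2 (congrArg Subtype.val hx)
  have hsq : φ^[2] = _root_.id := by
    funext x
    apply Subtype.ext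
    show s * (s * (x : G) * s⁻¹) * s⁻¹ = x
    have h1 : s * (s * (x : G) * s⁻¹) * s⁻¹ = (s * s) * (x : G) * (s * s)⁻¹ := by group
    rw [h1, hcomm hss x.2]
    group
  have h1 := hfpf.coe_eq_inv_of_sq_eq_one hsq
  have h2 := congrFun h1 ⟨h, hh⟩
  exact congrArg Subtype.val h2

/-- The conclusion. -/
theorem main (hZ : IsZassenhausGroup G Ω) {a b : Ω} (hab : a ≠ b)
    (hodd : Odd (Nat.card (E (G := G) a b)))
    (hnil : ∀ q : ℕ, q.Prime → q ∣ Nat.card (E (G := G) a b) →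
      ¬ ∃ N : Subgroup G, N.Normal ∧ N.index = q ^ (Nat.card G).factorization q) :
    IsCyclic (E (G := G) a b) ∧
      Subgroup.centralizer ((E (G := G) a b : Subgroup G) : Set G) = E a b ∧
      ∀ s : G, s • a = b → s • b = a → ∀ h ∈ E (G := G) a b, s * h * s⁻¹ = h⁻¹ := by
  have hcyc := isCyclic_E hZ hab hodd hnil
  refine ⟨hcyc, ?_, fun s hsa hsb h hh => conj_eq_inv hZ hab hcyc hodd hsa hsb hnil hh⟩
  apply le_antisymm
  · intro g hg
    rw [Subgroup.mem_centralizer_iff] at hg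
    obtain ⟨x, hx1, hxa, hxb⟩ := exists_ne_fix2 hZ hab
    have hx : x ∈ E (G := G) a b := ⟨hxa, hxb⟩
    have h1 : g * x * g⁻¹ = x := by
      rw [← hg x hx]
      group
    have h2 := conj_E hZ hab hx hx1 (by rw [h1]; exact hx)
    rcases h2 with h2 | ⟨h2, h3⟩
    · exact h2
    · exfalso
      have h4 := conj_eq_inv hZ hab hcyc hodd h2 h3 hnil hx
      rw [h1] at h4
      have h5 : x * x = 1 := by
        nth_rw 1 [h4]
        exact inv_mul_cancel x
      have h6 : orderOf x ∣ 2 := orderOf_dvd_of_pow_eq_one (by rw [pow_two]; exact h5)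
      have h7 : orderOf x ∣ Nat.card (E (G := G) a b) := by
        rw [← Subgroup.orderOf_mk x hx]
        exact orderOf_dvd_natCard _
      have h8 : Odd (orderOf x) := Odd.of_dvd_nat hodd h7
      have h9 : orderOf x = 1 := by
        rcases (Nat.dvd_prime Nat.prime_two).1 h6 with h | h
        · exact h
        · rw [h] at h8
          exact absurd h8 (by decide)
      exact hx1 (orderOf_eq_one_iff.1 h9)
  · intro g hg
    rw [Subgroup.mem_centralizer_iff]
    intro x hx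
    exact comm_of_cyclic hcyc hx hg

end Cfsg.Agent.Lib.Zass.OddStab
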