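import Cfsg.Agent.Lib.Zass.Sharp3Odd
import Cfsg.Agent.Lib.Zass.OddSpecial
import Cfsg.Agent.S0740
import Cfsg.Agent.Lib.Zass.OddStab
import Cfsg.Agent.Lib.Zass.NormalZass
import Cfsg.Agent.Lib.Zass.InvCount
import Cfsg.Agent.Lib.Perm.Regular
import Cfsg.Agent.Lib.Perm.SharplyTwo
import Cfsg.Agent.Lib.Small.PSL2Rec

/-!
# Transitive groups of degree `p + 1` and order `(p + 1) p d`, `d < p`
-/

set_option autoImplicit false
set_option linter.unusedSectionVars false
set_option linter.unusedVariables false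
set_option linter.style.haveILetI false
set_option linter.dupNamespace false
set_option linter.unusedFintypeInType false

namespace Cfsg.Agent.Lib.Zass.PrimeDeg

open Cfsg MulAction Cfsg.Agent.Lib.Zass.Root Cfsg.Agent.Lib.Zass.Root.RootData
open Cfsg.Agent.Lib.Zass.Sharp3

universe u v

/-- The basic hypotheses. -/
structure PD (G : Type u) (Ω : Type v) [Group G] [MulAction G Ω] [Fintype Ω] (p d : ℕ) : Prop where
  hp : p.Prime
  card : Fintype.card Ω = p + 1
  trans : MulAction.IsPretransitive G Ω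
  faith : ∀ g g' : G, (∀ y : Ω, g • y = g' • y) → g = g'
  order : Nat.card G = (p + 1) * p * d
  lt : d < p

variable {G : Type u} {Ω : Type v} [Group G] [Finite G] [MulAction G Ω] [Fintype Ω] {p d : ℕ}

namespace PD

variable (D : PD G Ω p d)
include D

theorem d_pos : 0 < d := by
  have h := D.order
  have h1 : 0 < Nat.card G := Nat.card_pos
  by_contra h0
  have : d = 0 := by omega
  rw [this, mul_zero] at h
  omega

/-- The order of a point stabiliser. -/
theorem card_stab (a : Ω) : Nat.card (stabilizer G a) = p * d := by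
  haveI := D.trans
  have h1 := MulAction.index_stabilizer_of_transitive G a
  have h2 := Subgroup.card_mul_index (stabilizer G a)
  rw [h1, D.order, Nat.card_eq_fintype_card (α := Ω), D.card] at h2
  have h3 : 0 < p + 1 := by omega
  have h4 : (p + 1) * Nat.card (stabilizer G a) = (p + 1) * (p * d) := by
    rw [mul_comm, h2]; ring
  exact Nat.eq_of_mul_eq_mul_left h3 h4

/-- The number of points different from `a`. -/
theorem card_ne (a : Ω) : Nat.card {y : Ω // y ≠ a} = p := by
  classical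
  rw [Nat.card_eq_fintype_card, Fintype.card_subtype_compl, Fintype.card_subtype_eq, D.card]
  omega

/-- The normal Sylow subgroup of a point stabiliser. -/
theorem exists_F (a : Ω) : ∃ F : Subgroup G, F ≤ stabilizer G a ∧ Nat.card F = p ∧
    ∀ g ∈ stabilizer G a, ∀ u ∈ F, g * u * g⁻¹ ∈ F := by
  classical
  haveI : Fact p.Prime := ⟨D.hp⟩
  set St := stabilizer G a with hSt
  have hc : Nat.card St = p * d := D.card_stab a
  have hd := D.d_pos
  have hpd : ¬ p ∣ d := Nat.not_dvd_of_pos_of_lt hd D.lt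
  have hfac : (Nat.card St).factorization p = 1 := by
    rw [hc, Nat.factorization_mul D.hp.ne_zero (by omega), Finsupp.add_apply,
      D.hp.factorization_self, Nat.factorization_eq_zero_of_not_dvd hpd]
  obtain ⟨Q, hQ⟩ := Sylow.exists_subgroup_card_pow_prime (G := St) p (n := 1) (by
    rw [pow_one, hc]
    exact dvd_mul_right p d)
  rw [pow_one] at hQ
  let P : Sylow p St := Sylow.ofCard Q (by rw [hQ, hfac, pow_one])
  have hPQ : (P : Subgroup St) = Q := rfl
  haveI : Finite (Sylow p St) := inferInstance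
  have hn1 := card_sylow_modEq_one p St
  have hn2 := P.card_dvd_index
  have hidx : (P : Subgroup St).index = d := by
    have h1 := Subgroup.card_mul_index (P : Subgroup St)
    rw [hPQ, hQ, hc] at h1
    exact Nat.eq_of_mul_eq_mul_left D.hp.pos h1
  rw [hidx] at hn2
  have hsub : Subsingleton (Sylow p St) := by
    have hle : Nat.card (Sylow p St) ≤ d := Nat.le_of_dvd hd hn2
    have hlt : Nat.card (Sylow p St) < p := lt_of_le_of_lt hle D.lt
    have h1 : Nat.card (Sylow p St) % p = 1 % p := hn1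
    rw [Nat.mod_eq_of_lt hlt, Nat.mod_eq_of_lt D.hp.one_lt] at h1
    exact (Nat.card_eq_one_iff_unique.mp h1).1
  have hnorm : Q.Normal := by
    rw [← hPQ]
    exact Sylow.normal_of_subsingleton P
  refine ⟨Q.map St.subtype, ?_, ?_, ?_⟩
  · rintro _ ⟨u, -, rfl⟩
    exact u.2
  · rw [Subgroup.card_map_of_injective Subtype.val_injective, hQ]
  · rintro g hg _ ⟨u, hu, rfl⟩
    exact ⟨⟨g, hg⟩ * u * ⟨g, hg⟩⁻¹, hnorm.conj_mem u hu _, rfl⟩

/-- Regularity of the Sylow subgroup on the remaining points. -/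
theorem F_reg {a : Ω} {F : Subgroup G} (hF : F ≤ stabilizer G a) (hc : Nat.card F = p)
    {y z : Ω} (hy : y ≠ a) (hz : z ≠ a) : ∃! u : F, (u : G) • y = z := by
  classical
  haveI : Fact p.Prime := ⟨D.hp⟩
  haveI : Finite F := inferInstance
  have hne : ∀ (u : F) {x : Ω}, x ≠ a → (u : G) • x ≠ a := by
    intro u x hx h
    apply hx
    have h1 : (u : G) • a = a := hF u.2
    exact smul_left_cancel _ (h.trans h1.symm)
  -- some point is moved
  obtain ⟨u₀, hu₀⟩ : ∃ u : F, u ≠ 1 := by
    haveI : Fact (1 < Nat.card F) := ⟨by rw [hc]; exact D.hp.one_lt⟩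
    haveI : Nontrivial F := by
      rw [← Finite.one_lt_card_iff_nontrivial, hc]
      exact D.hp.one_lt
    exact exists_ne 1
  obtain ⟨w, hw⟩ : ∃ w : Ω, (u₀ : G) • w ≠ w := by
    by_contra hall
    push Not at hall
    apply hu₀
    apply Subtype.ext
    exact D.faith _ _ (fun y => by rw [hall y]; simp)
  have hwa : w ≠ a := by
    rintro rfl
    exact hw (hF u₀.2)
  -- the map `u ↦ u • w`
  let orb : F → {x : Ω // x ≠ a} := fun u => ⟨(u : G) • w, hne u hwa⟩
  have hstab : ∀ u : F, (u : G) • w = w → u = 1 := by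
    intro u hu
    by_contra hu1
    haveI := isCyclic_of_prime_card (α := F) hc
    have h1 : u₀ ∈ Subgroup.zpowers u := mem_zpowers_of_prime_card hc hu1
    obtain ⟨k, hk⟩ := h1
    apply hw
    rw [← hk]
    have : ∀ k : ℤ, ((u ^ k : F) : G) • w = w := by
      intro k
      have h2 : u ^ k ∈ stabilizer F w := Subgroup.zpow_mem _ (show u ∈ stabilizer F w from hu) k
      exact h2
    exact this k
  have horb : Function.Injective orb := by
    intro u v h
    have h1 : (u : G) • w = (v : G) • w := congrArg Subtype.val h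
    have h2 : ((v⁻¹ * u : F) : G) • w = w := by
      rw [Subgroup.coe_mul, Subgroup.coe_inv, mul_smul, h1, inv_smul_smul]
    exact (inv_mul_eq_one.mp (hstab _ h2)).symm
  have hbij : Function.Bijective orb := by
    refine (Nat.bijective_iff_injective_and_card orb).mpr ⟨horb, ?_⟩
    rw [hc, D.card_ne a]
  have htr : ∀ x : Ω, x ≠ a → ∃ u : F, (u : G) • w = x := by
    intro x hx
    obtain ⟨u, hu⟩ := hbij.2 ⟨x, hx⟩
    exact ⟨u, congrArg Subtype.val hu⟩
  obtain ⟨u₁, hu₁⟩ := htr y hy
  obtain ⟨u₂, hu₂⟩ := htr z hz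
  refine ⟨u₂ * u₁⁻¹, ?_, ?_⟩
  · show ((u₂ * u₁⁻¹ : F) : G) • y = z
    rw [Subgroup.coe_mul, Subgroup.coe_inv, mul_smul, ← hu₁, inv_smul_smul, hu₂]
  · intro v hv
    have h1 : orb (v * u₁) = orb u₂ := by
      apply Subtype.ext
      show ((v * u₁ : F) : G) • w = (u₂ : G) • w
      rw [Subgroup.coe_mul, mul_smul, hu₁, hv, hu₂]
    have h2 := horb h1
    rw [← h2]
    group

/-- The subgroup `F` is abelian. -/
theorem F_comm {F : Subgroup G} (hc : Nat.card F = p) : ∀ x ∈ F, ∀ y ∈ F, x * y = y * x := by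
  haveI : Fact p.Prime := ⟨D.hp⟩
  haveI := isCyclic_of_prime_card (α := F) hc
  intro x hx y hy
  have := (IsCyclic.commGroup (α := F)).mul_comm ⟨x, hx⟩ ⟨y, hy⟩
  exact congrArg Subtype.val this

/-- Three-point stabilisers are trivial. -/
theorem fix3 (g : G) (a b c : Ω) (hab : a ≠ b) (hbc : b ≠ c) (hac : a ≠ c) (ha : g • a = a)
    (hb : g • b = b) (hc : g • c = c) : g = 1 := by
  classical
  haveI : Fact p.Prime := ⟨D.hp⟩
  obtain ⟨F, hF, hcF, hn⟩ := D.exists_F a
  have hba : b ≠ a := Ne.symm hab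
  have hca : c ≠ a := Ne.symm hac
  obtain ⟨u, hu, -⟩ := D.F_reg hF hcF hba hca
  have hu1 : u ≠ 1 := by
    rintro rfl
    apply hbc
    rw [← hu]
    simp
  -- `g` commutes with `u`
  have hcomm : g * u * g⁻¹ = u := by
    have hm := hn g ha u u.2
    obtain ⟨v, -, hv⟩ := D.F_reg hF hcF hba hca
    have h1 : (⟨g * u * g⁻¹, hm⟩ : F) = u := by
      rw [hv ⟨g * u * g⁻¹, hm⟩ ?_, hv u hu]
      show (g * u * g⁻¹) • b = c
      have h2 : g⁻¹ • b = b := by rw [inv_smul_eq_iff, hb]
      rw [mul_smul, mul_smul, h2, hu, hc]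
    exact congrArg Subtype.val h1
  have hall : ∀ v : F, g * v * g⁻¹ = v := by
    intro v
    have hvz : v ∈ Subgroup.zpowers u := mem_zpowers_of_prime_card hcF hu1
    obtain ⟨k, rfl⟩ := hvz
    have h2 : ∀ k : ℤ, g * (u : G) ^ k * g⁻¹ = (u : G) ^ k := by
      intro k
      rw [← conj_zpow, hcomm]
    simpa using h2 k
  apply D.faith
  intro y
  rw [one_smul]
  by_cases hy : y = a
  · rw [hy, ha]
  · obtain ⟨v, hv, -⟩ := D.F_reg hF hcF hba hy
    rw [← hv]
    calc g • (v : G) • b = (g * v * g⁻¹) • g • b := by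
          rw [mul_smul, mul_smul, inv_smul_smul]
      _ = (v : G) • b := by rw [hall, hb]


/-- Double transitivity. -/
theorem two_trans {a b c e : Ω} (hab : a ≠ b) (hce : c ≠ e) : ∃ g : G, g • a = c ∧ g • b = e := by
  haveI := D.trans
  obtain ⟨g₁, h1⟩ := MulAction.exists_smul_eq G a c
  obtain ⟨F, hF, hcF, hn⟩ := D.exists_F c
  have h2 : g₁ • b ≠ c := by
    intro h
    apply hab
    rw [← h1] at h
    exact (smul_left_cancel _ h).symm
  obtain ⟨u, hu, -⟩ := D.F_reg hF hcF h2 (Ne.symm hce)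
  refine ⟨u * g₁, ?_, ?_⟩
  · rw [mul_smul, h1]
    exact hF u.2
  · rw [mul_smul]
    exact hu

/-- The two-point stabiliser has order `d`. -/
theorem card_H {a b : Ω} (hab : a ≠ b) :
    Nat.card (stabilizer G a ⊓ stabilizer G b : Subgroup G) = d := by
  classical
  obtain ⟨F, hF, hcF, hn⟩ := D.exists_F a
  have hba : b ≠ a := Ne.symm hab
  let Φ : F × (stabilizer G a ⊓ stabilizer G b : Subgroup G) → stabilizer G a :=
    fun t => ⟨(t.1 : G) * t.2, (stabilizer G a).mul_mem (hF t.1.2) t.2.2.1⟩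
  have hΦ : Function.Bijective Φ := by
    constructor
    · rintro ⟨u, h⟩ ⟨v, k⟩ hEq
      have h1 : (u : G) * h = v * k := congrArg Subtype.val hEq
      have h2 : (u : G) • b = (v : G) • b := by
        have e1 : ((u : G) * h) • b = (u : G) • b := by
          rw [mul_smul]
          congr 1
          exact h.2.2
        have e2 : ((v : G) * k) • b = (v : G) • b := by
          rw [mul_smul]
          congr 1
          exact k.2.2
        rw [← e1, ← e2, h1]
      obtain ⟨w, -, hw⟩ := D.F_reg hF hcF hba (show (v : G) • b ≠ a from fun h => hba (by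
        have hv : (v : G) • a = a := hF v.2
        exact smul_left_cancel _ (h.trans hv.symm)))
      have huv : u = v := by rw [hw u h2, hw v rfl]
      subst huv
      have hhk : h = k := Subtype.ext (mul_left_cancel h1)
      rw [hhk]
    · rintro ⟨g, hg⟩
      have h1 : g • b ≠ a := by
        intro h
        apply hba
        exact smul_left_cancel g (h.trans (show g • a = a from hg).symm)
      obtain ⟨u, hu, -⟩ := D.F_reg hF hcF hba h1
      refine ⟨⟨u, ⟨(u : G)⁻¹ * g, ⟨?_, ?_⟩⟩⟩, Subtype.ext (by simp [Φ])⟩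
      · exact (stabilizer G a).mul_mem ((stabilizer G a).inv_mem (hF u.2)) hg
      · show ((u : G)⁻¹ * g) • b = b
        rw [mul_smul, inv_smul_eq_iff, hu]
  have h1 := Nat.card_congr (Equiv.ofBijective Φ hΦ)
  rw [Nat.card_prod, hcF, D.card_stab a] at h1
  exact Nat.eq_of_mul_eq_mul_left D.hp.pos h1

/-- Root data. -/
theorem exists_root {a b : Ω} (hab : a ≠ b) :
    ∃ (A : Type u) (_ : AddCommGroup A) (_ : Finite A) (R : RootData G Ω A),
      R.inf = a ∧ R.o = b ∧ Nat.card A = p := by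
  obtain ⟨F, hF, hcF, hn⟩ := D.exists_F a
  obtain ⟨A, i, R, h1, h2, h3, -, -⟩ := exists_rootData_of_abelian F (D.F_comm hcF) (Ne.symm hab)
    (fun u hu => hF hu) (fun y hy => D.F_reg hF hcF (Ne.symm hab) hy)
    (fun g hg u hu => hn g hg u hu) D.faith D.fix3
  have h4 : Nat.card A = p := h3.trans hcF
  have hfin : Finite A := by
    apply Nat.finite_of_card_ne_zero
    rw [h4]
    exact D.hp.ne_zero
  exact ⟨A, i, hfin, R, h1, h2, h4⟩

end PD

section Root

variable {A : Type*} [AddCommGroup A] [Finite A] {R : RootData G Ω A}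

theorem exp_of_card (hc : Nat.card A = p) (x : A) : p • x = 0 := by
  rw [← hc]
  exact card_nsmul_eq_zero'

/-- In prime order `H` acts by scalars. -/
theorem scalar_of_prime (hp : p.Prime) (hc : Nat.card A = p) [Module (ZMod p) A] {g : G} (hg : g ∈ R.H) :
    ∃ u : (ZMod p)ˣ, ∀ x, R.ap g x = (u : ZMod p) • x := by
  classical
  haveI : Fact p.Prime := ⟨hp⟩
  haveI := Fintype.ofFinite A
  haveI : Nontrivial A := by
    rw [← Finite.one_lt_card_iff_nontrivial, hc]
    exact hp.one_lt
  obtain ⟨e, he⟩ := exists_ne (0 : A)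
  let f : ZMod p → A := fun c => c • e
  have hf : Function.Bijective f := by
    refine (Nat.bijective_iff_injective_and_card f).mpr ⟨?_, ?_⟩
    · intro c c' h
      have h1 : (c - c') • e = 0 := by
        rw [sub_smul]
        exact sub_eq_zero.mpr h
      exact sub_eq_zero.mp ((smul_eq_zero.mp h1).resolve_right he)
    · rw [hc, Nat.card_zmod]
  let L : A →ₗ[ZMod p] A := (R.hom ⟨g, hg⟩ : A →+ A).toZModLinearMap p
  have hL : ∀ x, L x = R.ap g x := fun x => rfl
  obtain ⟨c, hc'⟩ := hf.2 (R.ap g e)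
  have hc0 : c ≠ 0 := by
    rintro rfl
    have : R.ap g e = 0 := by
      rw [← hc']
      simp [f]
    exact H_ne_zero hg he this
  refine ⟨Units.mk0 c hc0, fun x => ?_⟩
  obtain ⟨k, rfl⟩ := hf.2 x
  show R.ap g (k • e) = c • (k • e)
  rw [← hL, map_smul, hL, ← hc']
  exact smul_comm _ _ _

end Root


section Fibres

variable {A : Type*} [AddCommGroup A] [Finite A] {R : RootData G Ω A} {s : G}

/-- The fibres of `μ` have at most two elements. -/
theorem card_le_of_fibres (hs : R.Inv s) (hsp : Special s R) (N : Subgroup G)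
    (hmem : ∀ x : A, x ≠ 0 → mu s R x * s ∈ N) : Nat.card A ≤ 2 * Nat.card N + 1 := by
  classical
  haveI := Fintype.ofFinite A
  haveI := Fintype.ofFinite N
  let f : {x : A // x ≠ 0} → N := fun x => ⟨mu s R x * s, hmem x x.2⟩
  have hfib : ∀ a ∈ (Finset.univ : Finset {x : A // x ≠ 0}).image f,
      ((Finset.univ : Finset {x : A // x ≠ 0}).filter fun x => f x = a).card ≤ 2 := by
    intro a ha
    obtain ⟨x, -, rfl⟩ := Finset.mem_image.mp ha
    have hsub : (Finset.univ.filter fun y => f y = f x) ⊆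
        ({x, ⟨-x.1, neg_ne_zero.mpr x.2⟩} : Finset {x : A // x ≠ 0}) := by
      intro y hy
      have hy' : f y = f x := (Finset.mem_filter.mp hy).2
      have h1 : mu s R y * s = mu s R x * s := congrArg Subtype.val hy'
      have h2 : mu s R x.1 = mu s R y.1 := (mul_right_cancel h1).symm
      rcases mu_fiber hs hsp x.2 y.2 h2 with h3 | h3
      · simp only [Finset.mem_insert, Finset.mem_singleton]
        exact Or.inl (Subtype.ext h3)
      · simp only [Finset.mem_insert, Finset.mem_singleton]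
        exact Or.inr (Subtype.ext h3)
    exact (Finset.card_le_card hsub).trans Finset.card_le_two
  have h1 := Finset.card_le_mul_card_image (f := f) Finset.univ 2 hfib
  have hX : Fintype.card {x : A // x ≠ 0} + 1 = Nat.card A := by
    rw [Nat.card_eq_fintype_card, Fintype.card_subtype_compl, Fintype.card_subtype_eq]
    have : 0 < Fintype.card A := Fintype.card_pos_iff.mpr ⟨0⟩
    omega
  rw [Finset.card_univ] at h1
  have h2 : ((Finset.univ : Finset {x : A // x ≠ 0}).image f).card ≤ Fintype.card N :=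
    Finset.card_le_univ _
  rw [Nat.card_eq_fintype_card (α := N)]
  omega

/-- If `|A| = 2 |N| + 1`, every element of `N` is some `μ x * s`. -/
theorem surj_of_card (hs : R.Inv s) (hsp : Special s R) (N : Subgroup G)
    (hmem : ∀ x : A, x ≠ 0 → mu s R x * s ∈ N) (hcard : 2 * Nat.card N + 1 ≤ Nat.card A) :
    ∀ g ∈ N, ∃ x : A, x ≠ 0 ∧ mu s R x * s = g := by
  classical
  haveI := Fintype.ofFinite A
  haveI := Fintype.ofFinite N
  let f : {x : A // x ≠ 0} → N := fun x => ⟨mu s R x * s, hmem x x.2⟩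
  have hfib : ∀ a ∈ (Finset.univ : Finset {x : A // x ≠ 0}).image f,
      ((Finset.univ : Finset {x : A // x ≠ 0}).filter fun x => f x = a).card ≤ 2 := by
    intro a ha
    obtain ⟨x, -, rfl⟩ := Finset.mem_image.mp ha
    have hsub : (Finset.univ.filter fun y => f y = f x) ⊆
        ({x, ⟨-x.1, neg_ne_zero.mpr x.2⟩} : Finset {x : A // x ≠ 0}) := by
      intro y hy
      have hy' : f y = f x := (Finset.mem_filter.mp hy).2
      have h1 : mu s R y * s = mu s R x * s := congrArg Subtype.val hy'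
      have h2 : mu s R x.1 = mu s R y.1 := (mul_right_cancel h1).symm
      rcases mu_fiber hs hsp x.2 y.2 h2 with h3 | h3
      · simp only [Finset.mem_insert, Finset.mem_singleton]
        exact Or.inl (Subtype.ext h3)
      · simp only [Finset.mem_insert, Finset.mem_singleton]
        exact Or.inr (Subtype.ext h3)
    exact (Finset.card_le_card hsub).trans Finset.card_le_two
  have h1 := Finset.card_le_mul_card_image (f := f) Finset.univ 2 hfib
  have hX : Fintype.card {x : A // x ≠ 0} + 1 = Nat.card A := by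
    rw [Nat.card_eq_fintype_card, Fintype.card_subtype_compl, Fintype.card_subtype_eq]
    have : 0 < Fintype.card A := Fintype.card_pos_iff.mpr ⟨0⟩
    omega
  have himg : (Finset.univ : Finset {x : A // x ≠ 0}).image f = Finset.univ := by
    apply Finset.eq_univ_of_card
    apply le_antisymm (Finset.card_le_univ _)
    rw [Finset.card_univ] at h1
    rw [Nat.card_eq_fintype_card (α := N)] at hcard
    omega
  intro g hg
  obtain ⟨x, -, hx⟩ := Finset.mem_image.mp (himg ▸ Finset.mem_univ (⟨g, hg⟩ : N))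
  exact ⟨x.1, x.2, congrArg Subtype.val hx⟩

end Fibres

/-- A ring isomorphism induces an isomorphism of projective general linear groups. -/
noncomputable def pglCongr {R S : Type*} [CommRing R] [CommRing S] (e : R ≃+* S) :
    Matrix.ProjGenLinGroup (Fin 2) R ≃* Matrix.ProjGenLinGroup (Fin 2) S where
  toFun := Matrix.ProjGenLinGroup.map (e : R →+* S)
  invFun := Matrix.ProjGenLinGroup.map (e.symm : S →+* R)
  left_inv x := by
    induction x using Matrix.ProjGenLinGroup.induction_on with | mk g =>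
    rw [Matrix.ProjGenLinGroup.map_mk, Matrix.ProjGenLinGroup.map_mk]
    congr 1
    apply Units.ext
    ext i j
    simp
  right_inv x := by
    induction x using Matrix.ProjGenLinGroup.induction_on with | mk g =>
    rw [Matrix.ProjGenLinGroup.map_mk, Matrix.ProjGenLinGroup.map_mk]
    congr 1
    apply Units.ext
    ext i j
    simp
  map_mul' := map_mul _

/-- The case `d = p - 1`: sharply 3-transitive. -/
theorem PD.sharp3 (D : PD G Ω p d) (hd : d + 1 = p) : Sharp3 G Ω := by
  classical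
  refine ⟨?_, D.fix3⟩
  intro a b c a' b' c' hab hbc hac hab' hbc' hac'
  obtain ⟨A, iA, iF, R, h1, h2, hcA⟩ := D.exists_root hab
  subst h1 h2
  obtain ⟨g₁, h3, h4⟩ := D.two_trans hab' hab
  haveI := Fintype.ofFinite A
  have hcH : Nat.card R.H = d := D.card_H hab
  have hz1 : g₁ • c' ≠ R.inf := by
    intro h
    apply hac'
    exact smul_left_cancel g₁ (h3.trans h.symm)
  have hz2 : g₁ • c' ≠ R.o := by
    intro h
    apply hbc'
    exact smul_left_cancel g₁ (h4.trans h.symm)
  obtain ⟨u, rfl⟩ := R.pt_surj c (Ne.symm hac)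
  have hu : u ≠ 0 := fun h0 => hbc (by rw [h0]; rfl)
  obtain ⟨u', hu'⟩ := R.pt_surj _ hz1
  have hu'0 : u' ≠ 0 := by
    intro h0
    apply hz2
    rw [← hu', h0]
    rfl
  have hsurj : ∃ h ∈ R.H, R.ap h u = u' := by
    let f : R.H → {x : A // x ≠ 0} := fun g => ⟨R.ap g u, H_ne_zero g.2 hu⟩
    have hf : Function.Bijective f := by
      refine (Nat.bijective_iff_injective_and_card f).mpr ⟨?_, ?_⟩
      · intro g k h
        exact Subtype.ext (H_eq g.2 k.2 hu (congrArg Subtype.val h))
      · rw [hcH, Nat.card_eq_fintype_card (α := {x : A // x ≠ 0}), Fintype.card_subtype_compl,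
          Fintype.card_subtype_eq, ← Nat.card_eq_fintype_card, hcA]
        omega
    obtain ⟨g, hg⟩ := hf.2 ⟨u', hu'0⟩
    exact ⟨g, g.2, congrArg Subtype.val hg⟩
  obtain ⟨h, hh, hhu⟩ := hsurj
  refine ⟨g₁⁻¹ * h, ?_, ?_, ?_⟩
  · rw [mul_smul, inv_smul_eq_iff, hh.1, h3]
  · rw [mul_smul, inv_smul_eq_iff, hh.2, h4]
  · rw [mul_smul, inv_smul_eq_iff, H_pt hh, hhu, hu']

/-- The characteristic two case of the sharply 3-transitive theorem. -/
theorem main_two {A : Type*} [AddCommGroup A] [Finite A] (S : Sharp3 G Ω) (R : RootData G Ω A)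
    (hneg : ∀ x : A, -x = x) {e : A} (he : e ≠ 0) :
    ∃ (K : Type) (_ : Field K) (_ : Fintype K), Fintype.card K = Nat.card A ∧
      Nonempty (G ≃* Matrix.ProjGenLinGroup (Fin 2) K) := by
  obtain ⟨s, hs, hse⟩ := exists_inv (R := R) S he
  have hse' : R.ap s e = -e := by rw [hse, hneg]
  have hsp : Special s R := by
    intro x hx
    rw [kap_def, hneg, hneg, hs.ap_ap hx]
  have hmu : ∀ x : A, x ≠ 0 → mu s R x * mu s R x = 1 := fun x hx => mu_sq S hs hsp he hse' hx
  have hcH := card_H (R := R) S he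
  have hinv := inverts_of_card hs hsp hmu R.H (fun x hx => mu_mem hs hx) 1 (Or.inr ⟨rfl, hneg⟩)
    (by rw [one_mul]; exact hcH.le)
  exact Cfsg.Agent.Lib.Zass.RootFinal.final_PGL R hs hsp hinv he hse' hcH

/-- The case `d = p - 1`. -/
theorem PD.pgl_case (D : PD G Ω p d) (hd : d + 1 = p) :
    Nonempty (G ≃* Matrix.ProjGenLinGroup (Fin 2) (ZMod p)) := by
  classical
  haveI : Fact p.Prime := ⟨D.hp⟩
  have S := D.sharp3 hd
  have hcΩ : 1 < Fintype.card Ω := by
    rw [D.card]
    have := D.hp.pos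
    omega
  obtain ⟨a, b, hab⟩ := Fintype.exists_pair_of_one_lt_card hcΩ
  obtain ⟨A, iA, iF, R, h1, h2, hcA⟩ := D.exists_root hab
  have hexp : ∀ x : A, p • x = 0 := exp_of_card hcA
  have hKP : ∃ (K : Type) (_ : Field K) (_ : Fintype K), Fintype.card K = p ∧
      Nonempty (G ≃* Matrix.ProjGenLinGroup (Fin 2) K) := by
    by_cases hp2 : p = 2
    · subst hp2
      have hneg : ∀ x : A, -x = x := by
        intro x
        have := hexp x
        rw [two_nsmul] at this
        exact neg_eq_of_add_eq_zero_left this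
      haveI : Nontrivial A := by
        rw [← Finite.one_lt_card_iff_nontrivial, hcA]
        norm_num
      obtain ⟨e, he⟩ := exists_ne (0 : A)
      obtain ⟨K, i1, i2, h3, h4⟩ := main_two S R hneg he
      exact ⟨K, i1, i2, h3.trans hcA, h4⟩
    · obtain ⟨K, i1, i2, h3, h4⟩ := Cfsg.Agent.Lib.Zass.Sharp3Odd.main_odd S R D.hp hp2 odd_one hexp
        (by rw [hcA, pow_one])
      exact ⟨K, i1, i2, by rw [h3, pow_one], h4⟩
  obtain ⟨K, i1, i2, h3, ⟨h4⟩⟩ := hKP
  refine ⟨h4.trans (pglCongr (FiniteField.ringEquivOfCardEq ?_))⟩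
  rw [h3, ZMod.card]

section ZCase

open Cfsg

variable {A : Type u} [AddCommGroup A] [Finite A] {R : RootData G Ω A}

/-- `H` acts semiregularly on the non-zero elements of `A`. -/
theorem card_H_dvd (R : RootData G Ω A) : Nat.card R.H ∣ Nat.card A - 1 := by
  classical
  letI inst : MulAction R.H {x : A // x ≠ 0} :=
    { smul := fun g x => ⟨R.ap g x.1, H_ne_zero g.2 x.2⟩
      one_smul := fun x => Subtype.ext (H_one x.1)
      mul_smul := fun g k x => Subtype.ext (H_mul g.2 k.2 x.1) }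
  haveI := Fintype.ofFinite A
  haveI := Fintype.ofFinite R.H
  have h1 := MulAction.card_eq_sum_card_group_div_card_stabilizer R.H {x : A // x ≠ 0}
  have h2 : ∀ ω : Quotient (MulAction.orbitRel R.H {x : A // x ≠ 0}),
      Fintype.card R.H / Fintype.card (stabilizer R.H ω.out) = Fintype.card R.H := by
    intro ω
    have h3 : Fintype.card (stabilizer R.H ω.out) = 1 := by
      rw [Fintype.card_eq_one_iff]
      refine ⟨1, ?_⟩
      rintro ⟨g, hg⟩
      apply Subtype.ext
      apply Subtype.ext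
      have h4 : R.ap g ω.out.1 = ω.out.1 := congrArg Subtype.val hg
      exact H_fix g.2 ω.out.2 h4
    rw [h3, Nat.div_one]
  rw [Finset.sum_congr rfl (fun ω _ => h2 ω), Finset.sum_const, smul_eq_mul] at h1
  have hX : Fintype.card {x : A // x ≠ 0} = Nat.card A - 1 := by
    rw [Nat.card_eq_fintype_card, Fintype.card_subtype_compl, Fintype.card_subtype_eq]
  rw [← hX, h1, Nat.card_eq_fintype_card]
  exact dvd_mul_left _ _

/-- An involution of `H` gives the special property, etc. -/
theorem special_of_involution {s ι : G} (hs : R.Inv s) (hι : ι ∈ R.H) (hιι : ι * ι = 1) (hι1 : ι ≠ 1) :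
    Special s R ∧ (∀ x : A, x ≠ 0 → mu s R x * mu s R x = 1) := by
  have hιx := Cfsg.Agent.Lib.Zass.Sharp3Odd.neg_of_sq hι hιι hι1
  have hconj : ∀ g ∈ R.H, g * g = 1 → g ≠ 1 → g = ι := by
    intro g hg hgg hg1
    exact H_ext hg hι (fun x => by
      rw [Cfsg.Agent.Lib.Zass.Sharp3Odd.neg_of_sq hg hgg hg1, hιx])
  have hsι : s * ι * s = ι := by
    apply hconj _ (hs.conj_mem hι)
    · have : s * ι * s * (s * ι * s) = s * ι * (s * s) * ι * s := by group
      rw [this, hs.sq, mul_one, mul_assoc s ι ι, hιι, mul_one, hs.sq]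
    · intro h
      apply hι1
      have : ι = s * (s * ι * s) * s := by
        have h2 : s * (s * ι * s) * s = (s * s) * ι * (s * s) := by group
        rw [h2, hs.sq]
        group
      rw [this, h, mul_one, hs.sq]
  have hsp : Special s R := by
    intro x hx
    rw [kap_def, ← hιx (R.ap s x), hs.ap_conj hι (hs.ne_zero hx), hs.ap_ap hx, hsι, hιx]
  refine ⟨hsp, ?_⟩
  intro x hx
  have hm := mu_mem hs hx
  -- `ι` commutes with elements of `H`
  have hcent : ∀ g ∈ R.H, g * ι * g⁻¹ = ι := by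
    intro g hg
    have hmem : g * ι * g⁻¹ ∈ R.H := R.H.mul_mem (R.H.mul_mem hg hι) (R.H.inv_mem hg)
    apply hconj _ hmem
    · have : g * ι * g⁻¹ * (g * ι * g⁻¹) = g * (ι * ι) * g⁻¹ := by group
      rw [this, hιι]
      group
    · intro h
      apply hι1
      have : ι = g⁻¹ * (g * ι * g⁻¹) * g := by group
      rw [this, h]
      group
  have hιs : ι * s = s * ι := by
    calc ι * s = s * ι * s * s := by rw [hsι]
      _ = s * ι := by rw [mul_assoc, hs.sq, mul_one]
  have h1 : ι * mu s R x * ι⁻¹ = mu s R x := by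
    have h2 : mu s R x = (mu s R x * s) * s := by rw [mul_assoc, hs.sq, mul_one]
    have h3 : ι * (mu s R x * s) = (mu s R x * s) * ι := by
      have := hcent _ hm
      calc ι * (mu s R x * s) = (mu s R x * s) * ι * (mu s R x * s)⁻¹ * (mu s R x * s) := by rw [this]
        _ = (mu s R x * s) * ι := by group
    calc ι * mu s R x * ι⁻¹ = ι * (mu s R x * s) * s * ι⁻¹ := by
          have : ι * (mu s R x * s) * s * ι⁻¹ = ι * mu s R x * (s * s) * ι⁻¹ := by group
          rw [this, hs.sq, mul_one]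
      _ = (mu s R x * s) * ι * s * ι⁻¹ := by rw [h3]
      _ = (mu s R x * s) * (ι * s) * ι⁻¹ := by group
      _ = (mu s R x * s) * (s * ι) * ι⁻¹ := by rw [hιs]
      _ = mu s R x * (s * s) := by group
      _ = mu s R x := by rw [hs.sq, mul_one]
  rw [mu_conj hs hι hx, hιx] at h1
  have h2 := mu_kap hs hx
  rw [hsp x hx, h1] at h2
  nth_rw 1 [h2]
  exact inv_mul_cancel _

/-- The even case of the Zassenhaus situation. -/
theorem PD.even_case (D : PD G Ω p d) (heven : Even d) (hd : d + 1 ≠ p) (hinvol : ∀ a b : Ω, a ≠ b →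
    ∃ s : G, s * s = 1 ∧ s • a = b ∧ s • b = a) :
    2 * d + 1 = p ∧ Nonempty (G ≃* Matrix.ProjectiveSpecialLinearGroup (Fin 2) (ZMod p)) := by
  classical
  haveI : Fact p.Prime := ⟨D.hp⟩
  have hcΩ : 1 < Fintype.card Ω := by
    rw [D.card]
    have := D.hp.pos
    omega
  obtain ⟨a, b, hab⟩ := Fintype.exists_pair_of_one_lt_card hcΩ
  obtain ⟨A, iA, iF, R, h1, h2, hcA⟩ := D.exists_root hab
  subst h1 h2
  have hcH : Nat.card R.H = d := D.card_H hab
  -- the involution
  obtain ⟨s, hss, hs1, hs2⟩ := hinvol _ _ hab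
  have hs : R.Inv s := ⟨⟨hs1, hs2⟩, hss⟩
  -- the involution of `H`
  have hd0 := D.d_pos
  have h2d : 2 ∣ Nat.card R.H := by rw [hcH]; exact heven.two_dvd
  haveI : Fact (Nat.Prime 2) := ⟨Nat.prime_two⟩
  obtain ⟨g, hg⟩ := exists_prime_orderOf_dvd_card' 2 h2d
  have hgι : (g : G) * g = 1 := by
    have := pow_orderOf_eq_one g
    rw [hg, pow_two] at this
    exact congrArg Subtype.val this
  have hg1 : (g : G) ≠ 1 := by
    intro h
    have : g = 1 := Subtype.ext h
    rw [this, orderOf_one] at hg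
    omega
  obtain ⟨hsp, hmu⟩ := special_of_involution hs g.2 hgι hg1
  have hle := card_le_of_fibres hs hsp R.H (fun x hx => mu_mem hs hx)
  have hdvd := card_H_dvd R
  rw [hcH, hcA] at hdvd
  rw [hcH, hcA] at hle
  have hpp := D.hp.two_le
  obtain ⟨t, ht⟩ := hdvd
  have ht2 : t ≤ 2 := by
    by_contra hc
    have : d * 3 ≤ d * t := Nat.mul_le_mul_left d (by omega)
    omega
  have h2d1 : 2 * d + 1 = p := by
    interval_cases t
    · omega
    · omega
    · omega
  refine ⟨h2d1, ?_⟩
  have hcard : Nat.card R.H * 2 + 1 = Nat.card A := by rw [hcH, hcA, ← h2d1]; ring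
  have hinv := Cfsg.Agent.Lib.Zass.Sharp3.inverts_of_card hs hsp hmu R.H
    (fun x hx => mu_mem hs hx) 2 (Or.inl rfl) (by omega)
  obtain ⟨e, he0, hme⟩ := surj_of_card hs hsp R.H (fun x hx => mu_mem hs hx) (by omega) 1 R.H.one_mem
  have hme' : mu s R e = s := by
    have := hs.sq
    exact mul_right_cancel (hme.trans this.symm)
  have hse : R.ap s e = -e := by
    have := mu_smul_self hs hsp he0
    rwa [hme'] at this
  obtain ⟨K, i1, i2, h3, h4, ⟨h5⟩⟩ := Cfsg.Agent.Lib.Zass.RootFinal.final_PSL R hs hsp hinv he0 hse hcard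
  obtain ⟨h6⟩ := Cfsg.Agent.Lib.Small.PSL2Rec.nonempty_pslCongr_of_card (K := K) (L := ZMod p)
    (by rw [h4, hcA, ZMod.card])
  exact ⟨h5.trans h6⟩

/-- Odd `p • x = 0` gives no 2-torsion. -/
theorem no_two_torsion {p : ℕ} (hp : Odd p) {x : A} (hx : p • x = 0) (h2 : x + x = 0) : x = 0 := by
  obtain ⟨k, rfl⟩ := hp
  have h1 : (2 * k + 1) • x = k • (x + x) + x := by
    rw [add_smul, one_smul, mul_comm, mul_smul, two_nsmul]
  rw [h1, h2, smul_zero, zero_add] at hx
  exact hx

/-- The odd case of the Zassenhaus situation. -/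
theorem PD.odd_case (p : ℕ) : ∀ (d : ℕ) (G : Type u) [Group G] [Finite G] [MulAction G Ω],
    PD G Ω p d → IsZassenhausGroup G Ω → Odd d →
    2 * d + 1 = p ∧ Nonempty (G ≃* Matrix.ProjectiveSpecialLinearGroup (Fin 2) (ZMod p)) := by
  intro d
  induction d using Nat.strong_induction_on with
  | _ d IH =>
  intro G _ _ _ D hZ hodd
  classical
  haveI : Fact p.Prime := ⟨D.hp⟩
  have hcΩ : 1 < Fintype.card Ω := by
    rw [D.card]
    have := D.hp.pos
    omega
  obtain ⟨a, b, hab⟩ := Fintype.exists_pair_of_one_lt_card hcΩ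
  have hcE : Nat.card (Cfsg.Agent.Lib.Zass.Stab.E (G := G) a b) = d := D.card_H hab
  have h1d : 1 < d := by
    obtain ⟨g, hg1, a', b', hab', ha', hb'⟩ := hZ.2.2.2.1
    have hc := D.card_H hab'
    by_contra hd1
    have hd0 := D.d_pos
    have h1 : d = 1 := by omega
    rw [h1] at hc
    have h2 := (Nat.card_eq_one_iff_unique.mp hc).1
    have h3 : (⟨g, ha', hb'⟩ : (stabilizer G a' ⊓ stabilizer G b' : Subgroup G)) = 1 :=
      Subsingleton.elim _ _
    exact hg1 (congrArg Subtype.val h3)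
  have h3d : 3 ≤ d := by
    obtain ⟨k, rfl⟩ := hodd
    omega
  have hplt := D.lt
  have hoddp : Odd p := D.hp.odd_of_ne_two (by omega)
  by_cases hnil : ∀ q : ℕ, q.Prime → q ∣ Nat.card (Cfsg.Agent.Lib.Zass.Stab.E (G := G) a b) →
      ¬ ∃ N : Subgroup G, N.Normal ∧ N.index = q ^ (Nat.card G).factorization q
  · obtain ⟨-, -, hconj⟩ := Cfsg.Agent.Lib.Zass.OddStab.main hZ hab (by rwa [hcE]) hnil
    obtain ⟨A, iA, iF, R, h1, h2, hcA⟩ := D.exists_root hab
    subst h1 h2
    have hexp : ∀ x : A, p • x = 0 := exp_of_card hcA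
    have instM : Module (ZMod p) A := AddCommGroup.zmodModule hexp
    have hcH : Nat.card R.H = d := D.card_H hab
    obtain ⟨⟨s, hso, hs1, hs2⟩, -, -⟩ := Cfsg.Agent.S0740.result hZ hab
    have hsq : s * s = 1 := by
      have := pow_orderOf_eq_one s
      rwa [hso, pow_two] at this
    have hs : R.Inv s := ⟨⟨hs1, hs2⟩, hsq⟩
    have hinv : ∀ g ∈ R.H, s * g * s = g⁻¹ := by
      intro g hg
      have := hconj s hs1 hs2 g hg
      rwa [hs.inv_eq] at this
    have hnat : ∀ n : ℕ, n ≠ 0 → n < p → ((n : ℕ) : ZMod p) ≠ 0 := by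
      intro n hn hnp
      rw [Ne, ZMod.natCast_eq_zero_iff]
      exact Nat.not_dvd_of_pos_of_lt (by omega) hnp
    have h2K : (2 : ZMod p) ≠ 0 := by
      have := hnat 2 (by norm_num) (by omega)
      simpa using this
    have h3K : (3 : ZMod p) ≠ 0 := by
      have := hnat 3 (by norm_num) (by omega)
      simpa using this
    obtain ⟨hsp, e, he0, hse, hcard⟩ := Cfsg.Agent.Lib.Zass.OddSpecial.special_of_scalar (K := ZMod p)
      hs hinv (fun x hx => no_two_torsion hoddp (hexp x) hx) (by rwa [hcH]) (by rwa [hcH]) h2K h3K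
      (fun g hg => scalar_of_prime D.hp hcA hg)
    refine ⟨by rw [hcH, hcA] at hcard; omega, ?_⟩
    obtain ⟨K, i1, i2, h3, h4, ⟨h5⟩⟩ :=
      Cfsg.Agent.Lib.Zass.RootFinal.final_PSL R hs hsp hinv he0 hse hcard
    obtain ⟨h6⟩ := Cfsg.Agent.Lib.Small.PSL2Rec.nonempty_pslCongr_of_card (K := K) (L := ZMod p)
      (by rw [h4, hcA, ZMod.card])
    exact ⟨h5.trans h6⟩
  · exfalso
    push Not at hnil
    obtain ⟨q, hq, hqE, N, hN, hidx⟩ := hnil
    rw [hcE] at hqE
    have hd0 := D.d_pos
    have hqd : q ≤ d := Nat.le_of_dvd hd0 hqE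
    have hqG : q ∣ Nat.card G := by
      rw [D.order]
      exact hqE.trans (dvd_mul_left _ _)
    have hG0 : Nat.card G ≠ 0 := Nat.card_pos.ne'
    set v := (Nat.card G).factorization q with hv
    have hv1 : 1 ≤ v := (hq.dvd_iff_one_le_factorization hG0).mp hqG
    have hN1 : N ≠ ⊥ := by
      rintro rfl
      rw [Subgroup.index_bot] at hidx
      have h1 : p ∣ q ^ v := by
        rw [← hidx, D.order]
        exact (dvd_mul_left _ _).mul_right _
      have h2 := (Nat.prime_dvd_prime_iff_eq D.hp hq).mp (D.hp.dvd_of_dvd_pow h1)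
      omega
    haveI := hN
    have hZN := Cfsg.Agent.Lib.Zass.NormalZass.isZassenhausGroup_of_normal hZ N hN1
    haveI : Fintype N := Fintype.ofFinite N
    have hcN := Cfsg.Agent.Lib.Zass.InvCount.card_G hZN hab
    rw [D.card] at hcN
    simp only [Nat.add_sub_cancel] at hcN
    set d' := Nat.card (Cfsg.Agent.Lib.Zass.Stab.E (G := N) a b) with hd'
    have h4 := Subgroup.card_mul_index N
    rw [hcN, hidx, D.order] at h4
    have hpos : 0 < (p + 1) * p := Nat.mul_pos (by omega) D.hp.pos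
    have hdd : d' * q ^ v = d := by
      apply Nat.eq_of_mul_eq_mul_left hpos
      rw [← h4]
      ring
    have hd'0 : 0 < d' := Nat.card_pos
    have hqv : 2 ≤ q ^ v := by
      calc 2 ≤ q := hq.two_le
        _ = q ^ 1 := (pow_one q).symm
        _ ≤ q ^ v := Nat.pow_le_pow_right hq.pos hv1
    have hlt : d' < d := by
      rw [← hdd]
      nlinarith
    have hoddd' : Odd d' := Odd.of_dvd_nat hodd ⟨q ^ v, hdd.symm⟩
    have D' : PD N Ω p d' :=
      { hp := D.hp
        card := D.card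
        trans := by
          haveI := hZN.2.1
          exact MulAction.isPretransitive_of_is_two_pretransitive
        faith := fun g g' h => Subtype.ext (D.faith _ _ h)
        order := hcN
        lt := by omega }
    have h2d' := (IH d' hlt N D' hZN hoddd').1
    obtain ⟨A, iA, iF, R, h1, h2, hcA⟩ := D.exists_root hab
    subst h1 h2
    have hdvd := card_H_dvd R
    have hcH : Nat.card R.H = d := D.card_H hab
    rw [hcH, hcA, ← hdd, ← h2d'] at hdvd
    have h5 : q ^ v ∣ 2 := by
      have h6 : d' * q ^ v ∣ d' * 2 := by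
        have : 2 * d' + 1 - 1 = d' * 2 := by omega
        rwa [this] at hdvd
      exact (Nat.mul_dvd_mul_iff_left hd'0).mp h6
    have h7 : q ∣ 2 := (dvd_pow_self q (by omega)).trans h5
    have h8 : q = 2 := (Nat.prime_dvd_prime_iff_eq hq Nat.prime_two).mp h7
    rw [h8] at hqE
    exact (Nat.not_even_iff_odd.mpr hodd) (even_iff_two_dvd.mpr hqE)

end ZCase

section Reg

variable {V : Type u} [AddCommGroup V] {a : Ω} {τ : V → G}

/-- Additive coordinates for a regular normal subgroup. -/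
structure Coord (a : Ω) (τ : V → G) : Prop where
  add : ∀ x y, τ (x + y) = τ x * τ y
  bij : Function.Bijective (fun x => τ x • a)
  norm : ∀ g : G, g • a = a → ∀ x, ∃ y, g * τ x * g⁻¹ = τ y

namespace Coord

theorem τ_zero (C : Coord a τ) : τ 0 = 1 := by
  have h := C.add 0 0
  rw [add_zero] at h
  exact (left_eq_mul.mp h)

theorem τ_inj (C : Coord a τ) : Function.Injective τ := fun x y h => C.bij.1 (by
  show τ x • a = τ y • a
  rw [h])

theorem ne_of_ne_zero (C : Coord a τ) {x : V} (hx : x ≠ 0) : τ x • a ≠ a := by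
  intro h
  apply hx
  apply C.bij.1
  show τ x • a = τ 0 • a
  rw [h, C.τ_zero, one_smul]

/-- Conjugation in coordinates. -/
noncomputable def T (C : Coord a τ) (g : G) (hg : g • a = a) : V →+ V :=
  AddMonoidHom.mk' (fun x => (C.norm g hg x).choose) (by
    intro x y
    apply C.τ_inj
    have h1 := (C.norm g hg (x + y)).choose_spec
    have h2 := (C.norm g hg x).choose_spec
    have h3 := (C.norm g hg y).choose_spec
    calc τ _ = g * τ (x + y) * g⁻¹ := h1.symm
      _ = (g * τ x * g⁻¹) * (g * τ y * g⁻¹) := by rw [C.add]; group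
      _ = τ _ * τ _ := congrArg₂ (· * ·) h2 h3
      _ = τ (_ + _) := (C.add _ _).symm)

theorem τ_T (C : Coord a τ) (g : G) (hg : g • a = a) (x : V) :
    τ (C.T g hg x) = g * τ x * g⁻¹ := (C.norm g hg x).choose_spec.symm

theorem T_inj (C : Coord a τ) (g : G) (hg : g • a = a) : Function.Injective (C.T g hg) := by
  intro x y h
  apply C.τ_inj
  have h1 : g * τ x * g⁻¹ = g * τ y * g⁻¹ := by rw [← C.τ_T g hg, ← C.τ_T g hg, h]
  exact mul_left_cancel (mul_right_cancel h1)

end Coord

/-- The field coordinates. -/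
theorem exists_K [Finite V] (C : Coord a τ) (F : Subgroup G) (hF : ∀ u ∈ F, u • a = a)
    (hcomm : ∀ x ∈ F, ∀ y ∈ F, x * y = y * x)
    (hreg : ∀ y z : Ω, y ≠ a → z ≠ a → ∃ u ∈ F, u • y = z)
    (hnorm : ∀ g : G, g • a = a → ∀ u ∈ F, g * u * g⁻¹ ∈ F) {e : V} (he : e ≠ 0) :
    ∃ (K : Type) (_ : Field K) (_ : Fintype K) (E : K ≃ Ω), Fintype.card K = Nat.card V ∧ E 0 = a ∧
      ∀ g : G, ∃ (c : K) (σ : K ≃+* K) (u : K), c ≠ 0 ∧ ∀ k, g • E k = E (c * σ k + u) := by
  classical
  letI instF : CommGroup F :=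
    { (inferInstance : Group F) with mul_comm := fun x y => Subtype.ext (hcomm x x.2 y y.2) }
  let φ : F →* AddMonoid.End V :=
    { toFun := fun γ => C.T γ (hF γ γ.2)
      map_one' := by
        ext x
        apply C.τ_inj
        have := C.τ_T (1 : F) (hF _ (1 : F).2) x
        show τ (C.T (1 : F) (hF _ (1 : F).2) x) = τ x
        rw [this]
        simp
      map_mul' := by
        intro γ γ'
        ext x
        apply C.τ_inj
        show τ (C.T (γ * γ' : F) (hF _ (γ * γ' : F).2) x) = τ (C.T γ (hF _ γ.2) (C.T γ' (hF _ γ'.2) x))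
        rw [C.τ_T, C.τ_T, C.τ_T]
        show (γ : G) * (γ' : G) * τ x * ((γ : G) * (γ' : G))⁻¹ = _
        group }
  have hφ : ∀ γ x, φ γ x = C.T γ (hF γ γ.2) x := fun _ _ => rfl
  have hirr : ∀ B : AddSubgroup V, B ≠ ⊥ → (∀ γ, ∀ x ∈ B, φ γ x ∈ B) → B = ⊤ := by
    intro B hB hinv
    obtain ⟨x₀, hx₀, hx₀0⟩ := B.ne_bot_iff_exists_ne_zero.mp hB |>.imp (fun x h => h) |> fun ⟨x, hx⟩ => (⟨x.1, x.2, fun h => hx (Subtype.ext h)⟩ : ∃ x₀ : V, x₀ ∈ B ∧ x₀ ≠ 0)
    rw [eq_top_iff]
    intro x _
    by_cases hx : x = 0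
    · rw [hx]
      exact B.zero_mem
    obtain ⟨u, hu, huy⟩ := hreg _ _ (C.ne_of_ne_zero hx₀0) (C.ne_of_ne_zero hx)
    have h1 : C.T u (hF u hu) x₀ = x := by
      apply C.bij.1
      show τ (C.T u (hF u hu) x₀) • a = τ x • a
      have hu' : u⁻¹ • a = a := by rw [inv_smul_eq_iff, hF u hu]
      rw [C.τ_T, mul_smul, mul_smul, hu', huy]
    rw [← h1]
    exact hinv ⟨u, hu⟩ x₀ hx₀
  obtain ⟨K, iK, iFt, ε, χ, hε, hφχ, hgen⟩ := Cfsg.Agent.Lib.Zass.FieldOf.exists_field φ hirr e he
  let E : K ≃ Ω := ε.toEquiv.trans (Equiv.ofBijective _ C.bij)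
  have hE : ∀ k, E k = τ (ε k) • a := fun k => rfl
  refine ⟨K, iK, iFt, E, ?_, ?_, ?_⟩
  · rw [← Nat.card_congr ε.toEquiv, Nat.card_eq_fintype_card]
  · rw [hE, map_zero, C.τ_zero, one_smul]
  intro g
  obtain ⟨n, hn⟩ := C.bij.2 (g • a)
  have hn' : τ n • a = g • a := hn
  have hg₀ : ((τ n)⁻¹ * g) • a = a := by
    rw [mul_smul, inv_smul_eq_iff, hn']
  set g₀ := (τ n)⁻¹ * g with hg₀def
  let T₀ := C.T g₀ hg₀
  let Fk : K →+ K :=
    { toFun := fun k => ε.symm (T₀ (ε k))
      map_zero' := by simp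
      map_add' := by intro x y; simp }
  have hFk : ∀ k, Fk k = ε.symm (T₀ (ε k)) := fun _ => rfl
  have hFkinj : Function.Injective Fk := by
    intro x y h
    have h1 := ε.symm.injective h
    exact ε.injective (C.T_inj _ _ h1)
  have hnorm' : ∀ γ : F, ∃ γ' : F, ∀ l, Fk ((χ γ : K) * l) = (χ γ' : K) * Fk l := by
    intro γ
    have hmem := hnorm g₀ hg₀ γ γ.2
    refine ⟨⟨_, hmem⟩, fun l => ?_⟩
    have key : ∀ x, T₀ (φ γ x) = φ ⟨_, hmem⟩ (T₀ x) := by
      intro x
      rw [hφ, hφ]
      apply C.τ_inj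
      rw [C.τ_T, C.τ_T, C.τ_T, C.τ_T]
      show g₀ * ((γ : G) * τ x * (γ : G)⁻¹) * g₀⁻¹ =
        g₀ * (γ : G) * g₀⁻¹ * (g₀ * τ x * g₀⁻¹) * (g₀ * (γ : G) * g₀⁻¹)⁻¹
      group
    apply ε.injective
    rw [hFk, hFk, AddEquiv.apply_symm_apply, ← hφχ, key, ← hφχ, AddEquiv.apply_symm_apply]
  obtain ⟨σ, hσ⟩ := Cfsg.Agent.Lib.Zass.FieldOf.exists_semilinear χ hgen Fk hFkinj hnorm'
  have hσb : Function.Bijective σ := Finite.injective_iff_bijective.mp σ.injective
  have hc0 : Fk 1 ≠ 0 := by
    intro h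
    have : Fk 1 = Fk 0 := by rw [h, map_zero]
    exact one_ne_zero (hFkinj this)
  refine ⟨Fk 1, RingEquiv.ofBijective σ hσb, ε.symm n, hc0, fun k => ?_⟩
  have h1 : Fk k = σ k * Fk 1 := by
    have := hσ k 1
    rwa [mul_one] at this
  have h2 : (Fk 1) * (RingEquiv.ofBijective σ hσb) k + ε.symm n = Fk k + ε.symm n := by
    rw [h1, mul_comm]
    rfl
  rw [h2, hE, hE, map_add, AddEquiv.apply_symm_apply, hFk, AddEquiv.apply_symm_apply, add_comm,
    C.add, mul_smul]
  have hg : g = τ n * g₀ := by rw [hg₀def]; group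
  have hg₀' : g₀⁻¹ • a = a := by rw [inv_smul_eq_iff, hg₀]
  show g • τ (ε k) • a = τ n • τ (C.T g₀ hg₀ (ε k)) • a
  rw [C.τ_T, mul_smul, mul_smul, hg₀']
  nth_rw 1 [hg]
  rw [mul_smul]

/-- Subgroups of the automorphism group of a field of order `p ^ q` have order dividing `q`. -/
theorem card_dvd_of_subgroup {K : Type*} [Field K] [Fintype K] {p q : ℕ} (hp : p.Prime) [CharP K p]
    (hcard : Fintype.card K = p ^ q) (Γ : Subgroup (K ≃+* K)) : Nat.card Γ ∣ q := by
  classical
  haveI : Fact p.Prime := ⟨hp⟩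
  haveI : Finite (K ≃+* K) := Finite.of_injective (fun t : K ≃+* K => (t : K → K)) (fun a b h => by
    ext x; exact congrFun h x)
  haveI : Fintype Γ := Fintype.ofFinite Γ
  letI : MulSemiringAction Γ K := inferInstance
  haveI : FaithfulSMul Γ K := ⟨fun {a b} h => by
    apply Subtype.ext
    ext x
    exact h x⟩
  have h1 := FixedPoints.finrank_eq_card Γ K
  let K₀ := FixedPoints.subfield Γ K
  haveI : Fintype K₀ := Fintype.ofFinite K₀
  have h2 := Module.card_eq_pow_finrank (K := K₀) (V := K)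
  rw [h1, hcard] at h2
  haveI : CharP K₀ p := by
    exact (RingHom.charP_iff (algebraMap K₀ K) (algebraMap K₀ K).injective p).mpr inferInstance
  obtain ⟨n, hn1, hn2⟩ := FiniteField.card K₀ p
  rw [hn2, ← pow_mul] at h2
  have h3 := Nat.pow_right_injective hp.two_le h2
  rw [h3, Nat.card_eq_fintype_card]
  exact dvd_mul_left _ _

end Reg

/-- The case of a regular normal subgroup. -/
theorem PD.regular_case (D : PD G Ω p d) (hp2 : p ≠ 2) (N : Subgroup G) [hN : N.Normal]
    (htr : IsPretransitive N Ω) (hreg : ∀ x : Ω, stabilizer N x = ⊥) :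
    ∃ q : ℕ, q.Prime ∧ p + 1 = 2 ^ q ∧ (d = 1 ∨ d = q) ∧ ∃ e : Ω ≃ GaloisField 2 q,
      ∀ g : G, ∃ (a' : (GaloisField 2 q)ˣ) (b' : GaloisField 2 q)
        (φ : GaloisField 2 q ≃+* GaloisField 2 q), ∀ x, e (g • e.symm x) = (a' : GaloisField 2 q) * φ x + b' := by
  classical
  have hcΩ : 1 < Fintype.card Ω := by
    rw [D.card]
    have := D.hp.pos
    omega
  obtain ⟨a, b₀, hab₀⟩ := Fintype.exists_pair_of_one_lt_card hcΩ
  haveI : Nonempty Ω := ⟨a⟩
  have h2 : IsMultiplyPretransitive G Ω 2 := is_two_pretransitive_iff.mpr (fun hab hcd => D.two_trans hab hcd)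
  obtain ⟨hcomm, r, hr, hexp⟩ := Cfsg.Agent.Lib.Perm.Regular.elementary_abelian h2 N htr hreg
  haveI : Fact r.Prime := ⟨hr⟩
  have hpg : IsPGroup r N := by
    intro m
    refine ⟨1, ?_⟩
    apply Subtype.ext
    simpa using hexp m m.2
  -- the order of `N`
  have hcN : Nat.card N = p + 1 := by
    let f : N → Ω := fun n => (n : G) • a
    have hf : Function.Bijective f := by
      constructor
      · intro n m h
        exact Subtype.ext (Cfsg.Agent.Lib.Perm.Regular.eq_of_smul_eq hreg (x := a) n.2 m.2 h)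
      · intro y
        obtain ⟨n, hn⟩ := htr.exists_smul_eq a y
        exact ⟨n, hn⟩
    rw [Nat.card_congr (Equiv.ofBijective f hf), Nat.card_eq_fintype_card, D.card]
  obtain ⟨k, hk⟩ := IsPGroup.iff_card.mp hpg
  rw [hcN] at hk
  have hp3 : 3 ≤ p := by
    have := D.hp.two_le
    omega
  have hoddp : Odd p := D.hp.odd_of_ne_two hp2
  have hk0 : k ≠ 0 := by
    rintro rfl
    rw [pow_zero] at hk
    omega
  have hr2 : r = 2 := by
    have h1 : 2 ∣ r ^ k := by
      rw [← hk]
      obtain ⟨m, rfl⟩ := hoddp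
      exact ⟨m + 1, by ring⟩
    have h2 := Nat.prime_two.dvd_of_dvd_pow h1
    exact ((Nat.prime_dvd_prime_iff_eq Nat.prime_two hr).mp h2).symm
  subst hr2
  have hk1 : k ≠ 1 := by
    rintro rfl
    rw [pow_one] at hk
    omega
  have hkp : k.Prime := by
    have hP : (2 ^ k - 1).Prime := by
      rw [← hk]
      simpa using D.hp
    exact (Nat.prime_of_pow_sub_one_prime hk1 hP).2
  -- coordinates
  letI instN : CommGroup N :=
    { (inferInstance : Group N) with
      mul_comm := fun x y => by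
        have := hcomm.is_comm.comm x y
        exact this }
  let τ : Additive N → G := fun x => ((Additive.toMul x : N) : G)
  have C : Coord a τ :=
    { add := fun x y => rfl
      bij := by
        constructor
        · intro x y h
          exact Additive.toMul.injective
            (Subtype.ext (Cfsg.Agent.Lib.Perm.Regular.eq_of_smul_eq hreg (x := a)
              (Additive.toMul x).2 (Additive.toMul y).2 h))
        · intro y
          obtain ⟨n, hn⟩ := htr.exists_smul_eq a y
          exact ⟨Additive.ofMul n, hn⟩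
      norm := fun g hg x =>
        ⟨Additive.ofMul ⟨g * τ x * g⁻¹, hN.conj_mem _ (Additive.toMul x).2 g⟩, rfl⟩ }
  have hcV : Nat.card (Additive N) = 2 ^ k := by
    rw [← hk, ← hcN]
    exact Nat.card_congr Additive.toMul
  haveI : Finite (Additive N) := by
    apply Nat.finite_of_card_ne_zero
    rw [hcV]
    positivity
  haveI : Nontrivial (Additive N) := by
    rw [← Finite.one_lt_card_iff_nontrivial, hcV]
    exact Nat.one_lt_two_pow hk0
  obtain ⟨e₀, he₀⟩ := exists_ne (0 : Additive N)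
  obtain ⟨F, hF, hcF, hn⟩ := D.exists_F a
  obtain ⟨K, iK, iFt, E, hcK, hE0, hmap⟩ := exists_K C F (fun u hu => hF hu)
    (D.F_comm hcF)
    (fun y z hy hz => by
      obtain ⟨u, hu, -⟩ := D.F_reg hF hcF hy hz
      exact ⟨u, u.2, hu⟩)
    (fun g hg u hu => hn g hg u hu) he₀
  rw [hcV] at hcK
  -- the second point
  set b := E 1 with hb
  have hab : a ≠ b := by
    rw [← hE0, hb]
    intro h
    exact zero_ne_one (E.injective h)
  have hcH := D.card_H hab
  have hchar : CharP K 2 := by
    apply ringChar.of_eq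
    apply FiniteField.even_card_iff_char_two.mpr
    rw [hcK]
    exact Nat.even_iff.mp (Nat.even_pow.mpr ⟨even_two, hk0⟩)
  -- the automorphisms from `H`
  have hHform : ∀ g ∈ (stabilizer G a ⊓ stabilizer G b : Subgroup G), ∃ σ : K ≃+* K, ∀ k, g • E k = E (σ k) := by
    intro g hg
    obtain ⟨c, σ, u, hc, hk⟩ := hmap g
    have h1 := hk 0
    have hga : g • a = a := hg.1
    have hgb : g • b = b := hg.2
    rw [hE0, hga, map_zero, mul_zero, zero_add, ← hE0] at h1
    have hu : u = 0 := (E.injective h1).symm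
    have h3 := hk 1
    rw [← hb, hgb, map_one, mul_one, hu, add_zero, hb] at h3
    have hc1 : c = 1 := (E.injective h3).symm
    refine ⟨σ, fun l => ?_⟩
    rw [hk, hc1, hu, one_mul, add_zero]
  let Γ : Subgroup (K ≃+* K) :=
    { carrier := {σ | ∃ g ∈ (stabilizer G a ⊓ stabilizer G b : Subgroup G), ∀ k, g • E k = E (σ k)}
      one_mem' := ⟨1, Subgroup.one_mem _, fun k => by simp⟩
      mul_mem' := by
        rintro σ σ' ⟨g, hg, h⟩ ⟨g', hg', h'⟩
        refine ⟨g * g', Subgroup.mul_mem _ hg hg', fun k => ?_⟩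
        rw [mul_smul, h', h]
        rfl
      inv_mem' := by
        rintro σ ⟨g, hg, h⟩
        refine ⟨g⁻¹, Subgroup.inv_mem _ hg, fun k => ?_⟩
        rw [inv_smul_eq_iff, h]
        congr 1
        show k = σ (σ⁻¹ k)
        exact (σ.apply_symm_apply k).symm }
  have hΓ : Nat.card Γ = d := by
    rw [← hcH]
    choose! f hf1 using hHform
    let ψ : (stabilizer G a ⊓ stabilizer G b : Subgroup G) → Γ := fun g => ⟨f g, g, g.2, hf1 g g.2⟩
    have hψ : Function.Bijective ψ := by
      constructor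
      · intro g g' h
        apply Subtype.ext
        apply D.faith
        intro y
        obtain ⟨k, rfl⟩ := E.surjective y
        have h1 : f g = f g' := congrArg Subtype.val h
        rw [hf1 g g.2, hf1 g' g'.2, h1]
      · rintro ⟨σ, g, hg, h⟩
        refine ⟨⟨g, hg⟩, Subtype.ext ?_⟩
        ext k
        apply E.injective
        show E (f g k) = E (σ k)
        rw [← hf1 g hg, h]
    exact (Nat.card_congr (Equiv.ofBijective ψ hψ)).symm
  have hdq : d ∣ k := by
    rw [← hΓ]
    exact card_dvd_of_subgroup Nat.prime_two hcK Γ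
  refine ⟨k, hkp, hk, (Nat.dvd_prime hkp).mp hdq, ?_⟩
  haveI : Fintype (GaloisField 2 k) := Fintype.ofFinite _
  haveI : Fact (Nat.Prime 2) := ⟨Nat.prime_two⟩
  have hcG : Fintype.card (GaloisField 2 k) = 2 ^ k := by
    rw [← Nat.card_eq_fintype_card]
    exact GaloisField.card 2 k hk0
  let θ : K ≃+* GaloisField 2 k := FiniteField.ringEquivOfCardEq (by rw [hcK, hcG])
  refine ⟨E.symm.trans θ.toEquiv, fun g => ?_⟩
  obtain ⟨c, σ, u, hc, hl⟩ := hmap g
  refine ⟨Units.map (θ : K →* GaloisField 2 k) (Units.mk0 c hc), θ u, θ.symm.trans (σ.trans θ), fun x => ?_⟩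
  show θ (E.symm (g • E (θ.symm x))) = θ c * θ (σ (θ.symm x)) + θ u
  rw [hl, Equiv.symm_apply_apply, map_add, map_mul]

/-- If the group is not a Zassenhaus group it has a regular normal subgroup. -/
theorem PD.exists_regular (D : PD G Ω p d) (hZ : ¬ IsZassenhausGroup G Ω) :
    ∃ N : Subgroup G, N.Normal ∧ IsPretransitive N Ω ∧ ∀ x : Ω, stabilizer N x = ⊥ := by
  classical
  have h2 : IsMultiplyPretransitive G Ω 2 :=
    is_two_pretransitive_iff.mpr (fun hab hcd => D.two_trans hab hcd)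
  have hfaith : FaithfulSMul G Ω := ⟨fun {g g'} h => D.faith g g' h⟩
  have hfix3 : ∀ g : G, ∀ a b c : Ω, a ≠ b → b ≠ c → a ≠ c → g • a = a → g • b = b → g • c = c → g = 1 :=
    fun g a b c h1 h2 h3 h4 h5 h6 => D.fix3 g a b c h1 h2 h3 h4 h5 h6
  by_cases h : ∃ g : G, g ≠ 1 ∧ ∃ a b : Ω, a ≠ b ∧ g • a = a ∧ g • b = b
  · by_contra hno
    push Not at hno
    apply hZ
    refine ⟨hfaith, h2, hfix3, h, fun N hN htr => ?_⟩
    exact hno N hN htr
  · push Not at h
    have S : Cfsg.Agent.Lib.Perm.SharplyTwo.Sharp2 G Ω :=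
      ⟨fun a b c d hab hcd => D.two_trans hab hcd, fun x a b hab ha hb => by
        by_contra hx
        exact h x hx a b hab ha hb⟩
    have hcΩ : 1 < Fintype.card Ω := by
      rw [D.card]
      have := D.hp.pos
      omega
    haveI : Nontrivial Ω := Fintype.one_lt_card_iff_nontrivial.mp hcΩ
    exact ⟨Cfsg.Agent.Lib.Perm.SharplyTwo.fpfSubgroup S,
      Cfsg.Agent.Lib.Perm.SharplyTwo.fpfSubgroup_normal S,
      Cfsg.Agent.Lib.Perm.SharplyTwo.fpfSubgroup_isPretransitive S,
      Cfsg.Agent.Lib.Perm.SharplyTwo.fpfSubgroup_stabilizer S⟩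

end Cfsg.Agent.Lib.Zass.PrimeDeg
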