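import Cfsg.Agent.Lib.Zass.OddStab
import Cfsg.Agent.S0740
import Cfsg.Agent.Lib.CharDeep.Zassenhaus

/-!
# Involutions in Zassenhaus groups with two-point stabilisers of odd order
-/

set_option autoImplicit false
set_option linter.unusedSectionVars false
set_option linter.style.haveILetI false

namespace Cfsg.Agent.Lib.Zass.Inv

open Cfsg MulAction
open Cfsg.Agent.Lib.Zass.Basic Cfsg.Agent.Lib.Zass.Stab

variable {G Ω : Type*} [Group G] [MulAction G Ω]

/-- The facts used: Zassenhaus group in which the two-point stabilisers are cyclic of odd order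
and inverted by everything swapping the two points. -/
structure Ctx (G Ω : Type*) [Group G] [MulAction G Ω] : Prop where
  hZ : IsZassenhausGroup G Ω
  odd : ∀ {c d : Ω}, c ≠ d → Odd (Nat.card (E (G := G) c d))
  cyc : ∀ {c d : Ω}, c ≠ d → IsCyclic (E (G := G) c d)
  inv : ∀ {c d : Ω}, c ≠ d → ∀ s : G, s • c = d → s • d = c →
    ∀ x ∈ E (G := G) c d, s * x * s⁻¹ = x⁻¹

theorem card_E_eq (hZ : IsZassenhausGroup G Ω) {a b c d : Ω} (hab : a ≠ b) (hcd : c ≠ d) :
    Nat.card (E (G := G) c d) = Nat.card (E (G := G) a b) := by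
  obtain ⟨g, hg1, hg2⟩ := trans2 hZ hab hcd
  apply Nat.card_congr
  refine
    { toFun := fun x => ⟨g⁻¹ * x * g, ?_, ?_⟩
      invFun := fun x => ⟨g * x * g⁻¹, ?_, ?_⟩
      left_inv := fun x => by apply Subtype.ext; simp [mul_assoc]
      right_inv := fun x => by apply Subtype.ext; simp [mul_assoc] }
  · have h1 : (x : G) • c = c := x.2.1
    show (g⁻¹ * x * g) • a = a
    rw [mul_smul, mul_smul, hg1, h1, ← hg1, inv_smul_smul]
  · have h1 : (x : G) • d = d := x.2.2
    show (g⁻¹ * x * g) • b = b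
    rw [mul_smul, mul_smul, hg2, h1, ← hg2, inv_smul_smul]
  · have h1 : (x : G) • a = a := x.2.1
    show (g * x * g⁻¹) • c = c
    rw [mul_smul, mul_smul, ← hg1, inv_smul_smul, h1]
  · have h1 : (x : G) • b = b := x.2.2
    show (g * x * g⁻¹) • d = d
    rw [mul_smul, mul_smul, ← hg2, inv_smul_smul, h1]

section Finite

variable [Finite G] [Fintype Ω]

theorem Ctx.of_simple [IsSimpleGroup G] (hZ : IsZassenhausGroup G Ω) {a b : Ω} (hab : a ≠ b)
    (hodd : Odd (Nat.card (E (G := G) a b))) : Ctx G Ω := by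
  have hodd' : ∀ {c d : Ω}, c ≠ d → Odd (Nat.card (E (G := G) c d)) := fun hcd => by
    rw [card_E_eq hZ hab hcd]; exact hodd
  have hnil : ∀ {c d : Ω}, c ≠ d → ∀ q : ℕ, q.Prime → q ∣ Nat.card (E (G := G) c d) →
      ¬ ∃ N : Subgroup G, N.Normal ∧ N.index = q ^ (Nat.card G).factorization q := by
    intro c d hcd q hq hqd ⟨N, hN, hidx⟩
    have hdvd : q ∣ Nat.card G := hqd.trans (Subgroup.card_dvd_of_le (le_top)|>.trans (by simp))
    have hne0 : (Nat.card G).factorization q ≠ 0 := by
      have h0 : Nat.card G ≠ 0 := Nat.card_pos.ne'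
      exact (Nat.Prime.factorization_pos_of_dvd hq h0 hdvd).ne'
    rcases hN.eq_bot_or_eq_top with rfl | rfl
    · -- `G` has odd prime power order, but contains an involution
      rw [Subgroup.index_bot] at hidx
      have hq2 : q ≠ 2 := by
        rintro rfl
        exact (Nat.not_even_iff_odd.2 (hodd' hcd)) (even_iff_two_dvd.2 hqd)
      obtain ⟨s, hs, -, -⟩ := (Cfsg.Agent.S0740.result hZ hcd).1
      have h2 : 2 ∣ Nat.card G := hs ▸ orderOf_dvd_natCard s
      rw [hidx] at h2
      have := (Nat.prime_two.dvd_of_dvd_pow h2)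
      exact hq2 ((Nat.prime_dvd_prime_iff_eq Nat.prime_two hq).1 this).symm
    · rw [Subgroup.index_top] at hidx
      have : 1 < q ^ (Nat.card G).factorization q := Nat.one_lt_pow hne0 hq.one_lt
      omega
  exact ⟨hZ, hodd', fun hcd => (OddStab.main hZ hcd (hodd' hcd) (hnil hcd)).1,
    fun hcd s h1 h2 x hx => (OddStab.main hZ hcd (hodd' hcd) (hnil hcd)).2.2 s h1 h2 x hx⟩

theorem invol_mul_self {t : G} (ht : orderOf t = 2) : t * t = 1 := by
  rw [← pow_two, ← ht, pow_orderOf_eq_one]

theorem invol_inv {t : G} (ht : orderOf t = 2) : t⁻¹ = t :=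
  inv_eq_of_mul_eq_one_left (invol_mul_self ht)

theorem invol_ne_one {t : G} (ht : orderOf t = 2) : t ≠ 1 := by
  rintro rfl
  rw [orderOf_one] at ht
  omega

theorem invol_swap {t : G} (ht : orderOf t = 2) {c d : Ω} (h : t • c = d) : t • d = c := by
  rw [← h, smul_smul, invol_mul_self ht, one_smul]

theorem orderOf_eq_two_of {t : G} (h1 : t ≠ 1) (h2 : t * t = 1) : orderOf t = 2 :=
  orderOf_eq_prime (by rw [pow_two]; exact h2) h1

variable (hC : Ctx G Ω)
include hC

/-- An element of a two-point stabiliser is not an involution. -/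
theorem not_invol_of_mem_E {c d : Ω} (hcd : c ≠ d) {t : G} (ht : t ∈ E (G := G) c d) :
    orderOf t ≠ 2 := by
  intro h2
  have h7 : orderOf t ∣ Nat.card (E (G := G) c d) := by
    rw [← Subgroup.orderOf_mk t ht]
    exact orderOf_dvd_natCard _
  have h8 : Odd (orderOf t) := Odd.of_dvd_nat (hC.odd hcd) h7
  rw [h2] at h8
  exact absurd h8 (by decide)

/-- An involution has at most one fixed point. -/
theorem fix_unique {t : G} (ht : orderOf t = 2) {c d : Ω} (hc : t • c = c) (hd : t • d = d) :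
    c = d := by
  by_contra hcd
  exact not_invol_of_mem_E hC hcd ⟨hc, hd⟩ ht

theorem card_fix_le_one {t : G} (ht : orderOf t = 2) :
    Nat.card (fixedBy Ω t) ≤ 1 := by
  classical
  rw [Nat.card_eq_fintype_card, Fintype.card_le_one_iff]
  intro x y
  exact Subtype.ext (fix_unique hC ht x.2 y.2)

/-- When the number of points is odd each involution has a fixed point. -/
theorem exists_fix_of_odd (hodd : Odd (Fintype.card Ω)) {t : G} (ht : orderOf t = 2) :
    ∃ c : Ω, t • c = c := by
  classical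
  have hp := Cfsg.Agent.S0740.card_fixedBy_parity (Ω := Ω) ht
  have hl := card_fix_le_one hC ht
  obtain ⟨k, hk⟩ := hodd
  have h1 : Nat.card (fixedBy Ω t) = 1 := by omega
  rw [Nat.card_eq_fintype_card, Fintype.card_eq_one_iff] at h1
  obtain ⟨x, -⟩ := h1
  exact ⟨x.1, x.2⟩

/-- When the number of points is even no involution has a fixed point. -/
theorem no_fix_of_even (heven : Even (Fintype.card Ω)) {t : G} (ht : orderOf t = 2) (c : Ω) :
    t • c ≠ c := by
  classical
  intro hc
  have hp := Cfsg.Agent.S0740.card_fixedBy_parity (Ω := Ω) ht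
  have hl := card_fix_le_one hC ht
  obtain ⟨k, hk⟩ := heven
  have h1 : Nat.card (fixedBy Ω t) = 0 := by omega
  rw [Nat.card_eq_fintype_card, Fintype.card_eq_zero_iff] at h1
  exact h1.false ⟨c, hc⟩

/-- Involutions moving `c` to `d`: they are a coset of `E c d`. -/
theorem exists_swap {c d : Ω} (hcd : c ≠ d) : ∃ s : G, orderOf s = 2 ∧ s • c = d ∧ s • d = c :=
  (Cfsg.Agent.S0740.result hC.hZ hcd).1

theorem invol_mul_mem {s x : G} {c d : Ω} (hcd : c ≠ d) (hs : orderOf s = 2) (hsc : s • c = d)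
    (hx : x ∈ E (G := G) c d) : orderOf (s * x) = 2 ∧ (s * x) • c = d := by
  have hsd := invol_swap hs hsc
  have h1 := hC.inv hcd s hsc hsd x hx
  rw [invol_inv hs] at h1
  have hxc : x • c = c := hx.1
  have h2 : (s * x) • c = d := by rw [mul_smul, hxc, hsc]
  refine ⟨orderOf_eq_two_of ?_ ?_, h2⟩
  · intro h
    rw [h, one_smul] at h2
    exact hcd h2
  · calc s * x * (s * x) = (s * x * s) * x := by group
      _ = 1 := by rw [h1]; group

/-- Number of involutions taking `c` to `d`, for `c ≠ d`. -/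
theorem card_swap {c d : Ω} (hcd : c ≠ d) :
    Nat.card {t : G // orderOf t = 2 ∧ t • c = d} = Nat.card (E (G := G) c d) := by
  obtain ⟨s, hs, hsc, hsd⟩ := exists_swap hC hcd
  apply Nat.card_congr
  refine
    { toFun := fun t => ⟨s⁻¹ * t.1, ?_, ?_⟩
      invFun := fun x => ⟨s * x.1, invol_mul_mem hC hcd hs hsc x.2⟩
      left_inv := fun t => by apply Subtype.ext; simp
      right_inv := fun x => by apply Subtype.ext; simp }
  · show (s⁻¹ * t.1) • c = c
    rw [mul_smul, t.2.2, invol_inv hs, hsd]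
  · show (s⁻¹ * t.1) • d = d
    rw [mul_smul, invol_swap t.2.1 t.2.2, invol_inv hs, hsc]

/-- Any two involutions are conjugate. -/
theorem conj_of_invol_swap {s t : G} {c d : Ω} (hcd : c ≠ d) (hs : orderOf s = 2)
    (ht : orderOf t = 2) (hsc : s • c = d) (htc : t • c = d) : IsConj s t := by
  have hsd := invol_swap hs hsc
  have htd := invol_swap ht htc
  -- `z = s * t` is in `E` and a square
  have hz : s⁻¹ * t ∈ E (G := G) c d := by
    constructor
    · show (s⁻¹ * t) • c = c
      rw [mul_smul, htc, invol_inv hs, hsd]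
    · show (s⁻¹ * t) • d = d
      rw [mul_smul, htd, invol_inv hs, hsc]
  obtain ⟨k, hk⟩ := hC.odd hcd
  set z : E (G := G) c d := ⟨_, hz⟩ with hzdef
  -- `w = z ^ (k + 1)`, then `w ^ 2 = z`
  have hw2 : (z ^ (k + 1)) ^ 2 = z := by
    have h1 : z ^ (Nat.card (E (G := G) c d)) = 1 := pow_card_eq_one'
    rw [← pow_mul, show (k + 1) * 2 = (2 * k + 1) + 1 by ring, pow_succ, ← hk, h1, one_mul]
  set w : E (G := G) c d := z ^ (k + 1) with hwdef
  have hsw := hC.inv hcd s hsc hsd w w.2
  rw [isConj_iff]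
  refine ⟨(w : G)⁻¹, ?_⟩
  rw [inv_inv]
  have hzz : ((w : G)) * (w : G) = s⁻¹ * t := by
    have := congrArg (Subtype.val) hw2
    simpa [pow_two] using this
  have : t = s * ((w : G) * (w : G)) := by rw [hzz]; group
  have hsw' : s * (w : G) = (w : G)⁻¹ * s := by
    rw [← hsw]; group
  rw [this, ← mul_assoc s, hsw']

theorem isConj_invol {s t : G} (hs : orderOf s = 2) (ht : orderOf t = 2) : IsConj s t := by
  obtain ⟨c, hc⟩ := exists_moved hC.hZ (invol_ne_one hs)
  obtain ⟨p, hp⟩ := exists_moved hC.hZ (invol_ne_one ht)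
  have hcd : c ≠ s • c := Ne.symm hc
  have hpq : p ≠ t • p := Ne.symm hp
  obtain ⟨g, hg1, hg2⟩ := trans2 hC.hZ hpq hcd
  have h1 : IsConj t (g * t * g⁻¹) := isConj_iff.2 ⟨g, rfl⟩
  have h2 : orderOf (g * t * g⁻¹) = 2 := by
    rw [← ht]; exact (MulAut.conj g).orderOf_eq t
  have h3 : (g * t * g⁻¹) • c = s • c := by
    rw [mul_smul, mul_smul, ← hg1, inv_smul_smul, hg2, hg1]
  exact (conj_of_invol_swap hC hcd hs h2 rfl h3).trans h1.symm

end Finite

end Cfsg.Agent.Lib.Zass.Inv
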