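import Cfsg.Agent.Lib.Zass.Root
import Cfsg.Agent.Lib.Perm.SharplyTwo

/-!
# From sharply 3-transitive groups to root data
-/

set_option autoImplicit false
set_option linter.unusedSectionVars false
set_option linter.unusedVariables false
set_option linter.style.haveILetI false
set_option linter.dupNamespace false

namespace Cfsg.Agent.Lib.Zass.Sharp3

open MulAction Cfsg.Agent.Lib.Zass.Root Cfsg.Agent.Lib.Perm.SharplyTwo

universe u v

/-- A root datum from an abelian regular normal subgroup of a point stabiliser. -/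
theorem exists_rootData_of_abelian {G : Type u} {Ω : Type v} [Group G] [MulAction G Ω]
    (F : Subgroup G) (hcomm : ∀ x ∈ F, ∀ y ∈ F, x * y = y * x) {inf o : Ω} (ho : o ≠ inf)
    (hFinf : ∀ u ∈ F, u • inf = inf) (hreg : ∀ y, y ≠ inf → ∃! u : F, (u : G) • o = y)
    (hnorm : ∀ g : G, g • inf = inf → ∀ u ∈ F, g * u * g⁻¹ ∈ F)
    (faith : ∀ g g' : G, (∀ y : Ω, g • y = g' • y) → g = g')
    (fix3 : ∀ (g : G) (a b c : Ω), a ≠ b → b ≠ c → a ≠ c → g • a = a → g • b = b → g • c = c → g = 1) :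
    ∃ (A : Type u) (_ : AddCommGroup A) (R : RootData G Ω A), R.inf = inf ∧ R.o = o ∧
      Nat.card A = Nat.card F ∧ (∀ x : A, R.τ x ∈ F) ∧ (∀ u ∈ F, ∃ x : A, R.τ x = u) := by
  classical
  letI instC : CommGroup F :=
    { (inferInstance : Group F) with
      mul_comm := fun a b => Subtype.ext (hcomm a a.2 b b.2) }
  have hmove : ∀ u : F, (u : G) • o = o → u = 1 := by
    intro u hu
    exact (hreg o ho).unique hu (by simp)
  have hne : ∀ u : F, (u : G) • o ≠ inf := by
    intro u h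
    apply ho
    have h1 : (u : G) • o = (u : G) • inf := by rw [h, hFinf u u.2]
    exact smul_left_cancel _ h1
  refine ⟨Additive F, inferInstance, ?_, ?_⟩
  · exact
      { τ := fun x => ((x.toMul : F) : G)
        τ_add := fun x y => rfl
        inf := inf
        pt := fun x => ((x.toMul : F) : G) • o
        pt_inj := by
          intro x y hxy
          apply Additive.toMul.injective
          have h1 : ((y.toMul⁻¹ * x.toMul : F) : G) • o = o := by
            change ((x.toMul : F) : G) • o = ((y.toMul : F) : G) • o at hxy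
            rw [Subgroup.coe_mul, Subgroup.coe_inv, mul_smul, hxy, inv_smul_smul]
          have h2 := hmove _ h1
          exact (inv_mul_eq_one.mp h2).symm
        pt_ne := fun x => hne _
        pt_surj := by
          intro y hy
          obtain ⟨u, hu, -⟩ := hreg y hy
          exact ⟨Additive.ofMul u, hu⟩
        τ_inf := fun x => hFinf _ (x.toMul).2
        τ_pt := by
          intro x y
          show ((x.toMul : F) : G) • ((y.toMul : F) : G) • o = _
          rw [smul_smul]
          rfl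
        faith := faith
        fix3 := fix3
        norm := by
          intro g hg x
          exact ⟨Additive.ofMul ⟨_, hnorm g hg _ (x.toMul).2⟩, rfl⟩ }
  · refine ⟨rfl, ?_, ?_, ?_, ?_⟩
    · show ((Additive.toMul (0 : Additive F) : F) : G) • o = o
      simp
    · rfl
    · intro x
      exact (x.toMul).2
    · intro u hu
      exact ⟨Additive.ofMul ⟨u, hu⟩, rfl⟩

/-- Sharply 3-transitive action. -/
structure Sharp3 (G : Type u) (Ω : Type v) [Group G] [MulAction G Ω] : Prop where
  trans : ∀ a b c a' b' c' : Ω, a ≠ b → b ≠ c → a ≠ c → a' ≠ b' → b' ≠ c' → a' ≠ c' →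
    ∃ g : G, g • a = a' ∧ g • b = b' ∧ g • c = c'
  sharp : ∀ (g : G) (a b c : Ω), a ≠ b → b ≠ c → a ≠ c → g • a = a → g • b = b → g • c = c → g = 1

theorem sharp3_of_subgroup {α : Type*} (G : Subgroup (Equiv.Perm α))
    (h3 : MulAction.IsMultiplyPretransitive G α 3)
    (hsharp : ∀ x : Fin 3 ↪ α, MulAction.stabilizer G x = ⊥) : Sharp3 G α := by
  classical
  constructor
  · intro x y z x' y' z' hxy hyz hxz hxy' hyz' hxz'
    let t : Fin 3 ↪ α := ⟨![x, y, z], by
      intro i j hij
      fin_cases i <;> fin_cases j <;> simp_all⟩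
    let t' : Fin 3 ↪ α := ⟨![x', y', z'], by
      intro i j hij
      fin_cases i <;> fin_cases j <;> simp_all⟩
    haveI : MulAction.IsPretransitive G (Fin 3 ↪ α) := h3
    obtain ⟨g, hg⟩ := MulAction.exists_smul_eq G t t'
    refine ⟨g, ?_, ?_, ?_⟩
    · exact DFunLike.congr_fun hg (0 : Fin 3)
    · exact DFunLike.congr_fun hg (1 : Fin 3)
    · exact DFunLike.congr_fun hg (2 : Fin 3)
  · intro g x y z hxy hyz hxz h1 h2 h3'
    let t : Fin 3 ↪ α := ⟨![x, y, z], by
      intro i j hij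
      fin_cases i <;> fin_cases j <;> simp_all⟩
    have hg : g ∈ MulAction.stabilizer G t := by
      rw [MulAction.mem_stabilizer_iff]
      ext i
      fin_cases i
      · exact h1
      · exact h2
      · exact h3'
    rw [hsharp t] at hg
    exact Subgroup.mem_bot.mp hg

/-- The point stabiliser is sharply two-transitive. -/
theorem Sharp3.sharp2 {G : Type u} {Ω : Type v} [Group G] [MulAction G Ω] (S : Sharp3 G Ω) (inf : Ω) :
    Sharp2 (stabilizer G inf) (SubMulAction.ofStabilizer G inf) := by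
  constructor
  · rintro ⟨a, ha⟩ ⟨b, hb⟩ ⟨c, hc⟩ ⟨d, hd⟩ hab hcd
    rw [SubMulAction.mem_ofStabilizer_iff] at ha hb hc hd
    have hab' : a ≠ b := fun h => hab (Subtype.ext h)
    have hcd' : c ≠ d := fun h => hcd (Subtype.ext h)
    obtain ⟨g, h1, h2, h3⟩ := S.trans inf a b inf c d (Ne.symm ha) hab' (Ne.symm hb) (Ne.symm hc) hcd' (Ne.symm hd)
    refine ⟨⟨g, h1⟩, Subtype.ext h2, Subtype.ext h3⟩
  · rintro ⟨x, hx⟩ ⟨a, ha⟩ ⟨b, hb⟩ hab h1 h2
    rw [SubMulAction.mem_ofStabilizer_iff] at ha hb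
    have hab' : a ≠ b := fun h => hab (Subtype.ext h)
    have h1' : x • a = a := congrArg Subtype.val h1
    have h2' : x • b = b := congrArg Subtype.val h2
    have := S.sharp x inf a b (Ne.symm ha) hab' (Ne.symm hb) hx h1' h2'
    exact Subtype.ext this

/-- Root data in a finite sharply 3-transitive group. -/
theorem Sharp3.exists_rootData {G : Type u} {Ω : Type v} [Group G] [Finite G] [MulAction G Ω]
    [Fintype Ω] (S : Sharp3 G Ω) (faith : ∀ g g' : G, (∀ y : Ω, g • y = g' • y) → g = g')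
    {inf o c : Ω} (ho : o ≠ inf) (hc : c ≠ inf) (hoc : o ≠ c) :
    ∃ (A : Type u) (_ : AddCommGroup A) (_ : Finite A) (R : RootData G Ω A) (p j : ℕ),
      R.inf = inf ∧ R.o = o ∧ p.Prime ∧ 1 ≤ j ∧ Fintype.card Ω = p ^ j + 1 ∧
      Nat.card A = p ^ j ∧ (∀ x : A, p • x = 0) := by
  classical
  have S2 := S.sharp2 inf
  have hmem : ∀ {x : Ω}, x ≠ inf → x ∈ SubMulAction.ofStabilizer G inf := fun h => by
    rw [SubMulAction.mem_ofStabilizer_iff]; exact h
  haveI : Nontrivial (SubMulAction.ofStabilizer G inf) :=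
    ⟨⟨⟨o, hmem ho⟩, ⟨c, hmem hc⟩, fun h => hoc (congrArg Subtype.val h)⟩⟩
  obtain ⟨p, j, hp, hj, hcard, hcomm, hexp, -⟩ := S2.structure
  let F' := fpfSubgroup S2
  have htr := fpfSubgroup_isPretransitive S2
  have hstab := fpfSubgroup_stabilizer S2
  have hF'n : F'.Normal := fpfSubgroup_normal S2
  let F : Subgroup G := F'.map (stabilizer G inf).subtype
  have hFmem : ∀ {u : G}, u ∈ F ↔ ∃ h : u ∈ stabilizer G inf, (⟨u, h⟩ : stabilizer G inf) ∈ F' := by
    intro u
    constructor
    · rintro ⟨⟨v, hv1⟩, hv, rfl⟩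
      exact ⟨hv1, hv⟩
    · rintro ⟨h, hu⟩
      exact ⟨⟨u, h⟩, hu, rfl⟩
  have hcardF : Nat.card F = p ^ j := by
    rw [← hcard]
    have h1 : Nat.card F = Nat.card F' := by
      exact Subgroup.card_map_of_injective (Subtype.val_injective)
    rw [h1]
    exact card_fpf S2
  have hcardΩ : Fintype.card (SubMulAction.ofStabilizer G inf) + 1 = Fintype.card Ω := by
    have := SubMulAction.nat_card_ofStabilizer_add_one_eq G inf
    rwa [Nat.card_eq_fintype_card, Nat.card_eq_fintype_card] at this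
  obtain ⟨A, instA, R, hR1, hR2, hR3, hR4, hR5⟩ := exists_rootData_of_abelian F
    (by
      intro x hx y hy
      obtain ⟨h1, h2⟩ := hFmem.mp hx
      obtain ⟨h3, h4⟩ := hFmem.mp hy
      have := hcomm.is_comm.comm ⟨⟨x, h1⟩, h2⟩ ⟨⟨y, h3⟩, h4⟩
      exact congrArg (fun z : F' => ((z : stabilizer G inf) : G)) this) ho
    (by
      intro u hu
      exact (hFmem.mp hu).1)
    (by
      intro y hy
      obtain ⟨⟨v, hv⟩, hv2⟩ := htr.exists_smul_eq (⟨o, hmem ho⟩ : SubMulAction.ofStabilizer G inf) ⟨y, hmem hy⟩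
      refine ⟨⟨(v : G), ⟨v, hv, rfl⟩⟩, congrArg Subtype.val hv2, ?_⟩
      rintro ⟨u, hu⟩ huy
      obtain ⟨h1, h2⟩ := hFmem.mp hu
      apply Subtype.ext
      show u = (v : G)
      have h3 : ((v : G)⁻¹ * u) • o = o := by
        rw [mul_smul, inv_smul_eq_iff]
        exact huy.trans (congrArg Subtype.val hv2).symm
      have h4 : v⁻¹ * (⟨u, h1⟩ : stabilizer G inf) ∈ F' := F'.mul_mem (F'.inv_mem hv) h2
      rcases (mem_fpfSubgroup S2).mp h4 with h5 | h5
      · have h6 := inv_mul_eq_one.mp h5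
        exact (congrArg Subtype.val h6).symm
      · exact absurd (Subtype.ext h3) (h5 ⟨o, hmem ho⟩))
    (by
      intro g hg u hu
      obtain ⟨h1, h2⟩ := hFmem.mp hu
      exact hFmem.mpr ⟨(stabilizer G inf).mul_mem ((stabilizer G inf).mul_mem hg h1) ((stabilizer G inf).inv_mem hg), hF'n.conj_mem _ h2 ⟨g, hg⟩⟩)
    faith S.sharp
  have hcardA : Nat.card A = p ^ j := by rw [hR3, hcardF]
  refine ⟨A, instA, ?_, R, p, j, hR1, hR2, hp, hj, ?_, hcardA, ?_⟩
  · apply Nat.finite_of_card_ne_zero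
    rw [hcardA]
    exact pow_ne_zero _ hp.ne_zero
  · rw [← hcardΩ, hcard]
  · intro x
    apply R.τ_inj
    have hτ : ∀ k : ℕ, R.τ (k • x) = (R.τ x) ^ k := by
      intro k
      induction k with
      | zero => simp [R.τ_zero]
      | succ k ih => rw [succ_nsmul, R.τ_add, ih, pow_succ]
    rw [hτ, R.τ_zero]
    obtain ⟨h1, h2⟩ := hFmem.mp (hR4 x)
    have := hexp _ h2
    exact congrArg Subtype.val this


section RootLemmas

open RootData

variable {G : Type u} {Ω : Type v} {A : Type*} [Group G] [MulAction G Ω] [AddCommGroup A]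
variable {R : RootData G Ω A}

theorem pt_ne_o {x : A} (hx : x ≠ 0) : R.pt x ≠ R.o := fun h => hx (R.pt_eq_o.mp h)

/-- `H` is transitive on the nonzero elements of `A`. -/
theorem H_trans (S : Sharp3 G Ω) {x y : A} (hx : x ≠ 0) (hy : y ≠ 0) : ∃ g ∈ R.H, R.ap g x = y := by
  obtain ⟨g, h1, h2, h3⟩ := S.trans R.inf R.o (R.pt x) R.inf R.o (R.pt y) (Ne.symm R.o_ne)
    (Ne.symm (pt_ne_o hx)) (Ne.symm (R.pt_ne x)) (Ne.symm R.o_ne)
    (Ne.symm (pt_ne_o hy)) (Ne.symm (R.pt_ne y))
  refine ⟨g, ⟨h1, h2⟩, ?_⟩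
  have := H_pt (R := R) (g := g) ⟨h1, h2⟩ x
  rw [h3] at this
  exact (R.pt_inj this).symm

/-- The order of `H`. -/
theorem card_H (S : Sharp3 G Ω) [Finite A] {e : A} (he : e ≠ 0) :
    Nat.card R.H + 1 = Nat.card A := by
  classical
  let f : R.H → {x : A // x ≠ 0} := fun g => ⟨R.ap g e, H_ne_zero g.2 he⟩
  have hf : Function.Bijective f := by
    constructor
    · intro g k h
      exact Subtype.ext (H_eq g.2 k.2 he (congrArg Subtype.val h))
    · rintro ⟨y, hy⟩
      obtain ⟨g, hg, h⟩ := H_trans (R := R) S he hy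
      exact ⟨⟨g, hg⟩, Subtype.ext h⟩
  rw [Nat.card_congr (Equiv.ofBijective f hf)]
  haveI := Fintype.ofFinite A
  rw [Nat.card_eq_fintype_card, Nat.card_eq_fintype_card, Fintype.card_subtype_compl,
    Fintype.card_subtype_eq]
  have : 0 < Fintype.card A := Fintype.card_pos_iff.mpr ⟨e⟩
  omega

/-- An involution interchanging `∞` and `0` and fixing a further point. -/
theorem exists_inv (S : Sharp3 G Ω) {e : A} (he : e ≠ 0) : ∃ s : G, R.Inv s ∧ R.ap s e = e := by
  obtain ⟨s, h1, h2, h3⟩ := S.trans R.inf R.o (R.pt e) R.o R.inf (R.pt e) (Ne.symm R.o_ne)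
    (Ne.symm (pt_ne_o he)) (Ne.symm (R.pt_ne e)) R.o_ne
    (Ne.symm (R.pt_ne e)) (Ne.symm (pt_ne_o he))
  have hsq : s * s = 1 := by
    apply S.sharp _ R.inf R.o (R.pt e) (Ne.symm R.o_ne) (Ne.symm (pt_ne_o he)) (Ne.symm (R.pt_ne e))
    · rw [mul_smul, h1, h2]
    · rw [mul_smul, h2, h1]
    · rw [mul_smul, h3, h3]
  refine ⟨s, ⟨⟨h1, h2⟩, hsq⟩, ?_⟩
  rw [ap, h3, R.coord_pt]

/-- If `s` sends `e` to `-e`, then `μ e = s`. -/
theorem mu_self {s : G} (hs : R.Inv s) (hsp : Special s R) {e : A} (he : e ≠ 0)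
    (hse : R.ap s e = -e) : mu s R e = s := by
  have h1 : R.ap (mu s R e) e = -e := mu_smul_self hs hsp he
  have h2 : s⁻¹ * mu s R e = 1 := by
    have hm := mu_sw hs he
    refine R.fix3 _ R.inf R.o (R.pt e) (Ne.symm R.o_ne) (Ne.symm (pt_ne_o he)) (Ne.symm (R.pt_ne e))
      ?_ ?_ ?_
    · rw [mul_smul, hm.inf, inv_smul_eq_iff, hs.inf]
    · rw [mul_smul, hm.o, inv_smul_eq_iff, hs.o]
    · rw [mul_smul, hm.pt he, h1, inv_smul_eq_iff, hs.pt he, hse]
  exact (inv_mul_eq_one.mp h2).symm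

/-- In the sharply 3-transitive case all `μ x` are conjugate to `s` under `H`. -/
theorem mu_sq (S : Sharp3 G Ω) {s : G} (hs : R.Inv s) (hsp : Special s R) {e : A} (he : e ≠ 0)
    (hse : R.ap s e = -e) {x : A} (hx : x ≠ 0) : mu s R x * mu s R x = 1 := by
  obtain ⟨g, hg, h⟩ := H_trans (R := R) S he hx
  rw [← h, ← mu_conj hs hg he, mu_self hs hsp he hse]
  have : g * s * g⁻¹ * (g * s * g⁻¹) = g * (s * s) * g⁻¹ := by group
  rw [this, hs.sq]
  simp

/-- If the `μ x` are involutions and lie in a coset `N s` of a small subgroup, then `s`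
inverts `N`. -/
theorem inverts_of_card [Finite G] [Finite A] {s : G} (hs : R.Inv s) (hsp : Special s R)
    (hmu : ∀ x : A, x ≠ 0 → mu s R x * mu s R x = 1) (N : Subgroup G)
    (hmem : ∀ x : A, x ≠ 0 → mu s R x * s ∈ N) (c : ℕ) (hc : c = 2 ∨ (c = 1 ∧ ∀ x : A, -x = x))
    (hcard : c * Nat.card N + 1 ≤ Nat.card A) : ∀ g ∈ N, s * g * s = g⁻¹ := by
  classical
  haveI := Fintype.ofFinite A
  haveI := Fintype.ofFinite N
  let f : {x : A // x ≠ 0} → N := fun x => ⟨mu s R x * s, hmem x x.2⟩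
  have hfib : ∀ a ∈ (Finset.univ : Finset {x : A // x ≠ 0}).image f,
      ((Finset.univ : Finset {x : A // x ≠ 0}).filter fun x => f x = a).card ≤ c := by
    intro a ha
    obtain ⟨x, -, rfl⟩ := Finset.mem_image.mp ha
    have hsub : (Finset.univ.filter fun y => f y = f x) ⊆
        ({x, ⟨-x.1, neg_ne_zero.mpr x.2⟩} : Finset {x : A // x ≠ 0}) := by
      intro y hy
      have hy' : f y = f x := (Finset.mem_filter.mp hy).2
      have h1 : mu s R y * s = mu s R x * s := congrArg Subtype.val hy'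
      have h2 : mu s R x.1 = mu s R y.1 := (mul_right_cancel h1).symm
      rcases mu_fiber hs hsp x.2 y.2 h2 with h3 | h3
      · simp only [Finset.mem_insert, Finset.mem_singleton]
        exact Or.inl (Subtype.ext h3)
      · simp only [Finset.mem_insert, Finset.mem_singleton]
        exact Or.inr (Subtype.ext h3)
    rcases hc with rfl | ⟨rfl, hneg⟩
    · exact (Finset.card_le_card hsub).trans Finset.card_le_two
    · have h0 : ({x, ⟨-x.1, neg_ne_zero.mpr x.2⟩} : Finset {x : A // x ≠ 0}) = {x} := by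
        have : (⟨-x.1, neg_ne_zero.mpr x.2⟩ : {x : A // x ≠ 0}) = x := Subtype.ext (hneg x.1)
        rw [this]
        simp
      rw [h0] at hsub
      simpa using Finset.card_le_card hsub
  have h1 := Finset.card_le_mul_card_image (f := f) Finset.univ c hfib
  have hX : Fintype.card {x : A // x ≠ 0} + 1 = Nat.card A := by
    rw [Nat.card_eq_fintype_card, Fintype.card_subtype_compl, Fintype.card_subtype_eq]
    have : 0 < Fintype.card A := Fintype.card_pos_iff.mpr ⟨0⟩
    omega
  have hcpos : 0 < c := by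
    rcases hc with rfl | ⟨rfl, -⟩ <;> norm_num
  have himg : (Finset.univ : Finset {x : A // x ≠ 0}).image f = Finset.univ := by
    apply Finset.eq_univ_of_card
    apply le_antisymm (Finset.card_le_univ _)
    rw [Finset.card_univ] at h1
    rw [Nat.card_eq_fintype_card (α := N)] at hcard
    have h2 : c * Fintype.card N ≤ c * ((Finset.univ : Finset {x : A // x ≠ 0}).image f).card := by
      omega
    exact Nat.le_of_mul_le_mul_left h2 hcpos
  intro g hg
  obtain ⟨x, -, hx⟩ := Finset.mem_image.mp (himg ▸ Finset.mem_univ (⟨g, hg⟩ : N))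
  have h3 : mu s R x * s = g := congrArg Subtype.val hx
  have h4 : mu s R x = g * s := by
    rw [← h3, mul_assoc, hs.sq, mul_one]
  have h5 := hmu x x.2
  rw [h4] at h5
  have h6 : s * g * s = g⁻¹ * (g * s * (g * s)) := by group
  rw [h6, h5, mul_one]

end RootLemmas

end Cfsg.Agent.Lib.Zass.Sharp3
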