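import Cfsg.Agent.Lib.Zass.RootFinal
import Cfsg.Agent.Lib.Zass.Sharp3
import Cfsg.Agent.Lib.Zass.Inv

/-!
# `PSL₂` from Zassenhaus groups in which every element interchanging two points is an involution
-/

set_option autoImplicit false
set_option linter.unusedSectionVars false
set_option linter.unusedVariables false
set_option linter.style.haveILetI false

namespace Cfsg.Agent.Lib.Zass.RootPSL

open MulAction Cfsg.Agent.Lib.Zass.Root Cfsg.Agent.Lib.Zass.Root.RootData

universe u v w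

variable {G : Type u} {Ω : Type v} {A : Type w} [Group G] [MulAction G Ω] [AddCommGroup A]
variable {R : RootData G Ω A}

theorem ap_ap_of_sq {z : G} (hz : z ∈ R.H) (h2 : z * z = 1) (x : A) : R.ap z (R.ap z x) = x := by
  rw [← H_mul hz hz, h2, H_one]

/-- An involution of the two-point stabiliser acts as `-1`. -/
theorem ap_invol {z : G} (hz : z ∈ R.H) (h2 : z * z = 1) (h1 : z ≠ 1) (x : A) : R.ap z x = -x := by
  by_cases hx : x + R.ap z x = 0
  · exact eq_neg_of_add_eq_zero_right hx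
  · exfalso
    apply h1
    apply H_fix hz hx
    rw [H_add hz, ap_ap_of_sq hz h2, add_comm]

/-- The even case. -/
theorem final_even (R : RootData G Ω A) [Finite A] {s z : G} (hs : R.Inv s)
    (hinv : ∀ g ∈ R.H, s * g * s = g⁻¹) (hz : z ∈ R.H) (hz2 : z * z = 1) (hz1 : z ≠ 1)
    {e : A} (he : e ≠ 0) (hse : R.ap s e = -e)
    (hcard : Nat.card R.H * 2 + 1 = Nat.card A) :
    ∃ (K : Type) (_ : Field K) (_ : Fintype K), ringChar K ≠ 2 ∧ Fintype.card K = Nat.card A ∧
      Nonempty (G ≃* Matrix.ProjectiveSpecialLinearGroup (Fin 2) K) := by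
  refine RootFinal.final_PSL R hs ?_ hinv he hse hcard
  intro x hx
  have h1 := hs.ap_conj hz (hs.ne_zero hx)
  rw [hinv z hz] at h1
  have h3 : z⁻¹ = z := inv_eq_of_mul_eq_one_left hz2
  rw [h3, ap_invol hz hz2 hz1, ap_invol hz hz2 hz1, hs.ap_ap hx] at h1
  rw [kap_def, h1]

/-- The odd case: a swapper with a value `-e`, and `Special`. -/
theorem exists_special_odd [Finite G] (R : RootData G Ω A) [Finite A] {s₀ : G} (hs₀ : R.Inv s₀)
    (hinv : ∀ s : G, R.Sw s → s * s = 1)
    (hodd : ∀ g ∈ R.H, g * g = 1 → g = 1)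
    (hfree : ∀ s : G, R.Sw s → ∀ x : A, x ≠ 0 → R.ap s x ≠ x)
    (hcard : Nat.card R.H * 2 + 1 = Nat.card A) {e₀ : A} (he₀ : e₀ ≠ 0) :
    ∃ s : G, R.Inv s ∧ R.ap s e₀ = -e₀ ∧ Special s R := by
  classical
  have _ := Fintype.ofFinite A
  have hAodd : ∀ x : A, x + x = 0 → x = 0 := by
    intro x hx
    have h1 : addOrderOf x ∣ 2 := addOrderOf_dvd_of_nsmul_eq_zero (by rw [two_nsmul]; exact hx)
    have h2 : addOrderOf x ∣ Nat.card A := addOrderOf_dvd_natCard x
    have h3 : addOrderOf x ∣ Nat.gcd 2 (Nat.card A) := Nat.dvd_gcd h1 h2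
    have h4 : Nat.gcd 2 (Nat.card A) = 1 := by
      rw [← hcard]; simp
    rw [h4, Nat.dvd_one, AddMonoid.addOrderOf_eq_one_iff] at h3
    exact h3
  -- the two orbits
  have hnegfree : ∀ g ∈ R.H, ∀ x : A, x ≠ 0 → R.ap g x ≠ -x := by
    intro g hg x hx h
    have h1 : R.ap (g * g) x = x := by
      rw [H_mul hg hg, h, H_neg hg, h, neg_neg]
    have h2 : g * g ∈ R.H := R.H.mul_mem hg hg
    have h3 := H_fix h2 hx h1
    have h4 := hodd g hg h3
    rw [h4, H_one] at h
    exact hx (hAodd x (by nth_rw 1 [h]; simp))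
  -- every nonzero element is in one of the two orbits
  have hcover : ∀ y : A, y ≠ 0 → ∃ g ∈ R.H, R.ap g e₀ = y ∨ R.ap g e₀ = -y := by
    let f : R.H × Bool → A := fun p => if p.2 then R.ap p.1.1 e₀ else -R.ap p.1.1 e₀
    have hfinj : Function.Injective f := by
      rintro ⟨g, b⟩ ⟨k, c⟩ h
      have key : ∀ g k : R.H, R.ap g.1 e₀ = R.ap k.1 e₀ → g = k := by
        intro g k h
        exact Subtype.ext (H_eq g.2 k.2 he₀ h)
      have key2 : ∀ g k : R.H, R.ap g.1 e₀ ≠ -R.ap k.1 e₀ := by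
        intro g k h
        have h1 : R.ap (k.1⁻¹ * g.1) e₀ = -e₀ := by
          rw [H_mul (R.H.inv_mem k.2) g.2, h, H_neg (R.H.inv_mem k.2), H_inv k.2]
        exact hnegfree _ (R.H.mul_mem (R.H.inv_mem k.2) g.2) e₀ he₀ h1
      cases b <;> cases c <;> simp only [f, if_true, if_false, Bool.false_eq_true] at h
      · rw [neg_inj] at h
        rw [key g k h]
      · exact absurd h.symm (key2 k g)
      · exact absurd h (key2 g k)
      · rw [key g k h]
    have hf0 : ∀ p, f p ≠ 0 := by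
      rintro ⟨g, b⟩
      cases b <;> simp only [f, if_true, if_false, Bool.false_eq_true]
      · exact neg_ne_zero.mpr (H_ne_zero g.2 he₀)
      · exact H_ne_zero g.2 he₀
    have _ : Fintype R.H := Fintype.ofFinite _
    intro y hy
    have hc : (Finset.univ.image f).card = (Finset.univ.erase (0 : A)).card := by
      rw [Finset.card_image_of_injective _ hfinj, Finset.card_univ, Fintype.card_prod,
        Fintype.card_bool, Finset.card_erase_of_mem (Finset.mem_univ _), Finset.card_univ,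
        ← Nat.card_eq_fintype_card, ← Nat.card_eq_fintype_card, ← hcard]
      omega
    have hsub : Finset.univ.image f ⊆ Finset.univ.erase (0 : A) := by
      intro x hx
      obtain ⟨p, -, rfl⟩ := Finset.mem_image.mp hx
      exact Finset.mem_erase.mpr ⟨hf0 p, Finset.mem_univ _⟩
    have heq := Finset.eq_of_subset_of_card_le hsub hc.ge
    have hy' : y ∈ Finset.univ.image f := by
      rw [heq]
      exact Finset.mem_erase.mpr ⟨hy, Finset.mem_univ _⟩
    obtain ⟨⟨g, b⟩, -, hp⟩ := Finset.mem_image.mp hy'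
    refine ⟨g.1, g.2, ?_⟩
    cases b <;> simp only [f, if_true, if_false, Bool.false_eq_true] at hp
    · right
      rw [← hp, neg_neg]
    · left
      exact hp
  -- the inverse action
  have hinv' : ∀ s : G, R.Sw s → ∀ g ∈ R.H, s * g * s = g⁻¹ := by
    intro s hs g hg
    have h1 := hinv _ (hs.mul_H hg)
    have h2 := hinv s hs
    have h3 : s⁻¹ = s := inv_eq_of_mul_eq_one_left h2
    calc s * g * s = (s * g * (s * g)) * g⁻¹ := by group
      _ = g⁻¹ := by rw [h1, one_mul]
  -- the swapper `s`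
  obtain ⟨g₀, hg₀, hg₀e⟩ := hcover (R.ap s₀ e₀) (hs₀.ne_zero he₀)
  have hg₀e' : R.ap g₀ e₀ = -R.ap s₀ e₀ := by
    rcases hg₀e with h | h
    · exfalso
      -- `g₀⁻¹ s₀` fixes `e₀`
      apply hfree _ (hs₀.sw.H_mul (R.H.inv_mem hg₀)) e₀ he₀
      rw [hs₀.sw.H_ap (R.H.inv_mem hg₀), ← h, H_inv hg₀]
    · exact h
  set s : G := g₀⁻¹ * s₀ with hs
  have hsw : R.Sw s := hs₀.sw.H_mul (R.H.inv_mem hg₀)
  have hsinv : R.Inv s := ⟨hsw, hinv s hsw⟩
  have hse : R.ap s e₀ = -e₀ := by
    rw [hs, hs₀.sw.H_ap (R.H.inv_mem hg₀)]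
    have h2 : R.ap s₀ e₀ = -R.ap g₀ e₀ := by rw [hg₀e', neg_neg]
    rw [h2, H_neg (R.H.inv_mem hg₀), H_inv hg₀]
  refine ⟨s, hsinv, hse, ?_⟩
  -- `Special`
  have hsg : ∀ g ∈ R.H, ∀ x : A, x ≠ 0 → R.ap s (R.ap g x) = R.ap g⁻¹ (R.ap s x) := by
    intro g hg x hx
    rw [hsinv.ap_conj hg hx, hinv' s hsw g hg]
  have hkap1 : ∀ g ∈ R.H, kap s R (R.ap g e₀) = -R.ap g e₀ := by
    intro g hg
    have hge : R.ap g e₀ ≠ 0 := H_ne_zero hg he₀
    rw [kap_def, hsg g hg e₀ he₀, hse, H_neg (R.H.inv_mem hg), neg_neg,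
      hsg _ (R.H.inv_mem hg) e₀ he₀, inv_inv, hse, H_neg hg]
  intro y hy
  obtain ⟨g, hg, h | h⟩ := hcover y hy
  · rw [← h]
    exact hkap1 g hg
  · have h1 := hkap1 g hg
    rw [h, neg_neg] at h1
    have h2 := kap_kap hsinv (neg_ne_zero.mpr hy)
    rwa [h1] at h2

/-- The odd case. -/
theorem final_odd [Finite G] (R : RootData G Ω A) [Finite A] {s₀ : G} (hs₀ : R.Inv s₀)
    (hinv : ∀ s : G, R.Sw s → s * s = 1)
    (hodd : ∀ g ∈ R.H, g * g = 1 → g = 1)
    (hfree : ∀ s : G, R.Sw s → ∀ x : A, x ≠ 0 → R.ap s x ≠ x)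
    (hcard : Nat.card R.H * 2 + 1 = Nat.card A) :
    ∃ (K : Type) (_ : Field K) (_ : Fintype K), ringChar K ≠ 2 ∧ Fintype.card K = Nat.card A ∧
      Nonempty (G ≃* Matrix.ProjectiveSpecialLinearGroup (Fin 2) K) := by
  have hne : ∃ e₀ : A, e₀ ≠ 0 := by
    have h1 : 1 < Nat.card A := by
      have : 0 < Nat.card R.H := Nat.card_pos
      omega
    have _ : Nontrivial A := (Finite.one_lt_card_iff_nontrivial).mp h1
    exact exists_ne 0
  obtain ⟨e₀, he₀⟩ := hne
  obtain ⟨s, hs, hse, hsp⟩ := exists_special_odd R hs₀ hinv hodd hfree hcard he₀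
  refine RootFinal.final_PSL R hs hsp ?_ he₀ hse hcard
  intro g hg
  have h1 := hinv _ (hs.sw.mul_H hg)
  calc s * g * s = (s * g * (s * g)) * g⁻¹ := by group
    _ = g⁻¹ := by rw [h1, one_mul]

/-! ### Zassenhaus groups -/

section Zass

open Cfsg Cfsg.Agent.Lib.Zass.Basic Cfsg.Agent.Lib.Zass.Stab Cfsg.Agent.Lib.Zass.Inv

variable {G Ω : Type*} [Group G] [MulAction G Ω]

/-- The number of points in terms of a regular subgroup. -/
theorem card_regular [Fintype Ω] {a b : Ω} (hab : a ≠ b) {F : Subgroup G}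
    (hFle : F ≤ stabilizer G a) (hreg : ∀ y, y ≠ a → ∃! u : F, (u : G) • b = y) :
    Nat.card F + 1 = Fintype.card Ω := by
  classical
  have hne : ∀ u : F, (u : G) • b ≠ a := by
    intro u h
    have h1 : (u : G) • a = a := hFle u.2
    exact hab (smul_left_cancel _ (h1.trans h.symm))
  have e : F ≃ {y : Ω // y ≠ a} := Equiv.ofBijective (fun u => ⟨(u : G) • b, hne u⟩) (by
    constructor
    · intro u v h
      exact (hreg _ (hne u)).unique rfl (congrArg Subtype.val h).symm
    · rintro ⟨y, hy⟩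
      obtain ⟨u, hu, -⟩ := hreg y hy
      exact ⟨u, Subtype.ext hu⟩)
  have h1 : Nat.card F = Fintype.card {y : Ω // y ≠ a} := by
    rw [Nat.card_congr e, Nat.card_eq_fintype_card]
  rw [h1, Fintype.card_subtype_compl, Fintype.card_subtype_eq]
  have : 0 < Fintype.card Ω := Fintype.card_pos_iff.mpr ⟨a⟩
  omega

/-- The set of elements interchanging two points has the size of the two-point stabiliser. -/
theorem card_swappers (hZ : IsZassenhausGroup G Ω) {a b : Ω} (hab : a ≠ b) :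
    Nat.card {g : G // g • a = b ∧ g • b = a} = Nat.card (E (G := G) a b) := by
  obtain ⟨s₀, hs₁, hs₂⟩ := trans2 hZ hab (Ne.symm hab)
  apply Nat.card_congr
  refine
    { toFun := fun g => ⟨s₀⁻¹ * g.1, ?_, ?_⟩
      invFun := fun h => ⟨s₀ * h.1, ?_, ?_⟩
      left_inv := fun g => by simp
      right_inv := fun h => by simp }
  · show (s₀⁻¹ * g.1) • a = a
    rw [mul_smul, g.2.1, inv_smul_eq_iff, hs₁]
  · show (s₀⁻¹ * g.1) • b = b
    rw [mul_smul, g.2.2, inv_smul_eq_iff, hs₂]
  · have : (h.1 : G) • a = a := h.2.1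
    rw [mul_smul, this, hs₁]
  · have : (h.1 : G) • b = b := h.2.2
    rw [mul_smul, this, hs₂]

/-- With an involution `z` in the two-point stabiliser, when `n - 2 = 2 d`, every element
interchanging the two points is an involution with a fixed point. -/
theorem even_swappers [Finite G] [Fintype Ω] (hZ : IsZassenhausGroup G Ω) {a b : Ω} (hab : a ≠ b)
    {z : G} (hz1 : z ≠ 1) (hz2 : z * z = 1) (hza : z • a = a) (hzb : z • b = b)
    (hd : 2 * Nat.card (E (G := G) a b) + 2 = Fintype.card Ω)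
    {s : G} (hsa : s • a = b) (hsb : s • b = a) :
    s * s = 1 ∧ ∃ x : Ω, x ≠ a ∧ x ≠ b ∧ s • x = x := by
  classical
  have hzz : ∀ x : Ω, z • z • x = x := fun x => by rw [← mul_smul, hz2, one_smul]
  have hzfix : ∀ x : Ω, z • x = x → x = a ∨ x = b := by
    intro x hx
    by_contra hcon
    push Not at hcon
    exact hz1 (fix3 hZ hab (Ne.symm hcon.2) (Ne.symm hcon.1) hza hzb hx)
  let P := {x : Ω // x ≠ a ∧ x ≠ b}
  let S := {g : G // g • a = b ∧ g • b = a}
  have hex : ∀ x : P, ∃ u : S, (u : G) • (x : Ω) = x ∧ (u : G) ≠ 1 ∧ (u : G) * u = 1 := by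
    rintro ⟨x, hxa, hxb⟩
    have hzx : z • x ≠ x := fun h => (hzfix x h).elim hxa hxb
    have hya : z • x ≠ a := fun h => hxa (by rw [← hzz x, h, hza])
    have hyb : z • x ≠ b := fun h => hxb (by rw [← hzz x, h, hzb])
    obtain ⟨g, hg1, hg2⟩ := trans2 hZ hab (Ne.symm hzx)
    set u : G := g * z * g⁻¹ with hu
    have hu1 : u ≠ 1 := by
      intro h
      apply hz1
      have : z = g⁻¹ * u * g := by rw [hu]; group
      rw [this, h]; group
    have hu2 : u * u = 1 := by
      calc u * u = g * (z * z) * g⁻¹ := by rw [hu]; group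
        _ = 1 := by rw [hz2]; group
    have hux : u • x = x := by
      rw [hu]; simp only [mul_smul]; rw [← hg1]; simp [hza]
    have huy : u • (z • x) = z • x := by
      rw [hu]; simp only [mul_smul]; rw [← hg2]; simp [hzb]
    set v : G := z * u * z⁻¹ with hv
    have hzinv : z⁻¹ = z := inv_eq_of_mul_eq_one_left hz2
    have hv1 : v ≠ 1 := by
      intro h
      apply hu1
      have : u = z⁻¹ * v * z := by rw [hv]; group
      rw [this, h]; group
    have hv2 : v * v = 1 := by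
      calc v * v = z * (u * u) * z⁻¹ := by rw [hv]; group
        _ = 1 := by rw [hu2]; group
    have hvx : v • x = x := by
      rw [hv]; simp only [mul_smul]; rw [hzinv, huy, hzz]
    have hvy : v • (z • x) = z • x := by
      rw [hv]; simp only [mul_smul]; rw [hzinv, hzz, hux]
    have huv : u = v := unique_involution hZ (Ne.symm hzx) hux huy hvx hvy hu1 hu2 hv1 hv2
    have hcomm : ∀ w : Ω, z • u • w = u • z • w := by
      intro w
      have : z * u = u * z := by
        calc z * u = v * z := by rw [hv]; group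
          _ = u * z := by rw [← huv]
      have h2 := congrArg (fun k : G => k • w) this
      simpa [mul_smul] using h2
    have hua : u • a ≠ a := by
      intro h
      exact hu1 (fix3 hZ (Ne.symm hxa) (Ne.symm hzx) (Ne.symm hya) h hux huy)
    have hub : u • b ≠ b := by
      intro h
      exact hu1 (fix3 hZ (Ne.symm hxb) (Ne.symm hzx) (Ne.symm hyb) h hux huy)
    have hua' : u • a = b := by
      have h1 : z • (u • a) = u • a := by rw [hcomm, hza]
      exact (hzfix _ h1).resolve_left hua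
    have hub' : u • b = a := by
      have h1 : z • (u • b) = u • b := by rw [hcomm, hzb]
      exact (hzfix _ h1).resolve_right hub
    exact ⟨⟨u, hua', hub'⟩, hux, hu1, hu2⟩
  choose f hfx hf1 hf2 using hex
  have _ : Fintype S := Fintype.ofFinite S
  have hfib : ∀ u ∈ (Finset.univ : Finset S),
      (Finset.univ.filter (fun x : P => f x = u)).card ≤ 2 := by
    intro u _
    by_contra hcon
    push Not at hcon
    obtain ⟨x, hx, y, hy, w, hw, hxy, hxw, hyw⟩ := Finset.two_lt_card.mp hcon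
    simp only [Finset.mem_filter, Finset.mem_univ, true_and] at hx hy hw
    have h1 := hfx x
    have h2 := hfx y
    have h3 := hfx w
    rw [hx] at h1
    rw [hy] at h2
    rw [hw] at h3
    have hu1 : (u : G) ≠ 1 := by
      have := hf1 x
      rwa [hx] at this
    exact hu1 (fix3 hZ (fun h => hxy (Subtype.ext h)) (fun h => hyw (Subtype.ext h))
      (fun h => hxw (Subtype.ext h)) h1 h2 h3)
  have hle : (Finset.univ : Finset P).card ≤ 2 * (Finset.univ.image f).card := by
    apply Finset.card_le_mul_card_image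
    intro u hu
    exact hfib u (Finset.mem_univ _)
  have hP : Fintype.card P = Fintype.card Ω - 2 := by
    have : (Finset.univ.filter (fun x : Ω => x ≠ a ∧ x ≠ b)) = Finset.univ \ {a, b} := by
      ext x
      simp
    rw [Fintype.card_subtype, this, Finset.card_sdiff_of_subset (Finset.subset_univ _),
      Finset.card_univ, Finset.card_pair hab]
  have hS : Fintype.card S = Nat.card (E (G := G) a b) := by
    rw [← Nat.card_eq_fintype_card]
    exact card_swappers hZ hab
  have hsurj : Finset.univ.image f = Finset.univ := by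
    apply Finset.eq_univ_of_card
    rw [Finset.card_univ] at hle
    have := Finset.card_le_univ (Finset.univ.image f)
    omega
  have hmem : (⟨s, hsa, hsb⟩ : S) ∈ Finset.univ.image f := by
    rw [hsurj]
    exact Finset.mem_univ _
  obtain ⟨x, -, hx⟩ := Finset.mem_image.mp hmem
  have h1 := hfx x
  have h2 := hf2 x
  rw [hx] at h1 h2
  exact ⟨h2, x.1, x.2.1, x.2.2, h1⟩

end Zass

open Cfsg.Agent.Lib.Zass.Inv Cfsg.Agent.Lib.Zass.Stab

/-- `PSL₂` from a Zassenhaus group of even two-point stabiliser order. -/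
theorem psl_even {G : Type u} {Ω : Type v} [Group G] [Finite G] [MulAction G Ω] [Fintype Ω]
    (hZ : Cfsg.IsZassenhausGroup G Ω) {a b : Ω} (hab : a ≠ b) (F : Subgroup G)
    (hcomm : ∀ x ∈ F, ∀ y ∈ F, x * y = y * x) (hFle : F ≤ stabilizer G a)
    (hFn : ∀ g : G, g • a = a → ∀ u ∈ F, g * u * g⁻¹ ∈ F)
    (hreg : ∀ y, y ≠ a → ∃! u : F, (u : G) • b = y)
    (heven : Even (Nat.card ↥(stabilizer G a ⊓ stabilizer G b)))
    (hd : 2 * Nat.card ↥(stabilizer G a ⊓ stabilizer G b) + 2 = Fintype.card Ω) :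
    ∃ (K : Type) (_ : Field K) (_ : Fintype K), ringChar K ≠ 2 ∧
      Fintype.card K = Nat.card F ∧
      Nonempty (G ≃* Matrix.ProjectiveSpecialLinearGroup (Fin 2) K) := by
  classical
  have hcardF := card_regular hab hFle hreg
  obtain ⟨A, instA, R, hRinf, hRo, hAcard, hτF, hFτ⟩ :=
    Sharp3.exists_rootData_of_abelian F hcomm (Ne.symm hab) (fun u hu => hFle hu) hreg
      (fun g hg u hu => hFn g hg u hu) (fun g g' h => Basic.eq_of_smul hZ h)
      hZ.2.2.1
  subst hRinf hRo
  have _ : Finite A := Nat.finite_of_card_ne_zero (by rw [hAcard]; exact Nat.card_pos.ne')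
  have := Fact.mk Nat.prime_two
  obtain ⟨z₀, hz₀⟩ := exists_prime_orderOf_dvd_card' (G := ↥(stabilizer G R.inf ⊓ stabilizer G R.o))
    2 heven.two_dvd
  set z : G := (z₀ : G) with hzdef
  have hzord : orderOf z = 2 := by rw [hzdef, Subgroup.orderOf_coe, hz₀]
  have hz1 : z ≠ 1 := invol_ne_one hzord
  have hz2 : z * z = 1 := invol_mul_self hzord
  have hzH : z ∈ R.H := z₀.2
  have hsw : ∀ s : G, R.Sw s → s * s = 1 ∧ ∃ x : Ω, x ≠ R.inf ∧ x ≠ R.o ∧ s • x = x := by
    intro s hs
    exact even_swappers hZ hab hz1 hz2 hzH.1 hzH.2 hd hs.inf hs.o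
  obtain ⟨s₁, hs₁a, hs₁b⟩ := Basic.trans2 hZ hab (Ne.symm hab)
  have hs₁ : R.Sw s₁ := ⟨hs₁a, hs₁b⟩
  obtain ⟨-, x, hxa, hxb, hsx⟩ := hsw s₁ hs₁
  set s : G := z * s₁ with hs
  have hssw : R.Sw s := hs₁.H_mul hzH
  have hinv : ∀ g ∈ R.H, s * g * s = g⁻¹ := by
    intro g hg
    have h1 := (hsw _ (hssw.mul_H hg)).1
    calc s * g * s = (s * g * (s * g)) * g⁻¹ := by group
      _ = g⁻¹ := by rw [h1, one_mul]
  set e : A := R.coord x with he
  have hex : R.pt e = x := R.pt_coord hxa
  have he0 : e ≠ 0 := by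
    intro h
    apply hxb
    rw [← hex, h]
    rfl
  have hse : R.ap s e = -e := by
    rw [hs, hs₁.H_ap hzH, ap_invol hzH hz2 hz1]
    have : R.ap s₁ e = e := by
      rw [RootData.ap, hex, hsx, he]
    rw [this]
  have hcard : Nat.card R.H * 2 + 1 = Nat.card A := by
    have : Nat.card R.H = Nat.card ↥(stabilizer G R.inf ⊓ stabilizer G R.o) := rfl
    omega
  obtain ⟨K, i1, i2, h1, h2, h3⟩ := final_even R ⟨hssw, (hsw s hssw).1⟩ hinv hzH hz2 hz1 he0 hse hcard
  exact ⟨K, i1, i2, h1, h2.trans hAcard, h3⟩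

/-- `PSL₂` from a Zassenhaus group of odd two-point stabiliser order, in which every element
interchanging the two points is an involution. -/
theorem psl_odd {G : Type u} {Ω : Type v} [Group G] [Finite G] [MulAction G Ω] [Fintype Ω]
    (hZ : Cfsg.IsZassenhausGroup G Ω) {a b : Ω} (hab : a ≠ b) (F : Subgroup G)
    (hcomm : ∀ x ∈ F, ∀ y ∈ F, x * y = y * x) (hFle : F ≤ stabilizer G a)
    (hFn : ∀ g : G, g • a = a → ∀ u ∈ F, g * u * g⁻¹ ∈ F)
    (hreg : ∀ y, y ≠ a → ∃! u : F, (u : G) • b = y)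
    (hodd : Odd (Nat.card ↥(stabilizer G a ⊓ stabilizer G b)))
    (hd : 2 * Nat.card ↥(stabilizer G a ⊓ stabilizer G b) + 2 = Fintype.card Ω)
    (hsw : ∀ s : G, s • a = b → s • b = a → s * s = 1) :
    ∃ (K : Type) (_ : Field K) (_ : Fintype K), ringChar K ≠ 2 ∧
      Fintype.card K = Nat.card F ∧
      Nonempty (G ≃* Matrix.ProjectiveSpecialLinearGroup (Fin 2) K) := by
  classical
  have hcardF := card_regular hab hFle hreg
  obtain ⟨A, instA, R, hRinf, hRo, hAcard, hτF, hFτ⟩ :=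
    Sharp3.exists_rootData_of_abelian F hcomm (Ne.symm hab) (fun u hu => hFle hu) hreg
      (fun g hg u hu => hFn g hg u hu) (fun g g' h => Basic.eq_of_smul hZ h)
      hZ.2.2.1
  subst hRinf hRo
  have _ : Finite A := Nat.finite_of_card_ne_zero (by rw [hAcard]; exact Nat.card_pos.ne')
  have hcard : Nat.card R.H * 2 + 1 = Nat.card A := by
    have : Nat.card R.H = Nat.card ↥(stabilizer G R.inf ⊓ stabilizer G R.o) := rfl
    omega
  have hinv : ∀ s : G, R.Sw s → s * s = 1 := fun s hs => hsw s hs.inf hs.o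
  have hneven : Even (Fintype.card Ω) := by
    rw [← hd]
    exact ⟨Nat.card ↥(stabilizer G R.inf ⊓ stabilizer G R.o) + 1, by ring⟩
  have hE1 : ∀ {c d : Ω}, c ≠ d → ∀ g : G, g • c = c → g • d = d → g * g = 1 → g = 1 := by
    intro c d hcd g h1 h2 h3
    by_contra hg
    have h4 : orderOf g = 2 := orderOf_eq_two_of hg h3
    have h7 : orderOf g ∣ Nat.card (E (G := G) c d) := by
      rw [← Subgroup.orderOf_mk g (show g ∈ E (G := G) c d from ⟨h1, h2⟩)]
      exact orderOf_dvd_natCard _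
    rw [card_E_eq hZ hab hcd] at h7
    have h8 : Odd (orderOf g) := Odd.of_dvd_nat hodd h7
    rw [h4] at h8
    exact absurd h8 (by decide)
  have hodd' : ∀ g ∈ R.H, g * g = 1 → g = 1 := fun g hg h => hE1 hab g hg.1 hg.2 h
  have hnofix : ∀ (g : G), g ≠ 1 → g * g = 1 → ∀ c : Ω, g • c ≠ c := by
    intro g hg h2 c hc
    have h4 : orderOf g = 2 := orderOf_eq_two_of hg h2
    have hp := Cfsg.Agent.S0740.card_fixedBy_parity (Ω := Ω) h4
    have h5 : ∃ d : Ω, d ≠ c ∧ g • d = d := by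
      by_contra hcon
      push Not at hcon
      have h6 : Nat.card (fixedBy Ω g) = 1 := by
        rw [Nat.card_eq_one_iff_unique]
        refine ⟨⟨fun x y => Subtype.ext ?_⟩, ⟨⟨c, hc⟩⟩⟩
        have key : ∀ w : fixedBy Ω g, (w : Ω) = c := by
          intro w
          by_contra hw
          exact hcon _ hw w.2
        rw [key x, key y]
      obtain ⟨k, hk⟩ := hneven
      omega
    obtain ⟨d, hd1, hd2⟩ := h5
    exact hg (hE1 (Ne.symm hd1) g hc hd2 h2)
  have hfree : ∀ s : G, R.Sw s → ∀ x : A, x ≠ 0 → R.ap s x ≠ x := by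
    intro s hs x hx h
    have h1 := hs.pt hx
    rw [h] at h1
    refine hnofix s ?_ (hinv s hs) _ h1
    rintro rfl
    have := hs.inf
    rw [one_smul] at this
    exact hab this
  obtain ⟨s₁, hs₁a, hs₁b⟩ := Basic.trans2 hZ hab (Ne.symm hab)
  have hs₁ : R.Sw s₁ := ⟨hs₁a, hs₁b⟩
  obtain ⟨K, i1, i2, h1, h2, h3⟩ := final_odd R ⟨hs₁, hinv s₁ hs₁⟩ hinv hodd' hfree hcard
  exact ⟨K, i1, i2, h1, h2.trans hAcard, h3⟩

end Cfsg.Agent.Lib.Zass.RootPSL
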