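import Cfsg.Agent.Lib.Zass.Infl
import Cfsg.Agent.Lib.Zass.RootPSL
import Cfsg.Agent.S0741
import Cfsg.Agent.S0738
import Cfsg.Agent.Lib.FPF.Concrete

/-!
# A simple Zassenhaus group with `d = n - 2` even does not exist
-/

set_option autoImplicit false
set_option linter.unusedSectionVars false
set_option linter.unusedVariables false
set_option linter.style.haveILetI false

namespace Cfsg.Agent.Lib.Zass.NoSharp

open Cfsg MulAction
open Cfsg.Agent.Lib.Zass.Basic Cfsg.Agent.Lib.Zass.Stab Cfsg.Agent.Lib.Zass.Infl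
  Cfsg.Agent.Lib.CharDeep.Zassenhaus Cfsg.Agent.Lib.Char.Induced
open Cfsg.Agent.Lib.Char.Basic Cfsg.Agent.Lib.Char.Ortho Cfsg.Agent.Lib.Char.Complete
open Cfsg.Agent.Lib.Char.Degree Cfsg.Agent.Lib.Char.Conj
open Finset
open scoped ComplexConjugate

universe u v

/-- A group of even order with an involutory automorphism has a non-trivial invariant irreducible
character of odd degree. -/
theorem exists_odd_fixed {E : Type u} [Group E] [Fintype E] (σ : E ≃* E) (hσ : ∀ e, σ (σ e) = e)
    (heven : Even (Nat.card E)) :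
    ∃ θ : E → ℂ, IsIrrCharacter E θ ∧ θ ≠ (fun _ => 1) ∧ θ ∘ σ = θ ∧ Odd (charDegree θ) := by
  classical
  have := finite_irrCharacter (G := E)
  let _ := Fintype.ofFinite (IrrCharacter E)
  have hsum := sum_charDegree_sq (G := E)
  have hO : Even (Finset.univ.filter (fun θ : IrrCharacter E => Odd (charDegree (θ : E → ℂ)))).card := by
    by_contra hcon
    rw [Nat.not_even_iff_odd] at hcon
    have h1 : Odd (∑ θ : IrrCharacter E, charDegree (θ : E → ℂ) ^ 2) := by
      rw [Finset.odd_sum_iff_odd_card_odd]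
      have : (Finset.univ.filter (fun θ : IrrCharacter E => Odd (charDegree (θ : E → ℂ) ^ 2))) =
          (Finset.univ.filter (fun θ : IrrCharacter E => Odd (charDegree (θ : E → ℂ)))) := by
        ext θ
        simp only [Finset.mem_filter, Finset.mem_univ, true_and]
        constructor
        · intro h
          rw [pow_two] at h
          exact (Nat.odd_mul.mp h).1
        · intro h
          exact h.pow
      rwa [this]
    rw [hsum] at h1
    exact (Nat.not_even_iff_odd.mpr h1) heven
  let O := {θ : IrrCharacter E // Odd (charDegree (θ : E → ℂ))}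
  have hOcard : Even (Fintype.card O) := by
    rw [Fintype.card_subtype]
    exact hO
  have hdeg : ∀ θ : IrrCharacter E, charDegree ((θ : E → ℂ) ∘ σ) = charDegree (θ : E → ℂ) := by
    intro θ
    apply charDegree_eq_of_eq_natCast
    rw [charDegree_natCast (isCharacter_of_isIrrCharacter θ.2)]
    simp [map_one]
  let f : Function.End O := fun θ => ⟨⟨(θ.1 : E → ℂ) ∘ σ, isIrrCharacter_comp_mulEquiv σ θ.1.2⟩, by
    show Odd (charDegree ((θ.1 : E → ℂ) ∘ σ))
    rw [hdeg]
    exact θ.2⟩
  have hf : f ^ (2 ^ 1) = 1 := by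
    funext θ
    apply Subtype.ext
    apply Subtype.ext
    funext e
    show (θ.1 : E → ℂ) (σ (σ e)) = (θ.1 : E → ℂ) e
    rw [hσ]
  have := Fact.mk Nat.prime_two
  have hmod := Equiv.Perm.card_fixedPoints_modEq hf
  have hfixev : Even (Fintype.card (Function.fixedPoints f)) := by
    have h1 := hOcard.two_dvd
    have h2 : Fintype.card O % 2 = Fintype.card (Function.fixedPoints f) % 2 := hmod
    rw [even_iff_two_dvd]
    omega
  have htrivI : IsIrrCharacter E (fun _ => (1 : ℂ)) := by
    apply isIrrCharacter_of_classInner_self_eq_one isCharacter_one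
    simp [classInner, Finset.card_univ, Nat.card_eq_fintype_card]
  have htrivdeg : charDegree (fun _ : E => (1 : ℂ)) = 1 :=
    charDegree_eq_of_eq_natCast (by simp)
  let t : O := ⟨⟨fun _ => 1, htrivI⟩, by
    show Odd (charDegree (fun _ : E => (1 : ℂ)))
    rw [htrivdeg]
    exact odd_one⟩
  have htfix : t ∈ Function.fixedPoints f := by
    show f t = t
    rfl
  have hcard2 : 1 < Fintype.card (Function.fixedPoints f) := by
    have h1 : 0 < Fintype.card (Function.fixedPoints f) := Fintype.card_pos_iff.mpr ⟨⟨t, htfix⟩⟩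
    obtain ⟨k, hk⟩ := hfixev
    omega
  obtain ⟨x, hx⟩ := Fintype.exists_ne_of_one_lt_card hcard2 ⟨t, htfix⟩
  refine ⟨x.1.1.1, x.1.1.2, ?_, ?_, x.1.2⟩
  · intro h
    apply hx
    apply Subtype.ext
    apply Subtype.ext
    apply Subtype.ext
    exact h
  · have h1 : f x.1 = x.1 := x.2
    have h2 := congrArg (fun y : O => (y.1 : E → ℂ)) h1
    exact h2

/-- The arithmetic at the end of the argument. -/
theorem arith {A B q : ℕ} (hB : 1 ≤ B) (hAB : B < A) (hq : (A + B) ^ 2 < q)
    (hdvd : (A * q + B) ∣ (q + 1) * q * (q - 1)) : False := by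
  have hq1 : 1 ≤ q := by
    have : 0 < (A + B) ^ 2 := by positivity
    omega
  obtain ⟨r, rfl⟩ : ∃ r, q = r + 1 := ⟨q - 1, by omega⟩
  simp only [Nat.add_sub_cancel] at hdvd
  -- work in the integers
  have h1 : ((A * (r + 1) + B : ℕ) : ℤ) ∣ (((r + 1 + 1) * (r + 1) * r : ℕ) : ℤ) :=
    Int.natCast_dvd_natCast.mpr hdvd
  push_cast at h1
  set t : ℤ := (A : ℤ) * ((r : ℤ) + 1) with ht
  have h2 : (t + B) ∣ (A : ℤ) ^ 3 * (((r : ℤ) + 1 + 1) * ((r : ℤ) + 1) * r) :=
    Dvd.dvd.mul_left h1 _
  have h3 : (A : ℤ) ^ 3 * (((r : ℤ) + 1 + 1) * ((r : ℤ) + 1) * r) = t ^ 3 - (A : ℤ) ^ 2 * t := by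
    rw [ht]
    ring
  rw [h3] at h2
  have h4 : (t + B) ∣ (t + B) * (t ^ 2 - B * t + B ^ 2 - (A : ℤ) ^ 2) := Dvd.intro _ rfl
  have h5 : (t + B) ∣ (B : ℤ) * ((A : ℤ) - B) * ((A : ℤ) + B) := by
    have := dvd_sub h2 h4
    have h6 : t ^ 3 - (A : ℤ) ^ 2 * t - (t + B) * (t ^ 2 - B * t + B ^ 2 - (A : ℤ) ^ 2) =
        (B : ℤ) * ((A : ℤ) - B) * ((A : ℤ) + B) := by ring
    rwa [h6] at this
  obtain ⟨c, rfl⟩ : ∃ c, A = B + c := ⟨A - B, by omega⟩
  have hc : 1 ≤ c := by omega
  have h7 : ((B : ℤ) + c - B) = c := by ring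
  push_cast at h5 ht
  rw [h7] at h5
  -- size
  have h8 : ((B : ℤ) * c * ((B : ℤ) + c + B)) < t + B := by
    have h9 : ((B + c + B) ^ 2 : ℤ) < (r : ℤ) + 1 := by exact_mod_cast hq
    have h10 : (2 * (B : ℤ) + c) * B ≤ (B + c + B) ^ 2 := by nlinarith [Int.natCast_nonneg B, Int.natCast_nonneg c]
    rw [ht]
    have hB0 : (0 : ℤ) < B := by exact_mod_cast hB
    have hc0 : (0 : ℤ) < c := by exact_mod_cast hc
    nlinarith
  have h11 : 0 < (B : ℤ) * c * ((B : ℤ) + c + B) := by
    have hB0 : (0 : ℤ) < B := by exact_mod_cast hB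
    have hc0 : (0 : ℤ) < c := by exact_mod_cast hc
    positivity
  have := Int.le_of_dvd h11 h5
  omega

theorem isIrr_trivial (E : Type u) [Group E] [Fintype E] : IsIrrCharacter E (fun _ => (1 : ℂ)) := by
  apply isIrrCharacter_of_classInner_self_eq_one isCharacter_one
  have h := card_ne_zero_complex (G := E)
  simp only [classInner, map_one, mul_one, Finset.sum_const, Finset.card_univ, nsmul_eq_mul]
  rw [← Nat.card_eq_fintype_card]
  field_simp

/-- A character of norm two is a sum of two different irreducible characters. -/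
theorem norm_two_char {G : Type u} [Group G] [Fintype G] {Y : G → ℂ} (hY : IsCharacter G Y)
    (h2 : classInner Y Y = 2) :
    ∃ X X' : G → ℂ, IsIrrCharacter G X ∧ IsIrrCharacter G X' ∧ X ≠ X' ∧ Y = X + X' := by
  obtain ⟨χ₁, χ₂, ε₁, ε₂, h1, h3, hne, he1, he2, hY2⟩ := Cfsg.Agent.Lib.Char.GenLattice.norm_two
    (θ := Y) ⟨Y, 0, hY, isCharacter_zero, by simp⟩ h2
  have hin1 : classInner Y χ₁ = ε₁ := by
    rw [hY2, classInner_add_left, classInner_zsmul_left, classInner_zsmul_left,
      classInner_self_of_isIrr h1, classInner_eq_zero_of_isIrr_of_ne h3 h1 (Ne.symm hne)]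
    simp
  have hin2 : classInner Y χ₂ = ε₂ := by
    rw [hY2, classInner_add_left, classInner_zsmul_left, classInner_zsmul_left,
      classInner_self_of_isIrr h3, classInner_eq_zero_of_isIrr_of_ne h1 h3 hne]
    simp
  obtain ⟨n₁, hn₁⟩ := exists_nat_classInner hY (isCharacter_of_isIrrCharacter h1)
  obtain ⟨n₂, hn₂⟩ := exists_nat_classInner hY (isCharacter_of_isIrrCharacter h3)
  have hp1 : ε₁ = 1 := by
    rcases he1 with h | h
    · exact h
    · exfalso
      rw [hin1, h] at hn₁
      have : ((-1 : ℤ) : ℂ) = ((n₁ : ℤ) : ℂ) := by simpa using hn₁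
      have := Int.cast_injective this
      omega
  have hp2 : ε₂ = 1 := by
    rcases he2 with h | h
    · exact h
    · exfalso
      rw [hin2, h] at hn₂
      have : ((-1 : ℤ) : ℂ) = ((n₂ : ℤ) : ℂ) := by simpa using hn₂
      have := Int.cast_injective this
      omega
  refine ⟨χ₁, χ₂, h1, h3, hne, ?_⟩
  rw [hY2, hp1, hp2]
  simp

/-- A character with full average on a subgroup is constant there. -/
theorem eq_of_sum_eq {G : Type u} [Group G] [Fintype G] {X : G → ℂ} (hX : IsCharacter G X)
    (H : Subgroup G) [Fintype H] (h : ∑ u : H, X u = (Nat.card H : ℂ) * X 1) (u : H) :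
    X u = X 1 := by
  classical
  obtain ⟨d, hd⟩ := exists_deg_of_isCharacter hX
  have hnorm : ∀ g : G, ‖X g‖ ≤ d := by
    intro g
    have := norm_le_charDegree hX g
    rwa [charDegree_eq_of_eq_natCast hd] at this
  have hre : ∑ u : H, ((d : ℝ) - (X u).re) = 0 := by
    have h1 := congrArg Complex.re h
    rw [Complex.re_sum, hd] at h1
    simp only [Complex.mul_re, Complex.natCast_re, Complex.natCast_im, zero_mul, sub_zero] at h1
    rw [Finset.sum_sub_distrib, h1]
    simp [Finset.card_univ, Nat.card_eq_fintype_card]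
  have hnn : ∀ u ∈ (Finset.univ : Finset H), 0 ≤ (d : ℝ) - (X u).re := by
    intro u _
    have := (Complex.re_le_norm (X u)).trans (hnorm u)
    linarith
  have h0 := (Finset.sum_eq_zero_iff_of_nonneg hnn).mp hre u (Finset.mem_univ _)
  have hre' : (X u).re = d := by linarith
  have him : (X u).im = 0 := by
    have h1 := hnorm u
    have h2 := Complex.sq_norm (X u)
    rw [Complex.normSq_apply] at h2
    have h3 : ‖X u‖ ^ 2 ≤ (d : ℝ) ^ 2 := by
      apply pow_le_pow_left₀ (norm_nonneg _) h1
    rw [hre'] at h2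
    nlinarith [mul_self_nonneg (X u).im]
  rw [hd]
  apply Complex.ext
  · simpa using hre'
  · simpa using him

section Main

variable {G : Type u} {Ω : Type v} [Group G] [MulAction G Ω] [Fintype G] [Fintype Ω]
variable {a b : Ω} {H : Subgroup G} (D : Data a b H)

open scoped Classical

include D

/-- The value of `X` at `1`, given its transform. -/
theorem deg_of_T {X : G → ℂ} (hX : IsCharacter G X) {θ : E (G := G) a b → ℂ}
    (hθ : IsIrrCharacter _ θ) (hθ1 : θ ≠ fun _ => 1) (hT : T a b H X = θ) :
    ∃ m : ℕ, X 1 = θ 1 + (Nat.card (E (G := G) a b) : ℂ) * m := by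
  have hres : IsCharacter (E (G := G) a b) (fun e => X e) := isCharacter_restrict _ hX
  have hone : IsIrrCharacter (E (G := G) a b) (fun _ => (1 : ℂ)) := isIrr_trivial _
  obtain ⟨m, hm⟩ := exists_nat_classInner hres (isCharacter_of_isIrrCharacter hone)
  refine ⟨m, ?_⟩
  have hsum0 : ∑ e : E (G := G) a b, θ e = 0 := by
    have h1 := classInner_eq_zero_of_isIrr_of_ne hθ hone hθ1
    rw [classInner_subgroup_eq] at h1
    have h0 := card_subgroup_ne_zero (E (G := G) a b)
    have h2 := (mul_eq_zero.mp h1).resolve_left (inv_ne_zero h0)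
    simpa using h2
  have hterm : ∀ e : E (G := G) a b, X e = θ e + if e = 1 then X 1 - θ 1 else 0 := by
    intro e
    by_cases he : e = 1
    · subst he
      simp
    · rw [if_neg he, add_zero, ← hT]
      simp only [T, if_neg he]
  rw [classInner_subgroup_eq] at hm
  simp only [map_one, mul_one] at hm
  rw [Finset.sum_congr rfl (fun e _ => hterm e), Finset.sum_add_distrib, hsum0, zero_add,
    Finset.sum_ite_eq'] at hm
  simp only [mem_univ, if_true] at hm
  have h0 := card_subgroup_ne_zero (E (G := G) a b)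
  field_simp at hm
  rw [← hm]
  ring

/-- Non-vanishing of the multiplicity. -/
theorem ne_zero_of_T [IsSimpleGroup G] {X : G → ℂ} (hX : IsCharacter G X) {θ : E (G := G) a b → ℂ}
    (hθ : IsIrrCharacter _ θ) (hθ1 : θ ≠ fun _ => 1) (hT : T a b H X = θ) (hH : 1 < Nat.card H)
    (h1 : X 1 = θ 1) : False := by
  have hone : IsIrrCharacter (E (G := G) a b) (fun _ => (1 : ℂ)) := isIrr_trivial _
  have hT1 : (Nat.card H : ℂ)⁻¹ * ∑ u : H, X u = θ 1 := by
    rw [← hT]
    simp [T]
  have h0 := card_subgroup_ne_zero H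
  have hsum : ∑ u : H, X u = (Nat.card H : ℂ) * X 1 := by
    rw [h1, ← hT1]
    field_simp
  have hconst := eq_of_sum_eq hX H hsum
  -- the kernel of `X`
  have hker : charKer hX = ⊤ := by
    rcases (charKer_normal hX).eq_bot_or_eq_top with h | h
    · exfalso
      obtain ⟨u, hu⟩ : ∃ u : H, u ≠ 1 := by
        have : Nontrivial H := Finite.one_lt_card_iff_nontrivial.mp hH
        exact exists_ne 1
      have h2 : (u : G) ∈ charKer hX := hconst u
      rw [h, Subgroup.mem_bot] at h2
      exact hu (Subtype.ext h2)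
    · exact h
  have hall : ∀ g : G, X g = X 1 := fun g => by
    have : g ∈ charKer hX := by rw [hker]; trivial
    exact this
  have hθc : ∀ e : E (G := G) a b, θ e = θ 1 := by
    intro e
    by_cases he : e = 1
    · rw [he]
    · rw [← hT]
      simp only [T, if_neg he, if_true]
      rw [hall (e : G), hsum, ← mul_assoc, inv_mul_cancel₀ h0, one_mul]
  have h2 := classInner_eq_zero_of_isIrr_of_ne hθ hone hθ1
  rw [classInner_subgroup_eq] at h2
  have h3 := (mul_eq_zero.mp h2).resolve_left (inv_ne_zero (card_subgroup_ne_zero _))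
  simp only [map_one, mul_one, Finset.sum_congr rfl (fun e _ => hθc e), Finset.sum_const,
    Finset.card_univ, nsmul_eq_mul] at h3
  have h4 := irr_one_ne_zero hθ
  rcases mul_eq_zero.mp h3 with h5 | h5
  · have : Fintype.card (E (G := G) a b) ≠ 0 := Fintype.card_ne_zero
    exact this (by exact_mod_cast h5)
  · exact h4 h5

/-- The characters with transform `θ`. -/
theorem T_eq_of_decomp {θ : E (G := G) a b → ℂ} (hθ : IsIrrCharacter _ θ) {s : G} (hsa : s • a = b)
    (hsb : s • b = a) (hθs : θ ∘ sig hsa hsb = θ) {X X' : G → ℂ} (hX : IsIrrCharacter G X)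
    (hX' : IsIrrCharacter G X') (hne : X ≠ X') (hY : Y D θ = X + X') : T a b H X = θ := by
  have hθc := isClassFunction_of_isIrrCharacter hθ
  apply classFunction_ext (isClass_T D (isClassFunction_of_isIrrCharacter hX)) hθc
  intro ν hν
  rw [← classInner_Y D (isClassFunction_of_isIrrCharacter hX)]
  have hsum := classInner_Y_Y D hθc hsa hsb ν
  rw [hθs, hY, classInner_add_left] at hsum
  have hYν := isCharacter_Y D (isCharacter_of_isIrrCharacter hν)
  by_cases hνθ : θ = ν
  · subst hνθ
    rw [classInner_self_of_isIrr hθ, hY, classInner_add_right, classInner_self_of_isIrr hX,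
      classInner_eq_zero_of_isIrr_of_ne hX hX' hne, add_zero]
  · have h0 := classInner_eq_zero_of_isIrr_of_ne hθ hν hνθ
    rw [h0, add_zero] at hsum
    rw [h0]
    obtain ⟨n, hn⟩ := exists_nat_classInner (isCharacter_of_isIrrCharacter hX) hYν
    obtain ⟨n', hn'⟩ := exists_nat_classInner (isCharacter_of_isIrrCharacter hX') hYν
    rw [hn, hn'] at hsum
    have h1 : n + n' = 0 := by exact_mod_cast hsum
    rw [hn]
    have : n = 0 := by omega
    simp [this]

/-- **A simple Zassenhaus group with two-point stabilisers of even order has `n - 2 ≠ d`.** -/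
theorem no_simple [IsSimpleGroup G] (hR : Nat.card (E (G := G) a b) + 1 = Nat.card H)
    (heven : Even (Nat.card (E (G := G) a b))) : False := by
  obtain ⟨s, hs, hsa, hsb⟩ := (Cfsg.Agent.S0740.result D.hZ D.hab).1
  have hss : s * s = 1 := by
    have := pow_orderOf_eq_one s
    rwa [hs, pow_two] at this
  have hsi : s⁻¹ = s := inv_eq_of_mul_eq_one_left hss
  obtain ⟨θ, hθ, hθ1, hθs, hodd⟩ := exists_odd_fixed (sig hsa hsb) (by
    intro e
    apply Subtype.ext
    simp only [coe_sig, hsi]
    calc s * (s * (e : G) * s) * s = (s * s) * e * (s * s) := by group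
      _ = e := by rw [hss]; group) heven
  have hθc := isClassFunction_of_isIrrCharacter hθ
  have hYc : IsCharacter G (Y D θ) := isCharacter_Y D (isCharacter_of_isIrrCharacter hθ)
  have hYn : classInner (Y D θ) (Y D θ) = 2 := by
    rw [classInner_Y_Y D hθc hsa hsb, hθs, classInner_self_of_isIrr hθ]
    norm_num
  obtain ⟨X, X', hX, hX', hne, hY⟩ := norm_two_char hYc hYn
  have hT := T_eq_of_decomp D hθ hsa hsb hθs hX hX' hne hY
  have hT' := T_eq_of_decomp D hθ hsa hsb hθs hX' hX (Ne.symm hne) (by rw [hY, add_comm])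
  obtain ⟨m, hm⟩ := deg_of_T D (isCharacter_of_isIrrCharacter hX) hθ hθ1 hT
  obtain ⟨m', hm'⟩ := deg_of_T D (isCharacter_of_isIrrCharacter hX') hθ hθ1 hT'
  set d := Nat.card (E (G := G) a b) with hd
  have hd0 : 0 < d := Nat.card_pos
  have hH2 : 1 < Nat.card H := by omega
  obtain ⟨t, ht⟩ := exists_deg_of_isCharacter (isCharacter_of_isIrrCharacter hθ)
  have htdeg : charDegree θ = t := charDegree_eq_of_eq_natCast ht
  rw [htdeg] at hodd
  rw [ht] at hm hm'
  -- the degree equation
  have hsum : (m + m' : ℕ) = t := by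
    have h1 : Y D θ 1 = X 1 + X' 1 := by rw [hY]; rfl
    rw [Y_one D, hm, hm', ht, ← hR] at h1
    have h2 : ((d + 1 + 1) * t : ℕ) = (t + d * m) + (t + d * m') := by
      have : (((d + 1 + 1) * t : ℕ) : ℂ) = (((t + d * m) + (t + d * m') : ℕ) : ℂ) := by
        push_cast
        push_cast at h1
        rw [h1]
      exact_mod_cast this
    have h3 : d * (m + m') = d * t := by
      have : (d + 1 + 1) * t = d * t + t + t := by ring
      have h4 : t + d * m + (t + d * m') = d * (m + m') + t + t := by ring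
      omega
    exact Nat.eq_of_mul_eq_mul_left hd0 h3
  have hmne : m ≠ m' := by
    intro h
    subst h
    obtain ⟨k, hk⟩ := hodd
    omega
  have hm0 : m ≠ 0 := by
    rintro rfl
    apply ne_zero_of_T D (isCharacter_of_isIrrCharacter hX) hθ hθ1 hT hH2
    rw [hm, ht]
    simp
  have hm'0 : m' ≠ 0 := by
    rintro rfl
    apply ne_zero_of_T D (isCharacter_of_isIrrCharacter hX') hθ hθ1 hT' hH2
    rw [hm', ht]
    simp
  -- size of `θ`
  have htd : t ^ 2 + 1 ≤ d := by
    classical
    have := finite_irrCharacter (G := E (G := G) a b)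
    let _ := Fintype.ofFinite (IrrCharacter (E (G := G) a b))
    have h1 := sum_charDegree_sq (G := E (G := G) a b)
    have hne1 : (⟨θ, hθ⟩ : IrrCharacter (E (G := G) a b)) ≠ ⟨fun _ => 1, isIrr_trivial _⟩ := by
      intro h
      exact hθ1 (congrArg Subtype.val h)
    have h2 := Finset.sum_le_sum_of_subset (f := fun χ : IrrCharacter (E (G := G) a b) =>
      charDegree (χ : E (G := G) a b → ℂ) ^ 2) (Finset.subset_univ {⟨θ, hθ⟩, ⟨fun _ => 1, isIrr_trivial _⟩})
    rw [Finset.sum_pair hne1] at h2
    have h3 : charDegree (fun _ : E (G := G) a b => (1 : ℂ)) = 1 :=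
      charDegree_eq_of_eq_natCast (by simp)
    simp only [htdeg, h3] at h2
    rw [h1] at h2
    simp only [one_pow] at h2
    exact h2
  -- the order of the group
  have hcardG : Nat.card G = (d + 1 + 1) * (d + 1) * d := by
    have h1 := card_eq_card_mul_index (stabilizer G a)
    rw [card_stab D, index_stabilizer D, ← hR] at h1
    rw [h1]
    ring
  -- the final arithmetic
  have hfinal : ∀ {Z : G → ℂ} {A B : ℕ}, IsIrrCharacter G Z → Z 1 = t + d * A → B ≠ 0 → B < A →
      A + B = t → False := by
    intro Z A B hZ hZ1 hB hAB hABt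
    have h1 : charDegree Z = t + d * A := charDegree_eq_of_eq_natCast (by rw [hZ1]; push_cast; rfl)
    have h2 := charDegree_dvd_card hZ
    rw [h1, hcardG] at h2
    have h3 : t + d * A = A * (d + 1) + B := by
      rw [← hABt]
      ring
    rw [h3] at h2
    refine Cfsg.Agent.Lib.Zass.NoSharp.arith (A := A) (B := B) (q := d + 1) (by omega) hAB ?_ ?_
    · rw [hABt]
      omega
    · simpa [mul_comm, mul_assoc, mul_left_comm] using h2
  rcases lt_or_gt_of_ne hmne with h | h
  · exact hfinal hX' hm' hm0 h (by omega)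
  · exact hfinal hX hm hm'0 h (by omega)

end Main

section Final

variable {G : Type u} {Ω : Type v} [Group G] [MulAction G Ω]

/-- The two-point stabiliser acts semiregularly on the remaining points. -/
theorem card_E_dvd [Finite G] [Fintype Ω] (hZ : IsZassenhausGroup G Ω) {a b : Ω} (hab : a ≠ b) :
    Nat.card (E (G := G) a b) ∣ Fintype.card Ω - 2 := by
  classical
  let S : SubMulAction (E (G := G) a b) Ω :=
    { carrier := {x | x ≠ a ∧ x ≠ b}
      smul_mem' := by
        rintro e x ⟨h1, h2⟩
        constructor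
        · intro h
          have h3 : (e : G) • a = a := e.2.1
          exact h1 (smul_left_cancel (e : G) (h.trans h3.symm))
        · intro h
          have h3 : (e : G) • b = b := e.2.2
          exact h2 (smul_left_cancel (e : G) (h.trans h3.symm)) }
  have hfree : ∀ x : S, stabilizer (E (G := G) a b) x = ⊥ := by
    rintro ⟨x, h1, h2⟩
    rw [eq_bot_iff]
    intro e he
    rw [Subgroup.mem_bot]
    have h3 : (e : G) • x = x := congrArg Subtype.val (mem_stabilizer_iff.mp he)
    exact Subtype.ext (fix3 hZ hab (Ne.symm h2) (Ne.symm h1) e.2.1 e.2.2 h3)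
  have h1 := Nat.card_congr (selfEquivOrbitsQuotientProd hfree)
  rw [Nat.card_prod] at h1
  have h2 : Nat.card S = Fintype.card Ω - 2 := by
    have h3 : Nat.card S = Nat.card {x : Ω // x ≠ a ∧ x ≠ b} := rfl
    rw [h3, Nat.card_eq_fintype_card, Fintype.card_subtype]
    have : (Finset.univ.filter (fun x : Ω => x ≠ a ∧ x ≠ b)) = Finset.univ \ {a, b} := by
      ext x
      simp
    rw [this, Finset.card_sdiff_of_subset (Finset.subset_univ _), Finset.card_univ,
      Finset.card_pair hab]
  rw [← h2, h1]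
  exact Dvd.intro_left _ rfl

/-- **For a simple Zassenhaus group with two-point stabilisers of even order `d`: `n - 2 = 2 d`.** -/
theorem two_of_even_simple [Finite G] [Fintype Ω] [IsSimpleGroup G] (hZ : IsZassenhausGroup G Ω)
    {a b : Ω} (hab : a ≠ b) (heven : Even (Nat.card (E (G := G) a b))) :
    2 * Nat.card (E (G := G) a b) + 2 = Fintype.card Ω := by
  classical
  let _ := Fintype.ofFinite G
  have h41 := Cfsg.Agent.S0741.result hZ hab heven
  obtain ⟨R, hR⟩ := card_E_dvd hZ hab
  obtain ⟨c, hca, hcb⟩ := exists_third hZ a b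
  have hΩ3 : 3 ≤ Fintype.card Ω := by
    have : ({a, b, c} : Finset Ω).card = 3 := by
      rw [Finset.card_eq_three]
      exact ⟨a, b, c, hab, Ne.symm hca, Ne.symm hcb, rfl⟩
    rw [← this]
    exact Finset.card_le_univ _
  set d := Nat.card (E (G := G) a b) with hd
  have hd0 : 0 < d := Nat.card_pos
  have hR2 : R ≤ 2 := by
    by_contra h
    push Not at h
    have : d * 3 ≤ d * R := Nat.mul_le_mul_left _ h
    omega
  have hR0 : R ≠ 0 := by
    rintro rfl
    omega
  have hR1 : R ≠ 1 := by
    rintro rfl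
    -- the kernel
    have hHa := kernelAt_le (G := G) a b
    have hreg : ∀ y, y ≠ a → ∃! u : kernelAt (G := G) a b, (u : G) • b = y :=
      fun y hy => kernelAt_regular hZ hab (Ne.symm hab) hy
    have hcard := Cfsg.Agent.Lib.Zass.RootPSL.card_regular hab hHa hreg
    have D : Data a b (kernelAt (G := G) a b) :=
      { hZ := hZ
        hab := hab
        hHa := hHa
        hHcard := hcard
        hHfix := by
          intro u hu hu1 x hx
          by_contra hxa
          apply hu1
          have h1 := (kernelAt_regular hZ hab hxa hxa).unique (y₁ := ⟨u, hu⟩) (y₂ := 1) hx (by simp)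
          exact congrArg Subtype.val h1 }
    exact no_simple D (by omega) heven
  have : R = 2 := by omega
  subst this
  omega

theorem conj_of_swapper {v h : G} (hv : v * v = 1) (hvh : (v * h) * (v * h) = 1) :
    v * h * v⁻¹ = h⁻¹ := by
  have hi : v⁻¹ = v := inv_eq_of_mul_eq_one_left hv
  rw [hi]
  calc v * h * v = (v * h * (v * h)) * h⁻¹ := by group
    _ = h⁻¹ := by rw [hvh, one_mul]

end Final

end Cfsg.Agent.Lib.Zass.NoSharp

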