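import Cfsg.Agent.Lib.Zass.FeitMain
import Cfsg.Agent.Lib.Zass.PrimeDeg
import Cfsg.Agent.Lib.Zass.NoSharp
import Cfsg.Agent.S0344

/-!
# Simple Zassenhaus groups: reduction of the classification to the non-abelian `2`-group case
-/

set_option autoImplicit false
set_option linter.unusedSectionVars false
set_option linter.unusedVariables false
set_option linter.style.haveILetI false

namespace Cfsg.Agent.Lib.Zass.Classif

open Cfsg MulAction
open Cfsg.Agent.Lib.Zass.Basic Cfsg.Agent.Lib.Zass.Stab Cfsg.Agent.Lib.Zass.Infl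
  Cfsg.Agent.Lib.Zass.Sharp3 Cfsg.Agent.Lib.Zass.Root

/-- In characteristic two `PSL(2,K)` and `PGL(2,K)` coincide. -/
theorem pgl_equiv_psl {K : Type*} [Field K] [Fintype K] (h : ringChar K = 2) :
    Nonempty (Matrix.ProjGenLinGroup (Fin 2) K ≃* Matrix.ProjectiveSpecialLinearGroup (Fin 2) K) := by
  refine ⟨(MulEquiv.ofBijective Matrix.ProjectiveSpecialLinearGroup.toPGL
    ⟨Matrix.ProjectiveSpecialLinearGroup.toPGL_injective,
      Matrix.ProjectiveSpecialLinearGroup.toPGL_surj_of_roots ?_⟩).symm⟩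
  intro r
  obtain ⟨k, hk⟩ := FiniteField.isSquare_of_char_two h (r : K)
  have hk0 : k ≠ 0 := by
    rintro rfl
    rw [mul_zero] at hk
    exact r.ne_zero hk
  refine ⟨Units.mk0 k hk0, ?_⟩
  ext
  simp [pow_two, hk]

/-- The case of a sharply triply transitive simple group. -/
theorem sharp3_case {G Ω : Type*} [Group G] [Finite G] [MulAction G Ω] [Fintype Ω]
    (hZ : IsZassenhausGroup G Ω) {a b : Ω} (hab : a ≠ b)
    (hd : Nat.card (E (G := G) a b) + 2 = Fintype.card Ω) (hodd : Odd (Nat.card (E (G := G) a b))) :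
    ∃ (K : Type) (_ : Field K) (_ : Fintype K),
      Nonempty (G ≃* Matrix.ProjectiveSpecialLinearGroup (Fin 2) K) := by
  classical
  haveI := Fintype.ofFinite G
  obtain ⟨h3, -⟩ := Cfsg.Agent.Lib.Zass.AbFinal.sharp3_of_eq hZ hab hd
  have S : Sharp3 G Ω := by
    refine ⟨?_, hZ.2.2.1⟩
    intro x y z x' y' z' hxy hyz hxz hxy' hyz' hxz'
    let t : Fin 3 ↪ Ω := ⟨![x, y, z], by
      intro i j hij
      fin_cases i <;> fin_cases j <;> simp_all⟩
    let t' : Fin 3 ↪ Ω := ⟨![x', y', z'], by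
      intro i j hij
      fin_cases i <;> fin_cases j <;> simp_all⟩
    obtain ⟨g, hg⟩ := h3.exists_smul_eq t t'
    refine ⟨g, ?_, ?_, ?_⟩
    · exact congrArg (fun w : Fin 3 ↪ Ω => w 0) hg
    · exact congrArg (fun w : Fin 3 ↪ Ω => w 1) hg
    · exact congrArg (fun w : Fin 3 ↪ Ω => w 2) hg
  have faith : ∀ g g' : G, (∀ y : Ω, g • y = g' • y) → g = g' := by
    intro g g' h
    have := hZ.1
    exact FaithfulSMul.eq_of_smul_eq_smul h
  obtain ⟨c, hca, hcb⟩ := exists_third hZ a b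
  obtain ⟨A, iA, iF, R, p, j, hR1, hR2, hp, hj, hcard, hcA, hexp⟩ :=
    S.exists_rootData faith (inf := a) (o := b) (c := c) (Ne.symm hab) hca (Ne.symm hcb)
  have hj0 : j ≠ 0 := by omega
  have heven : Even (p ^ j) := by
    obtain ⟨k, hk⟩ := hodd
    exact ⟨k + 1, by omega⟩
  have hp2 : p = 2 := by
    have h2 : 2 ∣ p ^ j := heven.two_dvd
    exact ((Nat.prime_dvd_prime_iff_eq Nat.prime_two hp).mp (Nat.prime_two.dvd_of_dvd_pow h2)).symm
  subst hp2
  have hneg : ∀ x : A, -x = x := by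
    intro x
    have := hexp x
    rw [two_nsmul] at this
    exact neg_eq_of_add_eq_zero_left this
  have hnt : Nontrivial A := by
    apply Finite.one_lt_card_iff_nontrivial.mp
    rw [hcA]
    exact Nat.one_lt_pow hj0 (by norm_num)
  obtain ⟨x, hx⟩ := exists_ne (0 : A)
  obtain ⟨K, i1, i2, hK, ⟨φ⟩⟩ := Cfsg.Agent.Lib.Zass.PrimeDeg.main_two S R hneg hx
  have hchar : ringChar K = 2 := by
    apply FiniteField.even_card_iff_char_two.mpr
    rw [hK, hcA]
    exact Nat.even_iff.mp (Nat.even_pow.mpr ⟨even_two, hj0⟩)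
  obtain ⟨ψ⟩ := pgl_equiv_psl hchar
  exact ⟨K, i1, i2, ⟨φ.trans ψ⟩⟩

/-- **Classification of simple Zassenhaus groups, up to the non-abelian `2`-group case.** -/
theorem main {G Ω : Type*} [Group G] [Finite G] [MulAction G Ω] [Fintype Ω]
    (hZ : IsZassenhausGroup G Ω) [IsSimpleGroup G] :
    (∃ (F : Type) (_ : Field F) (_ : Fintype F),
        Nonempty (G ≃* Matrix.ProjectiveSpecialLinearGroup (Fin 2) F)) ∨
      ∃ (x : Ω) (U : Subgroup G), U ≤ stabilizer G x ∧ (U.subgroupOf (stabilizer G x)).Normal ∧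
        IsPGroup 2 U ∧ (∃ u v : U, u * v ≠ v * u) ∧
        ∀ y z : Ω, y ≠ x → z ≠ x → ∃! u : U, (u : G) • y = z := by
  classical
  haveI := Fintype.ofFinite G
  obtain ⟨a, b, hab⟩ : ∃ a b : Ω, a ≠ b := by
    obtain ⟨-, -, -, ⟨g, -, c, d, hcd, -, -⟩, -⟩ := hZ
    exact ⟨c, d, hcd⟩
  have D := Cfsg.Agent.Lib.Zass.AbFinal.data_kernelAt hZ hab
  set H := kernelAt (G := G) a b with hH
  have hHle : H ≤ stabilizer G a := D.hHa
  have hHn : (H.subgroupOf (stabilizer G a)).Normal := Cfsg.Agent.Lib.Zass.AbKernel.normal_sub D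
  have hHreg : ∀ y z : Ω, y ≠ a → z ≠ a → ∃! u : H, (u : G) • y = z :=
    fun y z hy hz => kernelAt_regular hZ hab hy hz
  rcases Nat.even_or_odd (Nat.card (E (G := G) a b)) with he | he
  · left
    obtain ⟨F, i1, i2, -, h⟩ := Cfsg.Agent.S0344.result hZ hab he
    exact ⟨F, i1, i2, h⟩
  have hC := Cfsg.Agent.Lib.Zass.Inv.Ctx.of_simple hZ hab he
  rcases Cfsg.Agent.Lib.Zass.FeitMain.main D he with h1 | ⟨h1, h2, -⟩
  · left
    have hcard := D.hHcard
    have hle : Fintype.card Ω - 2 ≤ 2 * Nat.card (E (G := G) a b) := by omega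
    obtain ⟨hcomm, -⟩ := Cfsg.Agent.S0738.result hZ hab hle H hHle hHn hHreg
    have hcomm' : ∀ x ∈ H, ∀ y ∈ H, x * y = y * x := by
      intro x hx y hy
      exact congrArg Subtype.val (hcomm.is_comm.comm ⟨x, hx⟩ ⟨y, hy⟩)
    have hFn' : ∀ g : G, g • a = a → ∀ u ∈ H, g * u * g⁻¹ ∈ H :=
      fun g hg u hu => Cfsg.Agent.Lib.Zass.Infl.conj_mem D hg hu
    obtain ⟨R, hR⟩ := Cfsg.Agent.Lib.Zass.NoSharp.card_E_dvd hZ hab
    have hd0 : 0 < Nat.card (E (G := G) a b) := Nat.card_pos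
    have hΩ3 : 3 ≤ Fintype.card Ω := by
      obtain ⟨c, hca, hcb⟩ := exists_third hZ a b
      have : ({a, b, c} : Finset Ω).card = 3 := by
        rw [Finset.card_eq_three]
        exact ⟨a, b, c, hab, Ne.symm hca, Ne.symm hcb, rfl⟩
      rw [← this]
      exact Finset.card_le_univ _
    have hR2 : R ≤ 2 := by
      by_contra hcon
      push Not at hcon
      have : Nat.card (E (G := G) a b) * 3 ≤ Nat.card (E (G := G) a b) * R :=
        Nat.mul_le_mul_left _ hcon
      omega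
    have hR0 : R ≠ 0 := by
      rintro rfl
      omega
    by_cases hR1 : R = 1
    · subst hR1
      exact sharp3_case hZ hab (by omega) he
    have hR22 : R = 2 := by omega
    subst hR22
    have hsw : ∀ s : G, s • a = b → s • b = a → s * s = 1 := by
      intro s h1 h2
      obtain ⟨s₀, hs₀, hs₀a, hs₀b⟩ := Cfsg.Agent.Lib.Zass.Inv.exists_swap hC hab
      have hmem : s₀⁻¹ * s ∈ E (G := G) a b := by
        constructor
        · show (s₀⁻¹ * s) • a = a
          rw [mul_smul, h1, inv_smul_eq_iff, hs₀a]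
        · show (s₀⁻¹ * s) • b = b
          rw [mul_smul, h2, inv_smul_eq_iff, hs₀b]
      have h3 := (Cfsg.Agent.Lib.Zass.Inv.invol_mul_mem hC hab hs₀ hs₀a hmem).1
      have h4 : s₀ * (s₀⁻¹ * s) = s := by group
      rw [h4] at h3
      exact Cfsg.Agent.Lib.Zass.Inv.invol_mul_self h3
    have hd2 : 2 * Nat.card (E (G := G) a b) + 2 = Fintype.card Ω := by omega
    obtain ⟨K, i1, i2, -, -, h3⟩ := Cfsg.Agent.Lib.Zass.RootPSL.psl_odd hZ hab H hcomm' hHle hFn'
      (fun y hy => hHreg b y (Ne.symm hab) hy) he hd2 hsw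
    exact ⟨K, i1, i2, h3⟩
  · right
    exact ⟨a, H, hHle, hHn, h1, h2, hHreg⟩

end Cfsg.Agent.Lib.Zass.Classif
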