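import Cfsg.Agent.Lib.Zass.InvCount

/-!
# The involutions of a point stabiliser are central in its Frobenius kernel; classes avoiding the kernel
-/

set_option autoImplicit false
set_option linter.unusedSectionVars false
set_option linter.style.haveILetI false

namespace Cfsg.Agent.Lib.Zass.InvCentral

open Cfsg MulAction
open Cfsg.Agent.Lib.Zass.Basic Cfsg.Agent.Lib.Zass.Stab Cfsg.Agent.Lib.Zass.Inv
  Cfsg.Agent.Lib.Zass.InvCount Cfsg.Agent.Lib.CharDeep.Zassenhaus
open Finset
open scoped Classical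

variable {G Ω : Type*} [Group G] [MulAction G Ω] [Fintype G] [Fintype Ω]

theorem pretrans (hZ : IsZassenhausGroup G Ω) : IsPretransitive G Ω := ⟨exists_smul hZ⟩

/-- Order of the point stabiliser. -/
theorem card_stabilizer (hZ : IsZassenhausGroup G Ω) {a b : Ω} (hab : a ≠ b) :
    Nat.card (stabilizer G a) = (Fintype.card Ω - 1) * Nat.card (E (G := G) a b) := by
  have := pretrans (G := G) hZ
  have h1 := MulAction.index_stabilizer_of_transitive G a
  have h2 := Subgroup.card_mul_index (stabilizer G a)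
  rw [h1, card_G hZ hab, Nat.card_eq_fintype_card (α := Ω), mul_comm, mul_assoc] at h2
  exact Nat.eq_of_mul_eq_mul_left (Fintype.card_pos_iff.2 ⟨a⟩) h2

/-- The two-point stabiliser and the Frobenius kernel have coprime orders. -/
theorem coprime_h_e (hZ : IsZassenhausGroup G Ω) {a b : Ω} (hab : a ≠ b) :
    (Fintype.card Ω - 1).Coprime (Nat.card (E (G := G) a b)) := by
  have hH := isFrobeniusComplement_compl hZ hab
  have h1 := Cfsg.Agent.Lib.Frobenius.Conjugacy.coprime_index_card hH
  have h2 : Nat.card (compl (G := G) a b) = Nat.card (E (G := G) a b) :=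
    Nat.card_congr
      { toFun := fun x => ⟨x.1.1, x.1.2, mem_compl.1 x.2⟩
        invFun := fun x => ⟨⟨x.1, x.2.1⟩, mem_compl.2 x.2.2⟩
        left_inv := fun x => rfl
        right_inv := fun x => rfl }
  have h3 := Subgroup.card_mul_index (compl (G := G) a b)
  rw [h2, card_stabilizer hZ hab, mul_comm] at h3
  have h4 : 0 < Nat.card (E (G := G) a b) := Nat.card_pos
  have h5 := Nat.eq_of_mul_eq_mul_right h4 h3
  rw [h2, h5] at h1
  exact h1

variable (hC : Ctx G Ω)
include hC

/-- The action of the point stabiliser on its involutions. -/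
theorem invol_trans {a b : Ω} (hab : a ≠ b) {t t' : G} (ht : orderOf t = 2) (hta : t • a = a)
    (ht' : orderOf t' = 2) (hta' : t' • a = a) : ∃ x ∈ E (G := G) a b, x * t * x⁻¹ = t' := by
  let X := {s : G // orderOf s = 2 ∧ s • a = a}
  have hmem : ∀ x ∈ E (G := G) a b, orderOf (x * t * x⁻¹) = 2 ∧ (x * t * x⁻¹) • a = a := by
    intro x hx
    have hxa : x • a = a := hx.1
    have hxa' : x⁻¹ • a = a := by rw [inv_smul_eq_iff, hxa]
    refine ⟨?_, ?_⟩
    · rw [← ht]; exact (MulAut.conj x).orderOf_eq t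
    · rw [mul_smul, mul_smul, hxa', hta, hxa]
  let φ : E (G := G) a b → X := fun x => ⟨x * t * (x : G)⁻¹, hmem x x.2⟩
  have hinj : Function.Injective φ := by
    intro x y hxy
    have h1 : (x : G) * t * (x : G)⁻¹ = y * t * (y : G)⁻¹ := congrArg Subtype.val hxy
    by_contra hne
    set z : G := (y : G)⁻¹ * x with hz
    have hz1 : z ≠ 1 := by
      intro h
      apply hne
      apply Subtype.ext
      exact (inv_mul_eq_one.mp h).symm
    have hzE : z ∈ E (G := G) a b := (E a b).mul_mem ((E a b).inv_mem y.2) x.2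
    have hcomm : z * t = t * z := by
      calc z * t = (y : G)⁻¹ * ((x : G) * t * (x : G)⁻¹) * x := by rw [hz]; group
        _ = (y : G)⁻¹ * ((y : G) * t * (y : G)⁻¹) * x := by rw [h1]
        _ = t * z := by rw [hz]; group
    have hfix : z • (t • b) = t • b := by
      rw [← mul_smul, hcomm, mul_smul, hzE.2]
    rcases fix_eq hC.hZ hab hzE hz1 hfix with h2 | h2
    · apply hab
      have : t • b = t • a := by rw [h2, hta]
      exact (smul_left_cancel _ this).symm
    · exact not_invol_of_mem_E hC hab ⟨hta, h2⟩ ht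
  have hodd : Odd (Fintype.card Ω) := by
    rw [← Nat.not_even_iff_odd]
    exact fun h => no_fix_of_even hC h ht a hta
  have hcard : Nat.card (E (G := G) a b) = Nat.card X := by
    rw [← card_fib_self_of_odd hC hodd hab, ← card_filter_eq]
    congr 1
    ext s
    simp [mem_fib]
  have hb := (Nat.bijective_iff_injective_and_card φ).2 ⟨hinj, hcard⟩
  obtain ⟨x, hx⟩ := hb.2 ⟨t', ht', hta'⟩
  exact ⟨x, x.2, congrArg Subtype.val hx⟩

/-- An involution fixing `a` is centralised by the Frobenius kernel. -/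
theorem central_in_kernel {a : Ω} {H : Subgroup G} (hHa : H ≤ stabilizer G a)
    (hHcard : Nat.card H + 1 = Fintype.card Ω)
    (hHfix : ∀ u ∈ H, u ≠ 1 → ∀ c : Ω, u • c = c → c = a) {t u : G} (ht : orderOf t = 2)
    (hta : t • a = a) (hu : u ∈ H) : u * t * u⁻¹ = t := by
  obtain ⟨b, hb, -⟩ := exists_third hC.hZ a a
  have hab : a ≠ b := Ne.symm hb
  let X := {s : G // orderOf s = 2 ∧ s • a = a}
  let N := stabilizer G a
  have hmem : ∀ (g : N) (s : X), orderOf ((g : G) * s.1 * (g : G)⁻¹) = 2 ∧
      ((g : G) * s.1 * (g : G)⁻¹) • a = a := by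
    intro g s
    have hga : (g : G) • a = a := g.2
    have hga' : (g : G)⁻¹ • a = a := by rw [inv_smul_eq_iff, hga]
    refine ⟨?_, ?_⟩
    · exact ((MulAut.conj (g : G)).orderOf_eq s.1).trans s.2.1
    · rw [mul_smul, mul_smul, hga', s.2.2, hga]
  letI act : MulAction N X :=
    { smul := fun g s => ⟨(g : G) * s.1 * (g : G)⁻¹, hmem g s⟩
      one_smul := fun s => by
        apply Subtype.ext
        show ((1 : N) : G) * s.1 * ((1 : N) : G)⁻¹ = s.1
        simp
      mul_smul := fun g g' s => by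
        apply Subtype.ext
        show ((g * g' : N) : G) * s.1 * ((g * g' : N) : G)⁻¹ =
          (g : G) * ((g' : G) * s.1 * (g' : G)⁻¹) * (g : G)⁻¹
        simp only [Subgroup.coe_mul, mul_inv_rev]
        group }
  have hsmul : ∀ (g : N) (s : X), ((g • s : X) : G) = (g : G) * s.1 * (g : G)⁻¹ := fun _ _ => rfl
  haveI : IsPretransitive N X := by
    refine ⟨fun s s' => ?_⟩
    obtain ⟨x, hx, hxs⟩ := invol_trans hC hab s.2.1 s.2.2 s'.2.1 s'.2.2
    exact ⟨⟨x, hx.1⟩, Subtype.ext hxs⟩
  let Hn : Subgroup N := H.subgroupOf N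
  haveI hHn : Hn.Normal := by
    refine ⟨fun n hn g => ?_⟩
    rw [Subgroup.mem_subgroupOf] at hn ⊢
    exact conj_mem_of_stabilizer hC.hZ.2.2.1 hHcard hHfix hHa g.2 hn
  let x₀ : X := ⟨t, ht, hta⟩
  have hB : IsBlock N (orbit Hn x₀) := IsBlock.orbit_of_normal x₀
  have hne : (orbit Hn x₀).Nonempty := ⟨x₀, mem_orbit_self x₀⟩
  have h1 := hB.ncard_dvd_card hne
  have h2 : (orbit Hn x₀).ncard ∣ Nat.card Hn := by
    rw [← MulAction.index_stabilizer]
    exact Subgroup.index_dvd_card _
  have hodd : Odd (Fintype.card Ω) := by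
    rw [← Nat.not_even_iff_odd]
    exact fun h => no_fix_of_even hC h ht a hta
  have h3 : Nat.card X = Nat.card (E (G := G) a b) := by
    rw [← card_fib_self_of_odd hC hodd hab, ← card_filter_eq]
    congr 1
    ext s
    simp [mem_fib]
  have h4 : Nat.card Hn = Fintype.card Ω - 1 := by
    have : Nat.card Hn = Nat.card H := by
      apply Nat.card_congr
      exact Subgroup.subgroupOfEquivOfLe hHa |>.toEquiv
    omega
  rw [h3] at h1
  rw [h4] at h2
  have h5 := Nat.eq_one_of_dvd_coprimes (coprime_h_e hC.hZ hab) h2 h1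
  obtain ⟨s, hs⟩ := Set.ncard_eq_one.1 h5
  have h6 : x₀ ∈ orbit Hn x₀ := mem_orbit_self x₀
  let u' : Hn := ⟨⟨u, hHa hu⟩, by
    rw [Subgroup.mem_subgroupOf]
    exact hu⟩
  have h7 : u' • x₀ ∈ orbit Hn x₀ := mem_orbit _ _
  rw [hs] at h6 h7
  rw [Set.mem_singleton_iff] at h6 h7
  have h8 : u' • x₀ = x₀ := h7.trans h6.symm
  exact congrArg Subtype.val h8

/-- A product of two involutions in the Frobenius kernel of a point stabiliser is an involution. -/
theorem orderOf_product {a : Ω} {H : Subgroup G} (hHa : H ≤ stabilizer G a)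
    (hHcard : Nat.card H + 1 = Fintype.card Ω)
    (hHfix : ∀ u ∈ H, u ≠ 1 → ∀ c : Ω, u • c = c → c = a) {u : G} (hu : u ∈ H) (hu1 : u ≠ 1)
    {x y : G} (hx : orderOf x = 2) (hy : orderOf y = 2) (hxy : x * y = u) : orderOf u = 2 := by
  have h1 := invert_product hx hy
  rw [hxy] at h1
  have hua : u • a = a := hHa hu
  have h2 : u⁻¹ • (x • a) = x • a := by
    rw [← h1, mul_smul, mul_smul, inv_smul_smul, hua]
  have h3 : u • (x • a) = x • a := by
    rw [inv_smul_eq_iff] at h2
    exact h2.symm
  have hxa : x • a = a := hHfix u hu hu1 _ h3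
  have hya : y • a = a := by
    have : y = x * u := by rw [← hxy, ← mul_assoc, invol_mul_self hx, one_mul]
    rw [this, mul_smul, hua, hxa]
  have hxH : x ∈ H := mem_of_fix_only hC.hZ.2.2.1 hHcard hHfix hHa hxa
    (fun c hc => fix_unique hC hx hc hxa)
  have h4 := central_in_kernel hC hHa hHcard hHfix hy hya hxH
  apply orderOf_eq_two_of hu1
  rw [invol_inv hx] at h4
  rw [← hxy]
  calc x * y * (x * y) = (x * y * x) * y := by group
    _ = 1 := by rw [h4, invol_mul_self hy]

/-- Classes of nontrivial elements of the two-point stabiliser. -/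
noncomputable def eClasses (a b : Ω) : Finset (ConjClasses G) :=
  (univ.filter (fun x : G => x ∈ E (G := G) a b ∧ x ≠ 1)).image ConjClasses.mk

omit hC in
theorem card_filter_E (a b : Ω) :
    (univ.filter (fun x : G => x ∈ E (G := G) a b ∧ x ≠ 1)).card + 1 = Nat.card (E (G := G) a b) := by
  have h1 : (univ.filter (fun x : G => x ∈ E (G := G) a b)).card = Nat.card (E (G := G) a b) := by
    rw [card_filter_eq]
  rw [← h1]
  have h2 : univ.filter (fun x : G => x ∈ E (G := G) a b) =
      insert 1 (univ.filter (fun x : G => x ∈ E (G := G) a b ∧ x ≠ 1)) := by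
    ext x
    simp only [mem_filter, mem_univ, true_and, mem_insert]
    by_cases hx : x = 1
    · simp [hx, (E (G := G) a b).one_mem]
    · simp [hx]
  rw [h2, Finset.card_insert_of_notMem]
  simp

theorem card_eClasses {a b : Ω} (hab : a ≠ b) :
    Nat.card (E (G := G) a b) ≤ 1 + 2 * (eClasses (G := G) a b).card := by
  have h1 := Finset.card_le_mul_card_image (f := ConjClasses.mk)
    (univ.filter (fun x : G => x ∈ E (G := G) a b ∧ x ≠ 1)) 2 (by
      intro C hCC
      obtain ⟨x, hx, rfl⟩ := Finset.mem_image.1 hCC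
      rw [mem_filter] at hx
      obtain ⟨-, hxE, hx1⟩ := hx
      refine (card_le_card (t := {x, x⁻¹}) ?_).trans Finset.card_le_two
      intro y hy
      rw [mem_filter, mem_filter] at hy
      obtain ⟨⟨-, hyE, hy1⟩, hyx⟩ := hy
      obtain ⟨g, hg⟩ := isConj_iff.1 (ConjClasses.mk_eq_mk_iff_isConj.1 hyx).symm
      have h2 := conj_E hC.hZ hab hxE hx1 (by rw [hg]; exact hyE)
      simp only [mem_insert, mem_singleton]
      rcases h2 with ⟨h3, h4⟩ | ⟨h3, h4⟩
      · left
        rw [← hg]
        have hgE : g ∈ E (G := G) a b := ⟨h3, h4⟩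
        rw [OddStab.comm_of_cyclic (hC.cyc hab) hgE hxE]
        group
      · right
        rw [← hg]
        exact hC.inv hab g h3 h4 x hxE)
  have h2 := card_filter_E (G := G) a b
  simp only [eClasses]
  omega

end Cfsg.Agent.Lib.Zass.InvCentral
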