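import Mathlib
import Cfsg.Agent.Lib.FPF.Basic
import Cfsg.Agent.Lib.PGroups.NormalRankTwo

/-!
# Fields from regular actions

* `isCyclic_of_isPGroup_fpf`, `isZGroup_of_fpf`: odd fixed-point-free groups are Z-groups.
* `exists_field`: a commutative group transitive on the non-zero vectors of a finite abelian group
  by additive maps generates a field in the endomorphism ring, of the same size.
* `prime_of_ringEquiv`: a field automorphism with the property that all its non-trivial powers fix
  only `0, 1` forces the degree of the field over `𝔽₂` to be prime.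
-/

set_option autoImplicit false
set_option linter.style.haveILetI false
set_option linter.unusedSectionVars false

namespace Cfsg.Agent.Lib.Zass.RegField

open Cfsg.Agent.Lib.FPF.Basic

universe u

section FPF

variable {A W : Type*} [Group A] [AddCommGroup W] {φ : A →* AddMonoid.End W}

theorem isFPF_restrict (h : IsFPF φ) (B : Subgroup A) : IsFPF (φ.comp B.subtype) := by
  intro a ha w hw
  exact h (a : A) (fun h1 => ha (Subtype.ext h1)) w hw

/-- Odd `p`-groups acting fixed-point-freely are cyclic. -/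
theorem isCyclic_of_isPGroup_fpf [Finite A] [Finite W] [Nontrivial W] (h : IsFPF φ) {p : ℕ}
    [hp : Fact p.Prime] (hp2 : p ≠ 2) (hA : IsPGroup p A) : IsCyclic A := by
  by_contra hnc
  obtain ⟨B, _, hBe, hB⟩ := Cfsg.Agent.Lib.PGroups.NormalRankTwo.exists_normal_card_sq hp2 hA hnc
  have hcyc : IsCyclic B := isCyclic_of_card_mul (isFPF_restrict h B) hp.out hp.out
    (by rw [hB, pow_two])
  obtain ⟨g, hg⟩ := hcyc.exists_generator
  have h1 : orderOf g = Nat.card B := orderOf_eq_card_of_forall_mem_zpowers hg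
  rw [hB] at h1
  have h2 : g ^ p = 1 := by
    apply Subtype.ext
    have := hBe g g.2
    simpa using this
  have h3 : orderOf g ∣ p := orderOf_dvd_of_pow_eq_one h2
  rw [h1] at h3
  have h4 := Nat.le_of_dvd hp.out.pos h3
  have := hp.out.two_le
  nlinarith

/-- Odd groups acting fixed-point-freely are Z-groups. -/
theorem isZGroup_of_fpf [Finite A] [Finite W] [Nontrivial W] (h : IsFPF φ)
    (hodd : Odd (Nat.card A)) : IsZGroup A := by
  refine ⟨fun p hpp P => ?_⟩
  haveI := Fact.mk hpp
  by_cases hp2 : p = 2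
  · subst hp2
    have h1 : Nat.card (P : Subgroup A) ∣ Nat.card A := Subgroup.card_subgroup_dvd_card _
    obtain ⟨n, hn⟩ := IsPGroup.iff_card.1 P.isPGroup'
    rw [hn] at h1
    have h2 : n = 0 := by
      by_contra hn0
      have : 2 ∣ Nat.card A := (dvd_pow_self 2 hn0).trans h1
      exact (Nat.not_even_iff_odd.2 hodd) (even_iff_two_dvd.2 this)
    rw [h2, pow_zero] at hn
    have : Subsingleton (P : Subgroup A) := (Nat.card_eq_one_iff_unique.1 hn).1
    exact isCyclic_of_subsingleton
  · exact isCyclic_of_isPGroup_fpf (isFPF_restrict h (P : Subgroup A)) hp2 P.isPGroup'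

end FPF

section Field

variable {K W : Type u} [Group K] [AddCommGroup W]

/-- A commutative group transitive on the non-zero vectors of a finite abelian group generates a
field of endomorphisms, which is all of the image together with `0`. -/
theorem exists_field [Finite W] (φ : K →* AddMonoid.End W)
    (hcomm : ∀ x y : K, x * y = y * x) {w₀ : W} (hw₀ : w₀ ≠ 0)
    (hreg : ∀ w, w ≠ 0 → ∃ x : K, φ x w₀ = w) :
    ∃ (L : Type u) (_ : Field L) (_ : Fintype L) (ι : L →+* AddMonoid.End W),
      Function.Bijective (fun l => ι l w₀) ∧ (∀ x : K, ∃ l, ι l = φ x) ∧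
        ∀ l, l ≠ 0 → ∃ x, ι l = φ x := by
  classical
  let S0 : Set (AddMonoid.End W) := Set.range φ
  have hS : ∀ x ∈ S0, ∀ y ∈ S0, x * y = y * x := by
    rintro _ ⟨a, rfl⟩ _ ⟨b, rfl⟩
    rw [← map_mul, hcomm, map_mul]
  letI R : CommRing (Subring.closure S0) := Subring.closureCommRingOfComm hS
  have hE : Finite (AddMonoid.End W) := by
    have : Function.Injective (fun f : AddMonoid.End W => (f : W → W)) := DFunLike.coe_injective
    exact Finite.of_injective _ this
  let emb : K → Subring.closure S0 := fun x => ⟨φ x, Subring.subset_closure ⟨x, rfl⟩⟩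
  have hc : ∀ (l : Subring.closure S0) (x : K), ((l : AddMonoid.End W)) * φ x = φ x * l := by
    intro l x
    have := mul_comm l (emb x)
    exact congrArg Subtype.val this
  have hev0 : ∀ l : Subring.closure S0, (l : AddMonoid.End W) w₀ = 0 → l = 0 := by
    intro l hl
    apply Subtype.ext
    ext w
    by_cases hw : w = 0
    · rw [hw]; simp
    · obtain ⟨x, rfl⟩ := hreg w hw
      have h1 := DFunLike.congr_fun (hc l x) w₀
      have h2 : (l : AddMonoid.End W) (φ x w₀) = φ x ((l : AddMonoid.End W) w₀) := h1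
      rw [h2, hl]
      simp
  have hunit : ∀ l : Subring.closure S0, l ≠ 0 → ∃ x, l = emb x := by
    intro l hl
    have h1 : (l : AddMonoid.End W) w₀ ≠ 0 := fun h => hl (hev0 l h)
    obtain ⟨x, hx⟩ := hreg _ h1
    refine ⟨x, ?_⟩
    have h2 : l - emb x = 0 := by
      apply hev0
      change (l : AddMonoid.End W) w₀ - φ x w₀ = 0
      rw [hx, sub_self]
    exact sub_eq_zero.1 h2
  have hF : IsField (Subring.closure S0) := by
    refine ⟨?_, mul_comm, ?_⟩
    · refine ⟨0, 1, ?_⟩
      intro h
      have h1 : (((0 : Subring.closure S0) : AddMonoid.End W)) w₀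
          = ((1 : Subring.closure S0) : AddMonoid.End W) w₀ := by rw [h]
      exact hw₀ h1.symm
    · intro l hl
      obtain ⟨x, rfl⟩ := hunit l hl
      refine ⟨emb x⁻¹, ?_⟩
      apply Subtype.ext
      change φ x * φ x⁻¹ = 1
      rw [← map_mul, mul_inv_cancel, map_one]
  letI F : Field (Subring.closure S0) := hF.toField
  letI : Fintype (Subring.closure S0) := Fintype.ofFinite _
  refine ⟨Subring.closure S0, F, inferInstance,
    { toFun := Subtype.val
      map_one' := rfl
      map_mul' := fun _ _ => rfl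
      map_zero' := rfl
      map_add' := fun _ _ => rfl }, ⟨?_, ?_⟩, ?_, ?_⟩
  · intro l l' hll
    have h1 : l - l' = 0 := by
      apply hev0
      have h2 : (l : AddMonoid.End W) w₀ = (l' : AddMonoid.End W) w₀ := hll
      change (l : AddMonoid.End W) w₀ - (l' : AddMonoid.End W) w₀ = 0
      rw [h2, sub_self]
    exact sub_eq_zero.1 h1
  · intro w
    by_cases hw : w = 0
    · refine ⟨0, ?_⟩
      rw [hw]
      rfl
    · obtain ⟨x, hx⟩ := hreg w hw
      exact ⟨emb x, hx⟩
  · intro x
    exact ⟨emb x, rfl⟩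
  · intro l hl
    obtain ⟨x, hx⟩ := hunit l hl
    exact ⟨x, congrArg Subtype.val hx⟩

end Field

section Aut

variable {L : Type*} [Field L] [Fintype L]

/-- In a field of size `2 ^ k`, for a divisor `d ≥ 2` of `k` some element other than `0, 1`
satisfies `l ^ 2 ^ d = l`. -/
theorem exists_fixed_of_dvd {k d : ℕ} (hcard : Fintype.card L = 2 ^ k) (hk : 0 < k) (hd : d ∣ k)
    (hd2 : 2 ≤ d) : ∃ l : L, l ≠ 0 ∧ l ≠ 1 ∧ l ^ 2 ^ d = l := by
  classical
  obtain ⟨g, hg⟩ := IsCyclic.exists_generator (α := Lˣ)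
  have hog : orderOf g = 2 ^ k - 1 := by
    rw [orderOf_eq_card_of_forall_mem_zpowers hg, Nat.card_eq_fintype_card, Fintype.card_units,
      hcard]
  have hdd : 2 ^ d - 1 ∣ 2 ^ k - 1 := by
    obtain ⟨t, rfl⟩ := hd
    rw [pow_mul]
    simpa using Nat.sub_dvd_pow_sub_pow (2 ^ d) 1 t
  obtain ⟨t, ht⟩ := hdd
  have h2d : 4 ≤ 2 ^ d := by
    calc 4 = 2 ^ 2 := by norm_num
      _ ≤ 2 ^ d := Nat.pow_le_pow_right (by norm_num) hd2
  have hpos : 0 < 2 ^ k - 1 := by
    have : 2 ≤ 2 ^ k := by
      calc 2 = 2 ^ 1 := by norm_num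
        _ ≤ 2 ^ k := Nat.pow_le_pow_right (by norm_num) hk
    omega
  have ht0 : 0 < t := by
    rcases Nat.eq_zero_or_pos t with h | h
    · rw [h, mul_zero] at ht; omega
    · exact h
  have hord : orderOf (g ^ t) = 2 ^ d - 1 := by
    rw [orderOf_pow_of_dvd (Nat.ne_of_gt ht0) ⟨2 ^ d - 1, by rw [hog, ht, mul_comm]⟩, hog, ht]
    exact Nat.mul_div_cancel _ ht0
  refine ⟨((g ^ t : Lˣ) : L), Units.ne_zero _, ?_, ?_⟩
  · intro h1
    have h2 : g ^ t = 1 := Units.ext h1
    rw [h2, orderOf_one] at hord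
    omega
  · have h1 : (g ^ t) ^ (2 ^ d - 1) = 1 := by rw [← hord, pow_orderOf_eq_one]
    have h2 : (g ^ t) ^ (2 ^ d) = g ^ t := by
      have : 2 ^ d = (2 ^ d - 1) + 1 := by omega
      rw [this, pow_succ, h1, one_mul]
    have h3 := congrArg (Units.val) h2
    simpa using h3

theorem charP_two_of_card {k : ℕ} (hcard : Fintype.card L = 2 ^ k) (hk : 0 < k) : CharP L 2 := by
  obtain ⟨p, hp⟩ := CharP.exists L
  obtain ⟨n, hpp, hn⟩ := FiniteField.card L p
  haveI := Fact.mk hpp
  have h1 : p ∣ 2 ^ k := by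
    rw [← hcard, hn]
    exact dvd_pow_self p (PNat.ne_zero n)
  have h2 : p = 2 := (Nat.prime_dvd_prime_iff_eq hpp Nat.prime_two).1 (hpp.dvd_of_dvd_pow h1)
  rwa [h2] at hp

/-- A ring automorphism of a field of size `2 ^ k` is a power of Frobenius. -/
theorem exists_pow_of_ringEquiv {k : ℕ} (hcard : Fintype.card L = 2 ^ k) (_hk : 0 < k)
    (σ : L ≃+* L) : ∃ i : ℕ, ∀ x, σ x = x ^ 2 ^ i := by
  haveI := charP_two_of_card hcard _hk
  haveI : Fact (Nat.Prime 2) := ⟨Nat.prime_two⟩
  letI : Algebra (ZMod 2) L := ZMod.algebra L 2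
  let g : L ≃ₐ[ZMod 2] L := AlgEquiv.ofRingEquiv (f := σ) (by
    intro r
    have : (σ : L →+* L).comp (algebraMap (ZMod 2) L) = algebraMap (ZMod 2) L :=
      Subsingleton.elim _ _
    exact DFunLike.congr_fun this r)
  obtain ⟨i, hi⟩ := FiniteField.exists_forall_apply_eq_pow (ZMod 2) 2 L g
  refine ⟨i, fun x => ?_⟩
  have := hi x
  rw [Nat.card_zmod] at this
  exact this

theorem pow_iter {i : ℕ} {σ : L ≃+* L} (hi : ∀ x, σ x = x ^ 2 ^ i) (s : ℕ) (x : L) :
    (σ ^ s) x = x ^ 2 ^ (i * s) := by
  induction s generalizing x with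
  | zero => simp
  | succ s ih =>
    have h1 : (σ ^ (s + 1)) x = (σ ^ s) (σ x) := by
      rw [pow_succ]
      rfl
    rw [h1, hi, ih, ← pow_mul, ← pow_add]
    congr 2
    ring

/-- A field automorphism `σ ≠ 1` such that every power of `σ` is trivial or has only the fixed
points `0, 1`: the degree is prime. -/
theorem prime_of_ringEquiv {k : ℕ} (hk : 2 ≤ k) (hcard : Fintype.card L = 2 ^ k) (σ : L ≃+* L)
    (h1 : ∃ l, σ l ≠ l)
    (h2 : ∀ s : ℕ, (∃ l, l ≠ 0 ∧ l ≠ 1 ∧ (σ ^ s) l = l) → ∀ l, (σ ^ s) l = l) : k.Prime := by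
  classical
  have hk0 : 0 < k := by omega
  obtain ⟨i, hi⟩ := exists_pow_of_ringEquiv hcard hk0 σ
  have hfrob : ∀ x : L, x ^ 2 ^ k = x := by
    intro x
    rw [← hcard]
    exact FiniteField.pow_card x
  -- first the gcd is one
  have hgcd : Nat.gcd i k = 1 := by
    by_contra hne
    have hg0 : Nat.gcd i k ≠ 0 := Nat.gcd_ne_zero_right (by omega)
    have hg2 : 2 ≤ Nat.gcd i k := by omega
    obtain ⟨l, hl0, hl1, hl⟩ := exists_fixed_of_dvd hcard hk0 (Nat.gcd_dvd_right i k) hg2
    have hiter : ∀ t : ℕ, l ^ 2 ^ (Nat.gcd i k * t) = l := by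
      intro t
      induction t with
      | zero => simp
      | succ t ih =>
        rw [mul_add, mul_one, pow_add, pow_mul, ih, hl]
    obtain ⟨t, ht⟩ := Nat.gcd_dvd_left i k
    have hfix : σ l = l := by
      rw [hi]
      conv_lhs => rw [ht]
      exact hiter t
    have := h2 1 ⟨l, hl0, hl1, by simpa using hfix⟩
    obtain ⟨l', hl'⟩ := h1
    exact hl' (by simpa using this l')
  by_contra hnp
  obtain ⟨d, hd, hd1, hdk⟩ : ∃ d, d ∣ k ∧ 2 ≤ d ∧ d < k := by
    obtain ⟨d, hd, hd2, hd3⟩ := (Nat.not_prime_iff_exists_dvd_lt (by omega)).1 hnp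
    exact ⟨d, hd, hd2, hd3⟩
  obtain ⟨l, hl0, hl1, hl⟩ := exists_fixed_of_dvd hcard hk0 hd hd1
  -- a multiple of `i` congruent to `d`
  obtain ⟨s, hs⟩ : ∃ s : ℕ, i * s % k = d % k := by
    have hcop : Nat.Coprime i k := hgcd
    obtain ⟨m, -, hm⟩ := Nat.exists_mul_mod_eq_of_coprime d hcop (by omega)
    exact ⟨m, hm⟩
  have hsd : ∀ x : L, x ^ 2 ^ (i * s) = x ^ 2 ^ d := by
    intro x
    have hper : ∀ (t n : ℕ), x ^ 2 ^ (n + k * t) = x ^ 2 ^ n := by
      intro t n
      induction t with
      | zero => simp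
      | succ t ih =>
        rw [mul_add, mul_one, ← add_assoc, pow_add, pow_mul, hfrob]
        exact ih
    have e1 := hper (i * s / k) (i * s % k)
    have e2 := hper (d / k) (d % k)
    rw [Nat.mod_add_div] at e1 e2
    rw [e1, e2, hs]
  have hfix : (σ ^ s) l = l := by
    rw [pow_iter hi, hsd, hl]
  have hall := h2 s ⟨l, hl0, hl1, hfix⟩
  -- the generator gives a contradiction
  obtain ⟨g, hg⟩ := IsCyclic.exists_generator (α := Lˣ)
  have hog : orderOf g = 2 ^ k - 1 := by
    rw [orderOf_eq_card_of_forall_mem_zpowers hg, Nat.card_eq_fintype_card, Fintype.card_units,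
      hcard]
  have h3 : (g : L) ^ 2 ^ d = g := by
    rw [← hsd, ← pow_iter hi, hall]
  have h4 : g ^ (2 ^ d - 1) = 1 := by
    apply Units.ext
    have h5 : (g : L) ^ 2 ^ d = (g : L) ^ (2 ^ d - 1) * g := by
      rw [← pow_succ]
      congr 1
      have : 1 ≤ 2 ^ d := Nat.one_le_two_pow
      omega
    rw [h5] at h3
    have := mul_right_cancel₀ (Units.ne_zero g) (h3.trans (one_mul _).symm)
    simpa using this
  have h5 := orderOf_dvd_of_pow_eq_one h4
  rw [hog] at h5
  have h6 : 2 ^ d < 2 ^ k := Nat.pow_lt_pow_right (by norm_num) hdk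
  have h7 : 2 ≤ 2 ^ d := by
    calc 2 = 2 ^ 1 := by norm_num
      _ ≤ 2 ^ d := Nat.pow_le_pow_right (by norm_num) (by omega)
  have h8 := Nat.le_of_dvd (by omega) h5
  omega

end Aut

section Conj

open scoped IsMulCommutative

variable {G : Type*} [Group G] (N : Subgroup G) [hN : N.Normal] [IsMulCommutative N]

/-- The conjugation action of a group on an abelian normal subgroup, written additively. -/
def conjEnd : G →* AddMonoid.End (Additive N) where
  toFun g :=
    { toFun := fun v => Additive.ofMul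
        (⟨g * (v.toMul : G) * g⁻¹, hN.conj_mem _ v.toMul.2 g⟩ : N)
      map_zero' := by
        apply Additive.toMul.injective
        apply Subtype.ext
        simp
      map_add' := by
        intro v w
        apply Additive.toMul.injective
        apply Subtype.ext
        simp [mul_assoc] }
  map_one' := by
    refine AddMonoidHom.ext fun v => ?_
    apply Additive.toMul.injective
    apply Subtype.ext
    change (1 : G) * ((v.toMul : N) : G) * (1 : G)⁻¹ = ((v.toMul : N) : G)
    simp
  map_mul' := by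
    intro a b
    refine AddMonoidHom.ext fun v => ?_
    apply Additive.toMul.injective
    apply Subtype.ext
    change (a * b) * ((v.toMul : N) : G) * (a * b)⁻¹ = a * (b * ((v.toMul : N) : G) * b⁻¹) * a⁻¹
    group

theorem conjEnd_coe (g : G) (v : Additive N) :
    (((conjEnd N g v).toMul : N) : G) = g * ((v.toMul : N) : G) * g⁻¹ := rfl

end Conj

section Aut2

variable {L R : Type*} [Field L] [Ring R]

/-- Conjugation by a unit preserving the image of an injective ring map gives a ring automorphism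
of the source. -/
theorem exists_ringEquiv (ι : L →+* R) (hι : Function.Injective ι) (c d : R) (hcd : c * d = 1)
    (hdc : d * c = 1) (h1 : ∀ l, ∃ l', ι l' = c * ι l * d) (h2 : ∀ l, ∃ l', ι l' = d * ι l * c) :
    ∃ σ : L ≃+* L, ∀ l, ι (σ l) = c * ι l * d := by
  choose f hf using h1
  choose g hg using h2
  refine ⟨{ toFun := f, invFun := g, left_inv := ?_, right_inv := ?_, map_mul' := ?_, map_add' := ?_ },
    hf⟩
  · intro l
    apply hι
    rw [hg, hf]
    calc d * (c * ι l * d) * c = (d * c) * ι l * (d * c) := by noncomm_ring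
      _ = ι l := by rw [hdc]; simp
  · intro l
    apply hι
    rw [hf, hg]
    calc c * (d * ι l * c) * d = (c * d) * ι l * (c * d) := by noncomm_ring
      _ = ι l := by rw [hcd]; simp
  · intro x y
    apply hι
    rw [hf, map_mul, map_mul, hf, hf]
    calc c * (ι x * ι y) * d = c * ι x * 1 * ι y * d := by noncomm_ring
      _ = c * ι x * (d * c) * ι y * d := by rw [hdc]
      _ = _ := by noncomm_ring
  · intro x y
    apply hι
    rw [hf, map_add, map_add, hf, hf]
    noncomm_ring

end Aut2

end Cfsg.Agent.Lib.Zass.RegField
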