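import Cfsg.Agent.Lib.Zass.NonCoh

/-!
# Feit's inequality for Zassenhaus groups with two-point stabilisers of odd order
-/

set_option autoImplicit false
set_option linter.unusedSectionVars false
set_option linter.unusedVariables false
set_option linter.style.haveILetI false

namespace Cfsg.Agent.Lib.Zass.FeitMain

open Cfsg MulAction
open Cfsg.Agent.Lib.Char.Ortho Cfsg.Agent.Lib.Char.Basic Cfsg.Agent.Lib.Char.Complete
  Cfsg.Agent.Lib.Char.Induced Cfsg.Agent.Lib.Char.GenLattice Cfsg.Agent.Lib.Char.Degree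
  Cfsg.Agent.Lib.Char.Linear Cfsg.Agent.Lib.Char.IndSpan
open Cfsg.Agent.Lib.Zass.Basic Cfsg.Agent.Lib.Zass.Stab Cfsg.Agent.Lib.Zass.Infl
  Cfsg.Agent.Lib.Zass.Inv Cfsg.Agent.Lib.Zass.InvCount Cfsg.Agent.Lib.Zass.AbKernel
  Cfsg.Agent.Lib.Zass.NuInd Cfsg.Agent.Lib.Zass.NonCoh Cfsg.Agent.Lib.Zass.AbFinal
  Cfsg.Agent.Lib.Zass.NormalSub Cfsg.Agent.Lib.Zass.NormalZass
open Cfsg.Agent.Lib.CharDeep.FrobRelevant Cfsg.Agent.Lib.Coh.FrobDeg Cfsg.Agent.Lib.Coh.DegSum
  Cfsg.Agent.Lib.Coh.Basic Cfsg.Agent.Lib.CharDeep.TIFNRel Cfsg.Agent.Lib.Coh.System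
open scoped ComplexConjugate Classical

section Transfer

variable {G : Type*} [Group G] [Fintype G]

/-- Sibley's theorem for any description of the normalizer. -/
theorem sibley_transfer {K : Subgroup G} {p : ℕ} [Fact p.Prime] (P : Sylow p G)
    (hPK : (P : Subgroup G) = K) (N : Subgroup G) [Fintype N] (hN : N = Subgroup.normalizer (K : Set G))
    (hp : p ≠ 2) (hna : ¬ IsMulCommutative K) (hTI : IsTISubset (K : Set G))
    (hC : ∀ k ∈ K, k ≠ 1 → Subgroup.centralizer ({k} : Set G) ≤ K) :
    IsCoherent (↑(nontrivOn (K.subgroupOf N)) : Set (N → ℂ)) {1}ᶜ (fun α => indFun N α) := by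
  subst hPK
  subst hN
  exact Cfsg.Agent.Lib.Coh.Sibley.coherent_nonabelian P hp hna hTI hC

end Transfer

section Data

variable {G Ω : Type*} [Group G] [Fintype G] [MulAction G Ω] [Fintype Ω] {a b : Ω} {H : Subgroup G}
  (D : Data a b H)

include D

/-- The stabiliser is the normalizer of the kernel. -/
theorem stabilizer_eq_normalizer : stabilizer G a = Subgroup.normalizer (H : Set G) := by
  apply le_antisymm
  · intro x hx
    rw [Subgroup.mem_normalizer_iff]
    intro h
    constructor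
    · exact fun hh => conj_mem D hx hh
    · intro hh
      have hx' : x⁻¹ • a = a := (stabilizer G a).inv_mem hx
      have := conj_mem D hx' hh
      simpa [mul_assoc] using this
  · intro x hx
    have hnt : H ≠ ⊥ := by
      intro h
      apply subgroupOf_ne_bot D
      rw [h]
      simp
    obtain ⟨t, ht, ht1⟩ := (Subgroup.bot_or_exists_ne_one H).resolve_left hnt
    rw [Subgroup.mem_normalizer_iff] at hx
    have h1 : x * t * x⁻¹ ∈ H := (hx t).mp ht
    have h2 : x * t * x⁻¹ ≠ 1 := by
      intro h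
      apply ht1
      have := congrArg (fun z => x⁻¹ * z * x) h
      simpa [mul_assoc] using this
    have h3 : t • (x⁻¹ • a) = x⁻¹ • a := by
      have h4 : (x * t * x⁻¹) • a = a := D.hHa h1
      rw [mul_smul, mul_smul, smul_eq_iff_eq_inv_smul] at h4
      exact h4
    have h4 := D.hHfix t ht ht1 _ h3
    show x • a = a
    rw [inv_smul_eq_iff] at h4
    exact h4.symm

theorem isTI : IsTISubset (H : Set G) := by
  intro g hg x hx hgx
  by_contra hx1
  apply hg
  rw [← stabilizer_eq_normalizer D]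
  have h2 : g * x * g⁻¹ ≠ 1 := by
    intro h
    apply hx1
    have := congrArg (fun z => g⁻¹ * z * g) h
    simpa [mul_assoc] using this
  have h3 : x • (g⁻¹ • a) = g⁻¹ • a := by
    have h4 : (g * x * g⁻¹) • a = a := D.hHa hgx
    rw [mul_smul, mul_smul, smul_eq_iff_eq_inv_smul] at h4
    exact h4
  have h4 := D.hHfix x hx hx1 _ h3
  show g • a = a
  rw [inv_smul_eq_iff] at h4
  exact h4.symm

theorem central_le {k : G} (hk : k ∈ H) (hk1 : k ≠ 1) : Subgroup.centralizer ({k} : Set G) ≤ H := by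
  intro x hx
  rw [Subgroup.mem_centralizer_singleton_iff] at hx
  have hxa : x • a = a := by
    apply D.hHfix k hk hk1
    have h1 : k • a = a := D.hHa hk
    calc k • x • a = (k * x) • a := by rw [mul_smul]
      _ = (x * k) • a := by rw [hx]
      _ = x • a := by rw [mul_smul, h1]
  have h2 := central_sub D (⟨k, D.hHa hk⟩ : stabilizer G a) (Subgroup.mem_subgroupOf.mpr hk)
    (fun h => hk1 (congrArg Subtype.val h)) (x := ⟨x, hxa⟩) (by
      rw [Subgroup.mem_centralizer_singleton_iff]
      exact Subtype.ext hx)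
  exact Subgroup.mem_subgroupOf.mp h2

/-- Induction is an isometry on the degree zero part. -/
theorem iso_ind' :
    IsLinearIsometryOn (zspanOn (↑(rel H a) : Set (stabilizer G a → ℂ)) {1}ᶜ)
        (fun α => indFun (stabilizer G a) α) ∧
      ∀ α ∈ zspanOn (↑(rel H a) : Set (stabilizer G a → ℂ)) {1}ᶜ, indFun (stabilizer G a) α 1 = 0 := by
  refine ⟨⟨?_, ?_, ?_, ?_⟩, ?_⟩
  · intro α _ β _
    exact indFun_add _ α β
  · intro α _ n
    exact indFun_zsmul' n α
  · intro α hα β hβ
    have h1 := (mem_zspanOn_compl_one.mp hα).2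
    rw [inner_ind_ind D α β (vanish_of_mem D hα.1) (isClassFunction_of_isGenChar (zspan_genChar hβ.1)), h1]
    simp
  · intro α hα
    exact isGenChar_indFun _ (zspan_genChar hα.1)
  · intro α hα
    rw [indFun_one, (mem_zspanOn_compl_one.mp hα).2, mul_zero]

/-- **The dichotomy from the theorems of Feit and Sibley.** -/
theorem coherent_or (hna : ∃ x ∈ H, ∃ y ∈ H, x * y ≠ y * x) :
    IsCoherent (↑(rel H a) : Set (stabilizer G a → ℂ)) {1}ᶜ (fun α => indFun (stabilizer G a) α) ∨
      (IsPGroup 2 H ∧ (commutator H).index ≤ 4 * Nat.card (E (G := G) a b) ^ 2 + 1) := by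
  have hR : 2 ≤ Rr H a := by
    obtain ⟨χ₂, hχ₂, hf₂⟩ := exists_chi2 D hna
    have h1 : fd H a χ₂ * fd H a χ₂ ≤ Rr H a :=
      Finset.single_le_sum (f := fun χ => fd H a χ * fd H a χ) (fun _ _ => Nat.zero_le _) hχ₂
    nlinarith
  have h1 := one_add_mul D
  have he1 := one_lt_card_E D
  have hne : Nat.card (H.subgroupOf (stabilizer G a)) ≠ (H.subgroupOf (stabilizer G a)).index + 1 := by
    rw [card_sub D, index_sub D]
    nlinarith
  have hiso := iso_ind' D
  rcases Cfsg.Agent.Lib.Coh.FeitThm.feit_thm (normal_sub D) (subgroupOf_ne_bot D) (central_sub D)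
    (nilpotent_sub D) hne _ hiso.1 hiso.2 with h | ⟨q, hq, ⟨m, hm⟩, hab, hidx⟩
  · exact Or.inl h
  · rw [card_sub D] at hm
    by_cases hq2 : q = 2
    · subst hq2
      right
      refine ⟨IsPGroup.of_card hm, ?_⟩
      rw [index_sub D] at hidx
      rwa [Cfsg.Agent.Lib.Coh.SibleyMain.index_commutator_of_equiv
        (Subgroup.subgroupOfEquivOfLe D.hHa)] at hidx
    · left
      haveI : Fact q.Prime := ⟨hq⟩
      have hKp : IsPGroup q H := IsPGroup.of_card hm
      obtain ⟨P, hP⟩ := Cfsg.Agent.Lib.Coh.SibleyMain.exists_sylow_eq hKp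
        (fun h => subgroupOf_ne_bot D (by rw [h]; simp))
        (fun k hk hk1 => central_le D hk hk1)
      refine sibley_transfer P hP _ (stabilizer_eq_normalizer D) hq2 ?_ (isTI D)
        (fun k hk hk1 => central_le D hk hk1)
      intro hc
      obtain ⟨x, hx, y, hy, hxy⟩ := hna
      exact hxy (congrArg Subtype.val (hc.is_comm.comm ⟨x, hx⟩ ⟨y, hy⟩))

/-- **Feit's inequality, simple case.** -/
theorem simple_main [IsSimpleGroup G] (hodd : Odd (Nat.card (E (G := G) a b))) :
    Nat.card H - 1 ≤ 2 * Nat.card (E (G := G) a b) ∨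
      (IsPGroup 2 H ∧ (∃ u v : H, u * v ≠ v * u) ∧
        (commutator H).index ≤ 4 * Nat.card (E (G := G) a b) ^ 2 + 1) := by
  have hC := Ctx.of_simple D.hZ D.hab hodd
  by_cases hab : ∀ x ∈ H, ∀ y ∈ H, x * y = y * x
  · exact Or.inl (two_bound D hC hab)
  · have hna : ∃ x ∈ H, ∃ y ∈ H, x * y ≠ y * x := by
      push Not at hab
      exact hab
    rcases coherent_or D hna with h | ⟨h1, h2⟩
    · exact absurd h (not_coherent D hC hna)
    · right
      obtain ⟨x, hx, y, hy, hxy⟩ := hna
      exact ⟨h1, ⟨⟨x, hx⟩, ⟨y, hy⟩, fun h => hxy (congrArg Subtype.val h)⟩, h2⟩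

end Data

section General

variable {G Ω : Type*} [Group G] [Fintype G] [MulAction G Ω] [Fintype Ω] {a b : Ω}

/-- **Feit's inequality.** -/
theorem main {H : Subgroup G} (D : Data a b H) (hodd : Odd (Nat.card (E (G := G) a b))) :
    Nat.card H - 1 ≤ 2 * Nat.card (E (G := G) a b) ∨
      (IsPGroup 2 H ∧ (∃ u v : H, u * v ≠ v * u) ∧
        (commutator H).index ≤ 4 * Nat.card (E (G := G) a b) ^ 2 + 1) := by
  obtain rfl := eq_kernelAt D
  have hZ := D.hZ
  have hab := D.hab
  have hk1 : kernelAt (G := G) a b ≠ ⊥ := fun h => subgroupOf_ne_bot D (by rw [h]; simp)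
  set L := Subgroup.normalClosure (kernelAt (G := G) a b : Set G) with hL
  have hkL : kernelAt (G := G) a b ≤ L := Subgroup.subset_normalClosure
  have hL1 : L ≠ ⊥ := by
    intro h
    apply hk1
    rw [eq_bot_iff, ← h]
    exact hkL
  have hLZ : IsZassenhausGroup L Ω := isZassenhausGroup_of_normal hZ L hL1
  have hLs : IsSimpleGroup L := isSimple_closure hZ hab hk1
  let ι : E (G := L) a b →* E (G := G) a b :=
    { toFun := fun x => ⟨x.1.1, x.2.1, x.2.2⟩
      map_one' := rfl
      map_mul' := fun _ _ => rfl }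
  have hιinj : Function.Injective ι := by
    intro x y h
    apply Subtype.ext
    apply Subtype.ext
    exact congrArg (fun z : E (G := G) a b => (z : G)) h
  have hdvd : Nat.card (E (G := L) a b) ∣ Nat.card (E (G := G) a b) :=
    Subgroup.card_dvd_of_injective ι hιinj
  have hle : Nat.card (E (G := L) a b) ≤ Nat.card (E (G := G) a b) :=
    Nat.le_of_dvd Nat.card_pos hdvd
  have hoddL : Odd (Nat.card (E (G := L) a b)) := Odd.of_dvd_nat hodd hdvd
  have DL := data_kernelAt hLZ hab
  have hmem : ∀ x ∈ kernelAt (G := L) a b, (x : G) ∈ kernelAt (G := G) a b := by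
    intro x hx
    by_cases hx1 : x = 1
    · rw [hx1]
      exact Subgroup.one_mem _
    apply mem_kernelAt_of_fix hZ hab (kernelAt_le (G := L) a b hx)
    intro w hw
    by_contra hne
    exact hx1 (kernelAt_fix hLZ hab hx hne hw)
  let φ₀ : kernelAt (G := L) a b →* kernelAt (G := G) a b :=
    { toFun := fun x => ⟨x.1.1, hmem x.1 x.2⟩
      map_one' := rfl
      map_mul' := fun _ _ => rfl }
  have hφinj : Function.Injective φ₀ := by
    intro x y h
    apply Subtype.ext
    apply Subtype.ext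
    exact congrArg (fun z : kernelAt (G := G) a b => (z : G)) h
  have hcard : Nat.card (kernelAt (G := L) a b) = Nat.card (kernelAt (G := G) a b) := by
    have h1 := DL.hHcard
    have h2 := D.hHcard
    omega
  let φ := MulEquiv.ofBijective φ₀ ((Nat.bijective_iff_injective_and_card φ₀).mpr ⟨hφinj, hcard⟩)
  letI : Fintype L := Fintype.ofFinite L
  rcases simple_main DL hoddL with h | ⟨h1, ⟨u, v, huv⟩, h3⟩
  · left
    rw [hcard] at h
    omega
  · right
    refine ⟨?_, ⟨φ u, φ v, ?_⟩, ?_⟩
    · obtain ⟨n, hn⟩ := IsPGroup.iff_card.mp h1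
      exact IsPGroup.of_card (n := n) (by rw [← hcard, hn])
    · intro h
      apply huv
      apply φ.injective
      rw [map_mul, map_mul, h]
    · rw [Cfsg.Agent.Lib.Coh.SibleyMain.index_commutator_of_equiv φ] at h3
      refine h3.trans ?_
      have := Nat.pow_le_pow_left hle 2
      omega

end General

end Cfsg.Agent.Lib.Zass.FeitMain
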