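import Cfsg.Agent.Lib.Zass.RootCoord

/-!
# Identification with `PSL(2,K)` and `PGL(2,K)`
-/

set_option autoImplicit false
set_option linter.unusedSectionVars false
set_option linter.unusedVariables false
set_option linter.style.haveILetI false

namespace Cfsg.Agent.Lib.Zass.RootFinal

open MulAction OnePoint
open Cfsg.Agent.Lib.Zass.Root Cfsg.Agent.Lib.Zass.Root.RootData
open Cfsg.Agent.Lib.Zass.RootCoord

universe u v w

variable {G : Type u} {Ω : Type v} {A : Type w} [Group G] [MulAction G Ω] [AddCommGroup A]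
variable {K : Type} [Field K]

open Classical in
/-- The chart identifying `Ω` with the projective line of `K`. -/
noncomputable def chartFun (R : RootData G Ω A) (ε : K ≃+ A) (y : Ω) : OnePoint K :=
  if y = R.inf then ∞ else ((ε.symm (R.coord y) : K) : OnePoint K)

theorem chartFun_inf (R : RootData G Ω A) (ε : K ≃+ A) : chartFun R ε R.inf = ∞ := by
  simp [chartFun]

theorem chartFun_pt (R : RootData G Ω A) (ε : K ≃+ A) (k : K) :
    chartFun R ε (R.pt (ε k)) = (k : OnePoint K) := by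
  simp [chartFun, R.pt_ne, R.coord_pt]

/-- The inverse of the chart. -/
noncomputable def chartInv (R : RootData G Ω A) (ε : K ≃+ A) (z : OnePoint K) : Ω :=
  OnePoint.elim z R.inf (fun k => R.pt (ε k))

/-- The chart. -/
noncomputable def chart (R : RootData G Ω A) (ε : K ≃+ A) : Ω ≃ OnePoint K where
  toFun := chartFun R ε
  invFun := chartInv R ε
  left_inv y := by
    by_cases hy : y = R.inf
    · rw [hy, chartFun_inf]
      rfl
    · have h : chartFun R ε y = ((ε.symm (R.coord y) : K) : OnePoint K) := by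
        simp [chartFun, hy]
      rw [h]
      show R.pt (ε (ε.symm (R.coord y))) = y
      rw [AddEquiv.apply_symm_apply, R.pt_coord hy]
  right_inv z := by
    induction z using OnePoint.rec with
    | infty => exact chartFun_inf R ε
    | coe k => exact chartFun_pt R ε k

theorem chart_inf (R : RootData G Ω A) (ε : K ≃+ A) : chart R ε R.inf = ∞ :=
  chartFun_inf R ε

theorem chart_pt (R : RootData G Ω A) (ε : K ≃+ A) (k : K) :
    chart R ε (R.pt (ε k)) = (k : OnePoint K) :=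
  chartFun_pt R ε k

/-- The action of `G` on the projective line. -/
noncomputable def rho (R : RootData G Ω A) (ε : K ≃+ A) : G →* Equiv.Perm (OnePoint K) :=
  (chart R ε).permCongrHom.toMonoidHom.comp (MulAction.toPermHom G Ω)

theorem rho_chart (R : RootData G Ω A) (ε : K ≃+ A) (g : G) (y : Ω) :
    rho R ε g (chart R ε y) = chart R ε (g • y) := by
  show (chart R ε) (g • ((chart R ε).symm (chart R ε y))) = _
  rw [Equiv.symm_apply_apply]

theorem rho_inj (R : RootData G Ω A) (ε : K ≃+ A) : Function.Injective (rho R ε) := by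
  intro g g' h
  apply R.faith
  intro y
  apply (chart R ε).injective
  rw [← rho_chart, ← rho_chart, h]

theorem rho_inf (R : RootData G Ω A) (ε : K ≃+ A) (g : G) (hg : g • R.inf = R.inf) :
    rho R ε g ∞ = ∞ := by
  rw [← chart_inf R ε, rho_chart, hg]

theorem rho_coe (R : RootData G Ω A) (ε : K ≃+ A) (g : G) (k l : K)
    (h : g • R.pt (ε k) = R.pt (ε l)) : rho R ε g k = (l : OnePoint K) := by
  rw [← chart_pt R ε k, rho_chart, h, chart_pt]

theorem rho_τ (R : RootData G Ω A) (ε : K ≃+ A) (b : K) :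
    ∃ g, rho R ε g ∞ = ∞ ∧ ∀ i : K, rho R ε g i = ((i + b : K) : OnePoint K) := by
  refine ⟨R.τ (ε b), rho_inf R ε _ (R.τ_inf _), fun i => rho_coe R ε _ _ _ ?_⟩
  rw [R.τ_pt, map_add, add_comm]

theorem rho_s (R : RootData G Ω A) (ε : K ≃+ A) {s : G} (hs : R.Inv s)
    (hsx : ∀ x : K, x ≠ 0 → R.ap s (ε x) = ε (-1 / x)) :
    ∃ g, rho R ε g ∞ = ((0 : K) : OnePoint K) ∧ rho R ε g ((0 : K) : OnePoint K) = ∞ ∧
      ∀ i : K, i ≠ 0 → rho R ε g i = ((-1 / i : K) : OnePoint K) := by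
  have hε0 : R.pt (ε 0) = R.o := by rw [map_zero]; rfl
  refine ⟨s, ?_, ?_, ?_⟩
  · rw [← chart_inf R ε, rho_chart, hs.inf, ← hε0, chart_pt]
  · rw [← chart_pt R ε 0, rho_chart, hε0, hs.o, chart_inf]
  · intro i hi
    refine rho_coe R ε _ _ _ ?_
    have hne : ε i ≠ 0 := by simpa using hi
    rw [hs.pt hne, hsx i hi]

/-- Elements fixing `∞` act as affine maps when `H` acts by scalars of the right form. -/
theorem rho_stab (R : RootData G Ω A) (ε : K ≃+ A) (P : K → Prop)
    (hH : ∀ g ∈ R.H, ∃ a : K, P a ∧ ∀ k, R.ap g (ε k) = ε (a * k))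
    (g : G) (hg : rho R ε g ∞ = ∞) :
    ∃ a b : K, P a ∧ ∀ i : K, rho R ε g i = ((a * i + b : K) : OnePoint K) := by
  have hg' : g • R.inf = R.inf := by
    have h1 := rho_chart R ε g R.inf
    rw [chart_inf, hg] at h1
    apply (chart R ε).injective
    rw [← h1, chart_inf]
  obtain ⟨x, h, hh, rfl⟩ := exists_τ_mul g hg'
  obtain ⟨a, ha, hak⟩ := hH h hh
  refine ⟨a, ε.symm x, ha, fun i => rho_coe R ε _ _ _ ?_⟩
  rw [mul_smul, H_pt hh, hak, R.τ_pt, map_add, AddEquiv.apply_symm_apply, add_comm]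

/-- Recognition of `PGL(2,K)`. -/
theorem pgl_of_scalar (R : RootData G Ω A) [Fintype K] (ε : K ≃+ A) {s : G} (hs : R.Inv s)
    (hsx : ∀ x : K, x ≠ 0 → R.ap s (ε x) = ε (-1 / x))
    (hH : ∀ g ∈ R.H, ∃ a : K, a ≠ 0 ∧ ∀ k, R.ap g (ε k) = ε (a * k))
    (hcard : Nat.card R.H + 1 = Nat.card A) :
    Nonempty (G ≃* Matrix.ProjGenLinGroup (Fin 2) K) := by
  classical
  choose! a ha1 ha2 using hH
  -- surjectivity onto the nonzero scalars
  have hfinA : Finite A := Finite.of_equiv K ε.toEquiv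
  have hAcard : Nat.card A = Fintype.card K := by
    rw [← Nat.card_congr ε.toEquiv, Nat.card_eq_fintype_card]
  let f : R.H → Kˣ := fun g => Units.mk0 (a g) (ha1 g g.2)
  have hfinj : Function.Injective f := by
    intro g g' h
    apply Subtype.ext
    apply H_ext g.2 g'.2
    intro x
    obtain ⟨k, rfl⟩ := ε.surjective x
    have h' : a g = a g' := congrArg Units.val h
    rw [ha2 g g.2, ha2 g' g'.2, h']
  have hfinH : Finite R.H := Finite.of_injective f hfinj
  have hfbij : Function.Bijective f := by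
    refine (Nat.bijective_iff_injective_and_card f).mpr ⟨hfinj, ?_⟩
    rw [Nat.card_eq_fintype_card (α := Kˣ), Fintype.card_units]
    have : 0 < Fintype.card K := Fintype.card_pos
    omega
  refine Cfsg.Agent.Lib.Zass.PGLRec.nonempty_mulEquiv_PGL (rho R ε) (rho_inj R ε) (rho_τ R ε)
    (rho_s R ε hs hsx) ?_ ?_
  · intro b hb
    obtain ⟨g, hg⟩ := hfbij.2 (Units.mk0 b hb)
    have hg' : a g = b := congrArg Units.val hg
    refine ⟨g, rho_inf R ε _ g.2.1, fun i => rho_coe R ε _ _ _ ?_⟩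
    rw [H_pt g.2, ha2 g g.2, hg']
  · intro g hg
    obtain ⟨a', b, h1, h2⟩ := rho_stab R ε (fun a => a ≠ 0)
      (fun g hg => ⟨a g, ha1 g hg, ha2 g hg⟩) g hg
    exact ⟨a', b, h1, h2⟩

/-- Recognition of `PSL(2,K)`. -/
theorem psl_of_scalar (R : RootData G Ω A) (ε : K ≃+ A) {s : G} (hs : R.Inv s)
    (hsx : ∀ x : K, x ≠ 0 → R.ap s (ε x) = ε (-1 / x))
    (hH : ∀ g ∈ R.H, ∃ t : K, t ≠ 0 ∧ ∀ k, R.ap g (ε k) = ε (t ^ 2 * k)) :
    Nonempty (G ≃* Matrix.ProjectiveSpecialLinearGroup (Fin 2) K) := by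
  refine Cfsg.Agent.Lib.Small.PSL2Act.nonempty_mulEquiv_PSL (rho R ε) (rho_inj R ε) (rho_τ R ε)
    (rho_s R ε hs hsx) ?_
  intro g hg
  obtain ⟨a, b, ⟨t, ht, rfl⟩, h2⟩ := rho_stab R ε (fun a => ∃ t : K, t ≠ 0 ∧ a = t ^ 2)
    (fun g hg => by
      obtain ⟨t, ht, h⟩ := hH g hg
      exact ⟨t ^ 2, ⟨t, ht, rfl⟩, h⟩) g hg
  exact ⟨t, b, ht, h2⟩

/-- The `PSL` case: `s` inverts `H`, of index two in the group of nonzero scalars. -/
theorem final_PSL (R : RootData G Ω A) [Finite A] {s : G} (hs : R.Inv s) (hsp : Special s R)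
    (hinv : ∀ g ∈ R.H, s * g * s = g⁻¹)
    {e : A} (he : e ≠ 0) (hse : R.ap s e = -e)
    (hcard : Nat.card R.H * 2 + 1 = Nat.card A) :
    ∃ (K : Type) (_ : Field K) (_ : Fintype K), ringChar K ≠ 2 ∧ Fintype.card K = Nat.card A ∧
      Nonempty (G ≃* Matrix.ProjectiveSpecialLinearGroup (Fin 2) K) := by
  classical
  obtain ⟨K, instF, instFt, ε, χ, h1, hmul, hgen, hinj, hsx⟩ :=
    coords R hs hsp R.H le_rfl hinv he hse (Or.inl hcard)
  have hKcard : Fintype.card K = Nat.card A := by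
    rw [← Nat.card_congr ε.toEquiv, Nat.card_eq_fintype_card]
  have hchar : ringChar K ≠ 2 := by
    intro h
    have := FiniteField.even_card_iff_char_two.mp h
    omega
  refine ⟨K, instF, instFt, hchar, hKcard, psl_of_scalar R ε hs hsx ?_⟩
  intro g hg
  -- a scalar of `H` is a square
  have hpow : ((χ ⟨g, hg⟩ : Kˣ) : K) ^ (Fintype.card K / 2) = 1 := by
    have h2 : Fintype.card K / 2 = Nat.card R.H := by omega
    rw [h2, ← Units.val_pow_eq_pow_val, ← map_pow]
    have h3 : (⟨g, hg⟩ : R.H) ^ Nat.card R.H = 1 := pow_card_eq_one'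
    rw [h3, map_one, Units.val_one]
  have hsq := (FiniteField.isSquare_iff hchar (χ ⟨g, hg⟩).ne_zero).mpr hpow
  obtain ⟨t, ht⟩ := hsq
  refine ⟨t, ?_, ?_⟩
  · intro h0
    rw [h0, mul_zero] at ht
    exact (χ ⟨g, hg⟩).ne_zero ht
  · intro k
    rw [pow_two, ← ht]
    exact hmul ⟨g, hg⟩ k

/-- The `PGL` case with `N = H`. -/
theorem final_PGL (R : RootData G Ω A) [Finite A] {s : G} (hs : R.Inv s) (hsp : Special s R)
    (hinv : ∀ g ∈ R.H, s * g * s = g⁻¹)
    {e : A} (he : e ≠ 0) (hse : R.ap s e = -e)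
    (hcard : Nat.card R.H + 1 = Nat.card A) :
    ∃ (K : Type) (_ : Field K) (_ : Fintype K), Fintype.card K = Nat.card A ∧
      Nonempty (G ≃* Matrix.ProjGenLinGroup (Fin 2) K) := by
  classical
  obtain ⟨K, instF, instFt, ε, χ, h1, hmul, hgen, hinj, hsx⟩ :=
    coords R hs hsp R.H le_rfl hinv he hse (Or.inr hcard)
  have hKcard : Fintype.card K = Nat.card A := by
    rw [← Nat.card_congr ε.toEquiv, Nat.card_eq_fintype_card]
  refine ⟨K, instF, instFt, hKcard, pgl_of_scalar R ε hs hsx ?_ hcard⟩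
  intro g hg
  exact ⟨_, (χ ⟨g, hg⟩).ne_zero, hmul ⟨g, hg⟩⟩

end Cfsg.Agent.Lib.Zass.RootFinal
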