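import Mathlib

/-!
# A two-group with a unique involution in which no element of order `> 2` is inverted is cyclic
-/

set_option autoImplicit false
set_option linter.unusedSectionVars false
set_option linter.unusedVariables false
set_option linter.style.haveILetI false

namespace Cfsg.Agent.Lib.Zass.TwoCyclic

universe u

/-- In a cyclic `2`-group, every element is a square or a generator. -/
theorem square_or_gen {M : Type u} [Group M] [Finite M] [IsCyclic M] (hM : IsPGroup 2 M) (b : M) :
    (∃ c : M, b = c * c) ∨ orderOf b = Nat.card M := by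
  classical
  obtain ⟨a, ha⟩ := IsCyclic.exists_generator (α := M)
  have hb : b ∈ Submonoid.powers a := by
    rw [mem_powers_iff_mem_zpowers]
    exact ha b
  obtain ⟨j, rfl⟩ := hb
  have hord : orderOf a = Nat.card M := orderOf_eq_card_of_forall_mem_zpowers ha
  rcases Nat.even_or_odd j with hj | hj
  · left
    obtain ⟨i, rfl⟩ := hj
    exact ⟨a ^ i, by show a ^ (i + i) = _; rw [pow_add]⟩
  · right
    obtain ⟨n, hn⟩ := IsPGroup.iff_card.mp hM
    show orderOf (a ^ j) = _
    rw [(Nat.Coprime.orderOf_pow (by
      rw [hord, hn]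
      exact Nat.Coprime.pow_left n (Nat.coprime_two_left.mpr hj))), hord]

theorem isCyclic_of_no_inversion (n : ℕ) : ∀ {P : Type u} [Group P] [Finite P], Nat.card P = n →
    IsPGroup 2 P →
    (∀ x y : P, x * x = 1 → y * y = 1 → x ≠ 1 → y ≠ 1 → x = y) →
    (∀ c u : P, c * u * c⁻¹ = u⁻¹ → u * u = 1) → IsCyclic P := by
  classical
  induction n using Nat.strong_induction_on with
  | _ n ih =>
  intro P _ _ hcard hP huniq hL
  by_cases htriv : Subsingleton P
  · exact isCyclic_of_subsingleton
  have hntriv : Nontrivial P := not_subsingleton_iff_nontrivial.mp htriv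
  haveI : Fact (Nat.Prime 2) := ⟨Nat.prime_two⟩
  obtain ⟨m, hm⟩ := IsPGroup.iff_card.mp hP
  have hm0 : m ≠ 0 := by
    rintro rfl
    have h1 : Nat.card P = 1 := by simpa using hm
    exact htriv (Nat.card_eq_one_iff_unique.mp h1).1
  obtain ⟨k, rfl⟩ : ∃ k, m = k + 1 := ⟨m - 1, by omega⟩
  -- a maximal subgroup
  obtain ⟨M, hMcard⟩ := Sylow.exists_subgroup_card_pow_prime (G := P) 2 (n := k) (by
    rw [hm]
    exact pow_dvd_pow 2 (Nat.le_succ k))
  have hindex : M.index = 2 := by
    have h1 := Subgroup.card_mul_index M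
    rw [hMcard, hm, pow_succ] at h1
    exact Nat.eq_of_mul_eq_mul_left (by positivity) h1
  haveI hMn : M.Normal := Subgroup.normal_of_index_eq_two hindex
  -- `M` is cyclic by induction
  have hMcyc : IsCyclic M := by
    refine ih (Nat.card M) ?_ rfl (hP.to_subgroup M) ?_ ?_
    · rw [← hcard, hm, hMcard, pow_succ]
      have : 0 < 2 ^ k := by positivity
      omega
    · intro x y hx hy hx1 hy1
      apply Subtype.ext
      apply huniq x y
      · exact congrArg Subtype.val hx
      · exact congrArg Subtype.val hy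
      · exact fun h => hx1 (Subtype.ext h)
      · exact fun h => hy1 (Subtype.ext h)
    · intro c u h
      apply Subtype.ext
      exact hL c u (congrArg Subtype.val h)
  have hMab : ∀ a ∈ M, ∀ b ∈ M, a * b = b * a := by
    intro a ha b hb
    have := hMcyc.commGroup.mul_comm ⟨a, ha⟩ ⟨b, hb⟩
    exact congrArg Subtype.val this
  -- an element outside `M`
  obtain ⟨x, hxM⟩ : ∃ x, x ∉ M := by
    by_contra hall
    push Not at hall
    have : M = ⊤ := (Subgroup.eq_top_iff' M).mpr hall
    rw [this, Subgroup.index_top] at hindex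
    omega
  have hsq : ∀ y, y ∉ M → y * y ∈ M := by
    intro y hy
    have := Subgroup.mul_mem_iff_of_index_two hindex (a := y) (b := y)
    exact this.mpr (iff_of_false hy hy)
  have hout : ∀ y u, y ∉ M → u ∈ M → y * u ∉ M := by
    intro y u hy hu h
    exact hy ((Subgroup.mul_mem_cancel_right M hu).mp h)
  have hne1 : ∀ y, y ∉ M → y ≠ 1 := by
    rintro y hy rfl
    exact hy M.one_mem
  -- the case `|P| = 2`
  by_cases hk : k = 0
  · subst hk
    have h2 : Nat.card P = 2 := by simpa using hm
    exact isCyclic_of_prime_card h2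
  -- an involution in `M`
  obtain ⟨z, hz⟩ : ∃ z : M, orderOf z = 2 := by
    apply exists_prime_orderOf_dvd_card' 2
    rw [hMcard]
    exact dvd_pow_self 2 hk
  have hz1 : (z : P) * z = 1 := by
    have := pow_orderOf_eq_one z
    rw [hz, pow_two] at this
    exact congrArg Subtype.val this
  have hzne : (z : P) ≠ 1 := by
    intro h
    have : z = 1 := Subtype.ext h
    rw [this, orderOf_one] at hz
    omega
  have hnoinv : ∀ y, y ∉ M → y * y ≠ 1 := by
    intro y hy h
    exact hy ((huniq y z h hz1 (hne1 y hy) hzne) ▸ z.2)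
  -- conjugation by `x`
  have hphi : ∀ b ∈ M, x * b * x⁻¹ ∈ M := fun b hb => hMn.conj_mem b hb x
  have hphi2 : ∀ b ∈ M, x * (x * b * x⁻¹) * x⁻¹ = b := by
    intro b hb
    have h1 := hMab (x * x) (hsq x hxM) b hb
    calc x * (x * b * x⁻¹) * x⁻¹ = (x * x) * b * (x * x)⁻¹ := by group
      _ = b := by rw [h1]; group
  have hw : ∀ b ∈ M, (b⁻¹ * (x * b * x⁻¹)) * (b⁻¹ * (x * b * x⁻¹)) = 1 := by
    intro b hb
    apply hL x
    have h1 : x * (b⁻¹ * (x * b * x⁻¹)) * x⁻¹ = (x * b * x⁻¹)⁻¹ * (x * (x * b * x⁻¹) * x⁻¹) := by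
      group
    rw [h1, hphi2 b hb]
    group
  have hxxM := hsq x hxM
  rcases square_or_gen (hP.to_subgroup M) (⟨x * x, hxxM⟩ : M) with ⟨c, hc⟩ | hgen
  · -- `x * x` is a square
    have hc' : x * x = (c : P) * c := congrArg Subtype.val hc
    set y := x * (c : P)⁻¹ with hy
    have hyM : y ∉ M := hout x _ hxM (M.inv_mem c.2)
    have hyy : y * y = (x * (c : P) * x⁻¹)⁻¹ * c := by
      have h1 : y * y = (x * (c : P) * x⁻¹)⁻¹ * (x * x) * (c : P)⁻¹ := by
        rw [hy]; group
      rw [h1, hc']
      group
    have hYY : (y * y) * (y * y) = 1 := by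
      have h1 := hw c c.2
      rw [hyy]
      have h2 : (x * (c : P) * x⁻¹)⁻¹ * (c : P) = ((c : P)⁻¹ * (x * (c : P) * x⁻¹))⁻¹ := by group
      rw [h2, ← mul_inv_rev, h1, inv_one]
    have hYM : y * y ∈ M := hsq y hyM
    have hY1 : y * y ≠ 1 := hnoinv y hyM
    rcases square_or_gen (hP.to_subgroup M) (⟨y * y, hYM⟩ : M) with ⟨u, hu⟩ | hgen
    · have hu' : y * y = (u : P) * u := congrArg Subtype.val hu
      have hw' := hw u u.2
      have hcomm : x * (u : P) = u * x := by
        by_contra hne
        have hw1 : (u : P)⁻¹ * (x * u * x⁻¹) ≠ 1 := by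
          intro h
          apply hne
          have h2 : x * (u : P) * x⁻¹ = u := by
            have := inv_mul_eq_one.mp h
            exact this.symm
          calc x * (u : P) = x * u * x⁻¹ * x := by group
            _ = u * x := by rw [h2]
        have h3 := huniq _ _ hw' hYY hw1 hY1
        rw [hu'] at h3 hYY
        have h4 : x * (u : P) * x⁻¹ = (u : P)⁻¹ := by
          have h5 : x * (u : P) * x⁻¹ = u * (u * u) := by
            rw [← h3]; group
          rw [h5]
          have h6 : (u : P) * (u * u) * u = 1 := by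
            rw [← hYY]; group
          exact eq_inv_of_mul_eq_one_left h6
        have h7 := hL x u h4
        exact hY1 (hu'.trans h7)
      have hcu : (c : P)⁻¹ * u = u * (c : P)⁻¹ := hMab _ (M.inv_mem c.2) _ u.2
      have hyu : y * u = u * y := by
        rw [hy, mul_assoc, hcu, ← mul_assoc, hcomm, mul_assoc]
      exfalso
      apply hnoinv (y * u) (hout y u hyM u.2)
      calc y * u * (y * u) = (y * y) * (u * u) := by
            rw [mul_assoc, ← mul_assoc (u : P), ← hyu]; group
        _ = 1 := by rw [← hu']; exact hYY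
    · -- `|M| = 2`
      have h2 : orderOf (y * y) = 2 := by
        apply orderOf_eq_prime
        · rw [pow_two]; exact hYY
        · exact hY1
      have h3 : Nat.card M = 2 := by
        rw [← hgen, Subgroup.orderOf_mk, h2]
      have hk1 : k = 1 := by
        rw [hMcard] at h3
        exact Nat.pow_right_injective (le_refl 2) (by simpa using h3)
      subst hk1
      apply isCyclic_of_orderOf_eq_card y
      have h5 : orderOf y = 2 ^ (1 + 1) := by
        apply orderOf_eq_prime_pow
        · rw [pow_one, pow_two]; exact hY1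
        · norm_num
          have : y ^ 4 = (y * y) * (y * y) := by
            rw [show (4 : ℕ) = 1 + 1 + 1 + 1 from rfl, pow_succ, pow_succ, pow_succ, pow_one]
            group
          rw [this]; exact hYY
      rw [h5, hm]
  · -- `x * x` generates `M`
    apply isCyclic_of_orderOf_eq_card x
    have hord : orderOf (x * x) = 2 ^ k := by
      rw [← hMcard, ← hgen, Subgroup.orderOf_mk]
    have h5 : orderOf x = 2 ^ (k + 1) := by
      apply orderOf_eq_prime_pow
      · obtain ⟨l, rfl⟩ : ∃ l, k = l + 1 := ⟨k - 1, by omega⟩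
        have h6 : x ^ 2 ^ (l + 1) = (x * x) ^ 2 ^ l := by
          rw [← pow_two, ← pow_mul, pow_succ, mul_comm]
        rw [h6]
        exact pow_ne_one_of_lt_orderOf (by positivity) (by rw [hord]; exact Nat.pow_lt_pow_succ (by norm_num))
      · have h6 : x ^ 2 ^ (k + 1) = (x * x) ^ 2 ^ k := by
          rw [← pow_two, ← pow_mul, pow_succ, mul_comm]
        rw [h6, ← hord, pow_orderOf_eq_one]
    rw [h5, hm]

end Cfsg.Agent.Lib.Zass.TwoCyclic
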