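import Cfsg.Agent.Lib.Zass.InvCentral
import Cfsg.Agent.Lib.Char.IndRep
import Cfsg.Agent.Lib.Char.GenLattice
import Cfsg.Agent.Lib.Frobenius.Theorem

/-!
# Characters of a Zassenhaus group induced from linear characters of a point stabiliser
-/

set_option autoImplicit false
set_option linter.unusedSectionVars false
set_option linter.style.haveILetI false

namespace Cfsg.Agent.Lib.Zass.IndLinear

open Cfsg MulAction
open Cfsg.Agent.Lib.Zass.Basic Cfsg.Agent.Lib.Zass.Stab Cfsg.Agent.Lib.Zass.Inv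
  Cfsg.Agent.Lib.Zass.InvCount Cfsg.Agent.Lib.Zass.InvCentral
  Cfsg.Agent.Lib.CharDeep.Zassenhaus Cfsg.Agent.Lib.Char.Induced
open Finset
open scoped Classical ComplexConjugate

universe u v

variable {G : Type u} {Ω : Type v} [Group G] [MulAction G Ω] [Fintype G] [Fintype Ω]

/-- Elements taking `a` to `c` are as many as elements of the stabiliser of `a`. -/
theorem card_filter_smul {a c : Ω} {s : G} (hs : s • a = c) :
    (univ.filter (fun x : G => x • a = c)).card = Nat.card (stabilizer G a) := by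
  rw [card_filter_eq]
  apply Nat.card_congr
  refine
    { toFun := fun x => ⟨s⁻¹ * x.1, ?_⟩
      invFun := fun x => ⟨s * x.1, ?_⟩
      left_inv := fun x => by apply Subtype.ext; simp
      right_inv := fun x => by apply Subtype.ext; simp }
  · show (s⁻¹ * x.1) • a = a
    rw [mul_smul, x.2, ← hs, inv_smul_smul]
  · have h1 : (x.1 : G) • a = a := x.2
    show (s * x.1) • a = c
    rw [mul_smul, h1, hs]

theorem sum_hom_eq_zero {N : Type*} [Group N] [Fintype N] (f : N →* ℂˣ) {z : N}
    (hz : (f z : ℂ) ≠ 1) : ∑ y : N, (f y : ℂ) = 0 := by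
  have h1 : ∑ y : N, (f y : ℂ) = (f z : ℂ) * ∑ y : N, (f y : ℂ) := by
    rw [Finset.mul_sum]
    refine Fintype.sum_equiv (Equiv.mulLeft z⁻¹) _ _ ?_
    intro y
    simp
  have h2 : (1 - (f z : ℂ)) * ∑ y : N, (f y : ℂ) = 0 := by
    rw [sub_mul, one_mul, ← h1, sub_self]
  rcases mul_eq_zero.1 h2 with h3 | h3
  · exact absurd (sub_eq_zero.1 h3).symm hz
  · exact h3

variable (hC : Ctx G Ω)
include hC

section

variable {a : Ω} {H : Subgroup G} (hHa : H ≤ stabilizer G a)
  (hHcard : Nat.card H + 1 = Fintype.card Ω)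
  (hHfix : ∀ u ∈ H, u ≠ 1 → ∀ c : Ω, u • c = c → c = a)
  (f : stabilizer G a →* ℂˣ)

include hHa hHcard hHfix

/-- Value of the induced character on the kernel. -/
theorem indFun_kernel (hf : ∀ u : stabilizer G a, (u : G) ∈ H → f u = 1) {u : G} (hu : u ∈ H)
    (hu1 : u ≠ 1) : indFun (stabilizer G a) (fun y => (f y : ℂ)) u = 1 := by
  rw [indFun_apply]
  have h1 : ∀ x : G, extendByZero (stabilizer G a) (fun y => (f y : ℂ)) (x⁻¹ * u * x) =
      if x • a = a then 1 else 0 := by
    intro x
    split_ifs with hx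
    · have hx' : x⁻¹ • a = a := by rw [inv_smul_eq_iff, hx]
      have h2 : x⁻¹ * u * x⁻¹⁻¹ ∈ H :=
        conj_mem_of_stabilizer hC.hZ.2.2.1 hHcard hHfix hHa hx' hu
      rw [inv_inv] at h2
      rw [extendByZero_of_mem _ _ (hHa h2)]
      have := hf ⟨_, hHa h2⟩ h2
      simp [this]
    · apply extendByZero_of_not_mem
      intro h2
      apply hx
      have h3 : (x⁻¹ * u * x) • a = a := h2
      rw [mul_smul, mul_smul, inv_smul_eq_iff] at h3
      exact hHfix u hu hu1 _ h3
  rw [Finset.sum_congr rfl (fun x _ => h1 x), Finset.sum_boole]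
  have h4 := card_filter_smul (G := G) (a := a) (c := a) (s := 1) (one_smul _ _)
  rw [h4]
  have h5 := card_subgroup_ne_zero (stabilizer G a)
  field_simp

omit hHa hHcard hHfix

/-- Value of the induced character on two-point stabilisers. -/
theorem indFun_two {c : Ω} (hac : a ≠ c) {y : G} (hy : y ∈ E (G := G) a c) (hy1 : y ≠ 1) :
    indFun (stabilizer G a) (fun y => (f y : ℂ)) y = (f ⟨y, hy.1⟩ : ℂ) + ((f ⟨y, hy.1⟩ : ℂˣ) : ℂ)⁻¹ := by
  rw [indFun_apply]
  obtain ⟨s, hs, hsa, hsc⟩ := exists_swap hC hac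
  have hsi : s⁻¹ = s := invol_inv hs
  set A : ℂ := (f ⟨y, hy.1⟩ : ℂ) with hA
  have h1 : ∀ x : G, extendByZero (stabilizer G a) (fun y => (f y : ℂ)) (x⁻¹ * y * x) =
      (if x • a = a then A else 0) + (if x • a = c then A⁻¹ else 0) := by
    intro x
    by_cases hx : x • a = a
    · have hxc : x • a ≠ c := fun h => hac (hx.symm.trans h)
      rw [if_pos hx, if_neg hxc, add_zero]
      have hxa : x ∈ stabilizer G a := hx
      have hmem : x⁻¹ * y * x ∈ stabilizer G a :=
        (stabilizer G a).mul_mem ((stabilizer G a).mul_mem ((stabilizer G a).inv_mem hxa) hy.1) hxa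
      rw [extendByZero_of_mem _ _ hmem]
      have h2 : (⟨x⁻¹ * y * x, hmem⟩ : stabilizer G a) =
          (⟨x, hxa⟩ : stabilizer G a)⁻¹ * ⟨y, hy.1⟩ * ⟨x, hxa⟩ := rfl
      rw [h2, map_mul, map_mul, map_inv]
      simp only [Units.val_mul, hA]
      have : ((f ⟨x, hxa⟩)⁻¹ : ℂˣ) * f ⟨y, hy.1⟩ * f ⟨x, hxa⟩ = f ⟨y, hy.1⟩ := by
        rw [mul_comm _ (f ⟨y, hy.1⟩), mul_assoc, inv_mul_cancel, mul_one]
      rw [← Units.val_mul, ← Units.val_mul, this]
    by_cases hx2 : x • a = c
    · rw [if_neg hx, if_pos hx2, zero_add]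
      have hn : s⁻¹ * x ∈ stabilizer G a := by
        show (s⁻¹ * x) • a = a
        rw [mul_smul, hx2, hsi, hsc]
      have h3 : s⁻¹ * y * s⁻¹⁻¹ = y⁻¹ := by
        apply hC.inv hac s⁻¹
        · rw [hsi]; exact hsa
        · rw [hsi]; exact hsc
        · exact hy
      rw [inv_inv] at h3
      have h4 : x⁻¹ * y * x = (s⁻¹ * x)⁻¹ * (s⁻¹ * y * s) * (s⁻¹ * x) := by
        rw [hsi]
        have hss : s * s = 1 := invol_mul_self hs
        calc x⁻¹ * y * x = x⁻¹ * (s * s) * y * (s * s) * x := by rw [hss]; group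
          _ = _ := by rw [mul_inv_rev, hsi]; group
      have hmem : x⁻¹ * y * x ∈ stabilizer G a := by
        rw [h4, h3]
        exact (stabilizer G a).mul_mem ((stabilizer G a).mul_mem ((stabilizer G a).inv_mem hn)
          ((stabilizer G a).inv_mem hy.1)) hn
      rw [extendByZero_of_mem _ _ hmem]
      have h5 : (⟨x⁻¹ * y * x, hmem⟩ : stabilizer G a) =
          (⟨_, hn⟩ : stabilizer G a)⁻¹ * (⟨y, hy.1⟩ : stabilizer G a)⁻¹ * ⟨_, hn⟩ := by
        apply Subtype.ext
        show x⁻¹ * y * x = _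
        rw [h4, h3]
        rfl
      rw [h5, map_mul, map_mul, map_inv, map_inv]
      have : ((f ⟨_, hn⟩)⁻¹ : ℂˣ) * (f ⟨y, hy.1⟩)⁻¹ * f ⟨_, hn⟩ = (f ⟨y, hy.1⟩)⁻¹ := by
        rw [mul_comm _ ((f ⟨y, hy.1⟩)⁻¹), mul_assoc, inv_mul_cancel, mul_one]
      rw [this, Units.val_inv_eq_inv_val]
    · rw [if_neg hx, if_neg hx2, add_zero]
      apply extendByZero_of_not_mem
      intro h2
      have h3 : (x⁻¹ * y * x) • a = a := h2
      rw [mul_smul, mul_smul, inv_smul_eq_iff] at h3
      rcases fix_eq hC.hZ hac hy hy1 h3 with h4 | h4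
      · exact hx h4
      · exact hx2 h4
  have hsum : ∀ (p : G → Prop) (B : ℂ), ∑ x : G, (if p x then B else 0) =
      ((univ.filter p).card : ℂ) * B := by
    intro p B
    simp [Finset.sum_ite]
  rw [Finset.sum_congr rfl (fun x _ => h1 x), Finset.sum_add_distrib, hsum, hsum,
    card_filter_smul (G := G) (a := a) (c := a) (s := 1) (one_smul _ _),
    card_filter_smul (G := G) (a := a) (c := c) hsa]
  have h5 := card_subgroup_ne_zero (stabilizer G a)
  field_simp

include hHa hHcard hHfix

/-- Elements of the stabiliser outside the kernel fix a second point. -/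
theorem exists_second_fix {y : G} (hya : y • a = a) (hyH : y ∉ H) : ∃ c, a ≠ c ∧ y ∈ E (G := G) a c := by
  by_contra hcon
  push Not at hcon
  apply hyH
  apply mem_of_fix_only hC.hZ.2.2.1 hHcard hHfix hHa hya
  intro c hc
  by_contra hca
  exact hcon c (Ne.symm hca) ⟨hya, hc⟩

/-- The main computation: the induced character has norm one. -/
theorem classInner_indFun (hf : ∀ u : stabilizer G a, (u : G) ∈ H → f u = 1) {z : stabilizer G a}
    (hz : f z ≠ 1) :
    classInner (indFun (stabilizer G a) (fun y => (f y : ℂ)))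
      (indFun (stabilizer G a) (fun y => (f y : ℂ))) = 1 := by
  classical
  set μ : stabilizer G a → ℂ := fun y => (f y : ℂ) with hμ
  set Φ := indFun (stabilizer G a) μ with hΦ
  rw [classInner_indFun_left _ _ _ (isClassFunction_indFun _ _)]
  rw [classInner_subgroup_eq]
  -- `μ` has values of norm `1`
  have hnorm : ∀ y, ‖μ y‖ = 1 := by
    intro y
    apply Complex.norm_eq_one_of_pow_eq_one (n := Nat.card (stabilizer G a)) _ Nat.card_pos.ne'
    have : f y ^ Nat.card (stabilizer G a) = 1 := by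
      rw [← map_pow, pow_card_eq_one', map_one]
    have h2 := congrArg Units.val this
    simpa [hμ] using h2
  have hconj : ∀ y, conj (μ y) = (μ y)⁻¹ := fun y => (Complex.inv_eq_conj (hnorm y)).symm
  -- `μ ^ 2` is not trivial
  have hz2 : ((f z) ^ 2 : ℂˣ) ≠ 1 := by
    intro h2
    apply hz
    by_cases hzH : (z : G) ∈ H
    · exact hf z hzH
    obtain ⟨c, hac, hzE⟩ := exists_second_fix hC hHa hHcard hHfix z.2 hzH
    obtain ⟨k, hk⟩ := hC.odd hac
    have h3 : (⟨z, hzE⟩ : E (G := G) a c) ^ Nat.card (E (G := G) a c) = 1 := pow_card_eq_one'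
    have h4 : (z : G) ^ Nat.card (E (G := G) a c) = 1 := by
      have := congrArg Subtype.val h3
      simpa using this
    have h5 : z ^ Nat.card (E (G := G) a c) = 1 := Subtype.ext (by simpa using h4)
    have h6 : f z ^ Nat.card (E (G := G) a c) = 1 := by rw [← map_pow, h5, map_one]
    rw [hk, pow_succ, pow_mul, h2, one_pow, one_mul] at h6
    exact h6
  have hsum2 : ∑ y : stabilizer G a, μ y ^ 2 = 0 := by
    have := sum_hom_eq_zero ((powMonoidHom 2 : ℂˣ →* ℂˣ).comp f) (z := z) (by
      intro h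
      apply hz2
      apply Units.ext
      simpa using h)
    simpa [hμ] using this
  -- the pointwise formula
  have hidx : ((stabilizer G a).index : ℂ) = (Nat.card H : ℂ) + 1 := by
    have := pretrans (G := G) hC.hZ
    rw [MulAction.index_stabilizer_of_transitive, Nat.card_eq_fintype_card, ← hHcard]
    push_cast
    rfl
  have hterm : ∀ y : stabilizer G a, μ y * conj (Φ y) =
      1 + μ y ^ 2 + (if (y : G) ∈ H then -1 else 0) + (if y = 1 then (Nat.card H : ℂ) else 0) := by
    intro y
    by_cases hy : (y : G) ∈ H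
    · have hμy : μ y = 1 := by simp [hμ, hf y hy]
      by_cases hy1 : y = 1
      · subst hy1
        rw [if_pos hy, if_pos rfl, hμy]
        have h1 : Φ ((1 : stabilizer G a) : G) = (Nat.card H : ℂ) + 1 := by
          rw [Subgroup.coe_one, hΦ, indFun_one, hidx, hμy, mul_one]
        rw [h1]
        simp only [map_add, map_natCast, map_one]
        ring
      · have hy1' : (y : G) ≠ 1 := fun h => hy1 (Subtype.ext h)
        have h1 : Φ y = 1 := indFun_kernel hC hHa hHcard hHfix f hf hy hy1'
        rw [if_pos hy, if_neg hy1, h1, hμy]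
        simp
    · have hy1 : y ≠ 1 := by
        rintro rfl
        exact hy H.one_mem
      have hy1' : (y : G) ≠ 1 := fun h => hy1 (Subtype.ext h)
      obtain ⟨c, hac, hyE⟩ := exists_second_fix hC hHa hHcard hHfix y.2 hy
      have h1 : Φ y = μ y + (μ y)⁻¹ := indFun_two hC f hac hyE hy1'
      rw [if_neg hy, if_neg hy1, h1, map_add, map_inv₀, hconj, inv_inv]
      have h0 : μ y ≠ 0 := (f y).ne_zero
      field_simp
      ring
  rw [Finset.sum_congr rfl (fun y _ => hterm y), Finset.sum_add_distrib, Finset.sum_add_distrib,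
    Finset.sum_add_distrib, hsum2]
  simp only [Finset.sum_const, Finset.card_univ, nsmul_eq_mul, mul_one, add_zero]
  rw [Finset.sum_ite_eq']
  simp only [mem_univ, if_true]
  have hHN : ∑ y : stabilizer G a, (if (y : G) ∈ H then (-1 : ℂ) else 0) = -(Nat.card H : ℂ) := by
    rw [Finset.sum_ite]
    simp only [sum_const, nsmul_eq_mul, mul_neg, mul_one]
    have : (univ.filter (fun y : stabilizer G a => (y : G) ∈ H)).card = Nat.card H := by
      rw [card_filter_eq]
      exact Nat.card_congr
        { toFun := fun y => ⟨y.1.1, y.2⟩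
          invFun := fun y => ⟨⟨y.1, hHa y.2⟩, y.2⟩
          left_inv := fun y => rfl
          right_inv := fun y => rfl }
    rw [this]
    ring
  rw [hHN]
  have h5 := card_subgroup_ne_zero (stabilizer G a)
  rw [← Nat.card_eq_fintype_card]
  field_simp
  ring

end

end Cfsg.Agent.Lib.Zass.IndLinear
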