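import Cfsg.Agent.Lib.Zass.Sharp3
import Cfsg.Agent.Lib.Zass.TwoCyclic
import Cfsg.Agent.Lib.Zass.RootFinal
import Cfsg.Agent.Lib.Involutions2.Sign

/-!
# Sharply 3-transitive groups of degree `p^f + 1`, `p` odd
-/

set_option autoImplicit false
set_option linter.unusedSectionVars false
set_option linter.unusedVariables false
set_option linter.style.haveILetI false

namespace Cfsg.Agent.Lib.Zass.Sharp3Odd

open MulAction Cfsg.Agent.Lib.Zass.Root Cfsg.Agent.Lib.Zass.Root.RootData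
open Cfsg.Agent.Lib.Zass.Sharp3 Cfsg.Agent.Lib.Zass.RootCoord Cfsg.Agent.Lib.Zass.RootFinal

universe u v w

variable {G : Type u} {Ω : Type v} {A : Type w} [Group G] [MulAction G Ω] [AddCommGroup A]
variable {R : RootData G Ω A}

/-- Involutions of `H` act as `-1`. -/
theorem neg_of_sq {g : G} (hg : g ∈ R.H) (hsq : g * g = 1) (hne : g ≠ 1) (x : A) :
    R.ap g x = -x := by
  have h1 : R.ap g (R.ap g x) = x := by
    rw [← H_mul hg hg, hsq, H_one]
  have h2 : R.ap g (x + R.ap g x) = x + R.ap g x := by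
    rw [H_add hg, h1, add_comm]
  by_contra hx
  have h3 : x + R.ap g x ≠ 0 := by
    intro h
    exact hx (eq_neg_of_add_eq_zero_right h)
  exact hne (H_fix hg h3 h2)

/-- The central involution of `H`. -/
theorem exists_iota (S : Sharp3 G Ω) {e : A} (he : e ≠ 0) (hodd : ∀ x : A, x + x = 0 → x = 0) :
    ∃ ι ∈ R.H, ι * ι = 1 ∧ ι ≠ 1 ∧ ∀ x, R.ap ι x = -x := by
  obtain ⟨g, hg, h⟩ := H_trans (R := R) S he (neg_ne_zero.mpr he)
  have hsq : g * g = 1 := by
    apply H_fix (R.H.mul_mem hg hg) he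
    rw [H_mul hg hg, h, H_neg hg, h, neg_neg]
  have hne : g ≠ 1 := by
    rintro rfl
    rw [H_one] at h
    apply he
    apply hodd
    nth_rw 1 [h]
    exact neg_add_cancel e
  exact ⟨g, hg, hsq, hne, neg_of_sq hg hsq hne⟩

/-- Set-up of the involution `s` with `s e = -e`. -/
theorem exists_special (S : Sharp3 G Ω) {e : A} (he : e ≠ 0) (hodd : ∀ x : A, x + x = 0 → x = 0) :
    ∃ s : G, R.Inv s ∧ Special s R ∧ R.ap s e = -e := by
  obtain ⟨s₀, hs₀, hs₀e⟩ := exists_inv (R := R) S he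
  obtain ⟨ι, hι, hιι, hι1, hιx⟩ := exists_iota (R := R) S he hodd
  have hcomm : s₀ * ι * s₀ = ι := by
    have h1 : s₀ * ι * s₀ ∈ R.H := hs₀.conj_mem hι
    have h2 : s₀ * ι * s₀ * (s₀ * ι * s₀) = 1 := by
      have : s₀ * ι * s₀ * (s₀ * ι * s₀) = s₀ * ι * (s₀ * s₀) * ι * s₀ := by group
      rw [this, hs₀.sq, mul_one, mul_assoc s₀ ι ι, hιι, mul_one, hs₀.sq]
    have h3 : s₀ * ι * s₀ ≠ 1 := by
      intro h
      apply hι1
      have : ι = s₀ * (s₀ * ι * s₀) * s₀ := by
        have : s₀ * (s₀ * ι * s₀) * s₀ = (s₀ * s₀) * ι * (s₀ * s₀) := by group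
        rw [this, hs₀.sq]
        group
      rw [this, h, mul_one, hs₀.sq]
    apply H_ext h1 hι
    intro x
    rw [neg_of_sq h1 h2 h3, hιx]
  have hsw : R.Sw (ι * s₀) := hs₀.sw.H_mul hι
  have hap : ∀ x, R.ap (ι * s₀) x = - R.ap s₀ x := by
    intro x
    rw [hs₀.sw.H_ap hι, hιx]
  have hsq : (ι * s₀) * (ι * s₀) = 1 := by
    have : (ι * s₀) * (ι * s₀) = ι * (s₀ * ι * s₀) := by group
    rw [this, hcomm, hιι]
  refine ⟨ι * s₀, ⟨hsw, hsq⟩, ?_, ?_⟩
  · intro x hx
    rw [kap_def, hap, hap, neg_neg, hs₀.ap_ap hx]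
  · rw [hap, hs₀e]

/-- The determinant argument: for `f` odd, no element of `H` inverts an element of order `> 2`. -/
theorem no_inversion [Finite A] {p f : ℕ} [Fact p.Prime] (hp2 : p ≠ 2) (hfo : Odd f)
    (hexp : ∀ x : A, p • x = 0) (hcard : Nat.card A = p ^ f) {c u : G} (hc : c ∈ R.H)
    (hu : u ∈ R.H) (h : c * u * c⁻¹ = u⁻¹) : u * u = 1 := by
  classical
  by_contra hne
  have instM : Module (ZMod p) A := AddCommGroup.zmodModule hexp
  haveI : Fintype A := Fintype.ofFinite A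
  let T : R.H → (A →ₗ[ZMod p] A) := fun g => (R.hom g : A →+ A).toZModLinearMap p
  have hu' : u⁻¹ ∈ R.H := R.H.inv_mem hu
  let U₁ : A →ₗ[ZMod p] A := T ⟨u, hu⟩
  let U₂ : A →ₗ[ZMod p] A := T ⟨u⁻¹, hu'⟩
  let x : A →ₗ[ZMod p] A := U₁ - U₂
  have hxinj : LinearMap.ker x = ⊥ := by
    rw [LinearMap.ker_eq_bot']
    intro v hv
    by_contra hv0
    apply hne
    have h1 : R.ap u v = R.ap u⁻¹ v := by
      have : U₁ v - U₂ v = 0 := hv
      exact sub_eq_zero.mp this
    apply H_fix (R.H.mul_mem hu hu) hv0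
    rw [H_mul hu hu, h1, H_inv' hu]
  have hdet : LinearMap.det x ≠ 0 := by
    intro h0
    have := LinearMap.bot_lt_ker_of_det_eq_zero h0
    rw [hxinj] at this
    exact lt_irrefl _ this
  have hTc : LinearMap.det (T ⟨c, hc⟩) ≠ 0 := by
    intro h0
    have := LinearMap.bot_lt_ker_of_det_eq_zero h0
    have h2 : LinearMap.ker (T ⟨c, hc⟩) = ⊥ := by
      rw [LinearMap.ker_eq_bot']
      intro v hv
      by_contra hv0
      exact H_ne_zero hc hv0 hv
    rw [h2] at this
    exact lt_irrefl _ this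
  have hconj : T ⟨c, hc⟩ * x = (-x) * T ⟨c, hc⟩ := by
    ext v
    have h1 : c * u = u⁻¹ * c := by
      rw [← h]; group
    have h2 : c * u⁻¹ = u * c := by
      have h4 : c * u⁻¹ * c⁻¹ = (c * u * c⁻¹)⁻¹ := by group
      rw [h, inv_inv] at h4
      calc c * u⁻¹ = c * u⁻¹ * c⁻¹ * c := by group
        _ = u * c := by rw [h4]
    show R.ap c (R.ap u v - R.ap u⁻¹ v) = -(R.ap u (R.ap c v) - R.ap u⁻¹ (R.ap c v))
    rw [H_sub hc, ← H_mul hc hu, ← H_mul hc hu', ← H_mul hu hc, ← H_mul hu' hc, h1, h2]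
    abel
  have h3 := congrArg LinearMap.det hconj
  rw [map_mul, map_mul, mul_comm] at h3
  have h4 : LinearMap.det x = LinearMap.det (-x) := mul_right_cancel₀ hTc h3
  have h5 : (-x) = (-1 : ZMod p) • x := by simp
  rw [h5, LinearMap.det_smul] at h4
  have h6 : (1 : ZMod p) = (-1) ^ Module.finrank (ZMod p) A := by
    have h7 : (1 : ZMod p) * LinearMap.det x = (-1) ^ Module.finrank (ZMod p) A * LinearMap.det x := by
      rw [one_mul]; exact h4
    exact mul_right_cancel₀ hdet h7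
  have h8 : Module.finrank (ZMod p) A = f := by
    have h9 := Module.card_eq_pow_finrank (K := ZMod p) (V := A)
    rw [ZMod.card, ← Nat.card_eq_fintype_card, hcard] at h9
    exact (Nat.pow_right_injective (Nat.Prime.two_le Fact.out) h9).symm
  rw [h8, hfo.neg_one_pow] at h6
  have h10 : (2 : ZMod p) = 0 := by
    have : (1 : ZMod p) + 1 = 0 := by nth_rw 1 [h6]; ring
    rw [← this]; norm_num
  have h11 : p ∣ 2 := by
    have := (ZMod.natCast_eq_zero_iff 2 p).mp (by exact_mod_cast h10)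
    exact this
  exact hp2 ((Nat.prime_dvd_prime_iff_eq Fact.out Nat.prime_two).mp h11)

theorem ringHom_eq_id_of_sq {K : Type*} [Field K] [Fintype K] {p f : ℕ} (hp : p.Prime) [CharP K p]
    (hcard : Fintype.card K = p ^ f) (hf : Odd f) (σ : K →+* K) (hσ : ∀ k, σ (σ k) = k) (k : K) :
    σ k = k := by
  classical
  by_contra hne
  haveI : Fact p.Prime := ⟨hp⟩
  let τ : K ≃+* K := RingEquiv.ofRingHom σ σ (by ext x; exact hσ x) (by ext x; exact hσ x)
  have hτ1 : τ ≠ 1 := by
    intro h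
    apply hne
    have := congrArg (fun t : K ≃+* K => t k) h
    exact this
  have hτ2 : τ * τ = 1 := by
    ext x
    exact hσ x
  have hord : orderOf τ = 2 := by
    apply orderOf_eq_prime
    · rw [pow_two]; exact hτ2
    · exact hτ1
  haveI : Finite (K ≃+* K) := Finite.of_injective (fun t : K ≃+* K => (t : K → K)) (fun a b h => by
    ext x; exact congrFun h x)
  let Γ : Subgroup (K ≃+* K) := Subgroup.zpowers τ
  haveI : Fintype Γ := Fintype.ofFinite Γ
  have hΓ : Fintype.card Γ = 2 := by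
    rw [← Nat.card_eq_fintype_card, Nat.card_zpowers, hord]
  letI : MulSemiringAction Γ K := inferInstance
  haveI : FaithfulSMul Γ K := ⟨fun {a b} h => by
    apply Subtype.ext
    ext x
    exact h x⟩
  have h1 := FixedPoints.finrank_eq_card Γ K
  rw [hΓ] at h1
  let K₀ := FixedPoints.subfield Γ K
  haveI : Fintype K₀ := Fintype.ofFinite K₀
  have h2 := Module.card_eq_pow_finrank (K := K₀) (V := K)
  rw [h1, hcard] at h2
  haveI : CharP K₀ p := by
    exact (RingHom.charP_iff (algebraMap K₀ K) (algebraMap K₀ K).injective p).mpr inferInstance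
  obtain ⟨n, hn1, hn2⟩ := FiniteField.card K₀ p
  rw [hn2, ← pow_mul] at h2
  have h3 := Nat.pow_right_injective hp.two_le h2
  rw [h3] at hf
  exact (Nat.not_odd_iff_even.mpr (even_two.mul_left _)) hf


section Sign

variable [Finite G] [Fintype Ω] [DecidableEq Ω]

/-- The sign character of the action. -/
noncomputable def sgn (G : Type u) (Ω : Type v) [Group G] [MulAction G Ω] [Fintype Ω] [DecidableEq Ω] :
    G →* ℤˣ :=
  Equiv.Perm.sign.comp (MulAction.toPermHom G Ω)

theorem sgn_apply (g : G) : sgn G Ω g = Equiv.Perm.sign (MulAction.toPerm g : Equiv.Perm Ω) := rfl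

/-- The sign of an element of `H` generating a Sylow `2`-subgroup. -/
theorem sgn_eq_neg_one [Finite A] {e : A} (he : e ≠ 0) {g : G} (hg : g ∈ R.H) {k m : ℕ} (hk : 0 < k)
    (hord : orderOf g = 2 ^ k) (hcard : Nat.card A = 2 ^ k * m + 1) (hm : Odd m) :
    sgn G Ω g = -1 := by
  classical
  haveI := Fintype.ofFinite A
  let σ : Equiv.Perm Ω := MulAction.toPerm g
  have hσpow : ∀ (n : ℕ) (y : Ω), (σ ^ n) y = g ^ n • y := by
    intro n y
    have : σ ^ n = MulAction.toPerm (g ^ n) := by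
      show (MulAction.toPermHom G Ω g) ^ n = MulAction.toPermHom G Ω (g ^ n)
      rw [map_pow]
    rw [this]
    rfl
  let q : Ω → Prop := fun y => y ≠ R.inf ∧ y ≠ R.o
  have hq : ∀ y, q (σ y) ↔ q y := by
    intro y
    have h1 : σ y = g • y := rfl
    rw [h1]
    constructor
    · rintro ⟨h2, h3⟩
      refine ⟨?_, ?_⟩
      · rintro rfl
        exact h2 hg.1
      · rintro rfl
        exact h3 hg.2
    · rintro ⟨h2, h3⟩
      refine ⟨?_, ?_⟩
      · intro h4
        apply h2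
        apply smul_left_cancel g
        rw [h4, hg.1]
      · intro h4
        apply h3
        apply smul_left_cancel g
        rw [h4, hg.2]
  have hq2 : ∀ y, σ y ≠ y → q y := by
    intro y hy
    refine ⟨?_, ?_⟩
    · rintro rfl
      exact hy hg.1
    · rintro rfl
      exact hy hg.2
  rw [sgn_apply]
  show Equiv.Perm.sign σ = -1
  rw [← Equiv.Perm.sign_subtypePerm σ hq hq2]
  set τ := Equiv.Perm.subtypePerm σ hq with hτ
  have hτpow : ∀ (n : ℕ) (y : {y // q y}), ((τ ^ n) y : Ω) = g ^ n • (y : Ω) := by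
    intro n y
    rw [hτ, Equiv.Perm.subtypePerm_pow, Equiv.Perm.subtypePerm_apply]
    exact hσpow n y
  have h1 : τ ^ (2 ^ k) = 1 := by
    ext y
    rw [hτpow, ← hord, pow_orderOf_eq_one, one_smul]
    rfl
  have hfree : ∀ y, (τ ^ (2 ^ (k - 1))) y ≠ y := by
    intro y hy
    have h2 : g ^ (2 ^ (k - 1)) • (y : Ω) = y := by
      rw [← hτpow, hy]
    have h3 : g ^ 2 ^ (k - 1) ∈ R.H := R.H.pow_mem hg _
    have h4 : g ^ 2 ^ (k - 1) = 1 :=
      R.fix3 _ R.inf R.o y (Ne.symm R.o_ne) (Ne.symm y.2.2) (Ne.symm y.2.1) h3.1 h3.2 h2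
    have h5 := orderOf_dvd_of_pow_eq_one h4
    rw [hord] at h5
    have h6 := (Nat.pow_dvd_pow_iff_le_right (by norm_num : 1 < 2)).mp h5
    omega
  rw [Cfsg.Agent.Lib.Involutions2.Sign.sign_of_free_pow_two τ hk h1 hfree]
  have hcardq : Fintype.card {y // q y} = 2 ^ k * m := by
    let f : {x : A // x ≠ 0} → {y // q y} := fun x => ⟨R.pt x, R.pt_ne x, Sharp3.pt_ne_o x.2⟩
    have hf : Function.Bijective f := by
      constructor
      · intro x y h
        exact Subtype.ext (R.pt_inj (congrArg Subtype.val h))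
      · rintro ⟨y, hy1, hy2⟩
        obtain ⟨x, hx⟩ := R.pt_surj y hy1
        refine ⟨⟨x, ?_⟩, Subtype.ext hx⟩
        rintro rfl
        exact hy2 hx.symm
    rw [← Fintype.card_of_bijective hf, Fintype.card_subtype_compl, Fintype.card_subtype_eq,
      ← Nat.card_eq_fintype_card, hcard]
    omega
  rw [hcardq, Nat.mul_div_cancel_left _ (by positivity), hm.neg_one_pow]

end Sign

/-- In the presence of the determinant argument, `H` contains an element of sign `-1`. -/
theorem exists_neg_sign [Finite G] [Fintype Ω] [DecidableEq Ω] (S : Sharp3 G Ω) [Finite A]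
    {p f : ℕ} (hp : p.Prime) (hp2 : p ≠ 2) (hfo : Odd f)
    (hexp : ∀ x : A, p • x = 0) (hcard : Nat.card A = p ^ f) {e : A} (he : e ≠ 0) :
    ∃ g ∈ R.H, sgn G Ω g = -1 := by
  classical
  haveI : Fact p.Prime := ⟨hp⟩
  haveI : Fact (Nat.Prime 2) := ⟨Nat.prime_two⟩
  have hcH : Nat.card R.H + 1 = Nat.card A := card_H S he
  have hpodd : Odd p := hp.odd_of_ne_two hp2
  have hodd : ∀ x : A, x + x = 0 → x = 0 := by
    intro x hx
    obtain ⟨k, hk⟩ := hpodd
    have h1 := hexp x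
    rw [hk, add_nsmul, one_nsmul] at h1
    have h2 : (2 * k) • x = k • (x + x) := by rw [two_mul, add_nsmul, nsmul_add]
    rw [h2, hx, nsmul_zero, zero_add] at h1
    exact h1
  have hinvol : ∀ a b : G, a ∈ R.H → b ∈ R.H → a * a = 1 → b * b = 1 → a ≠ 1 → b ≠ 1 → a = b := by
    intro a b ha hb h1 h2 h3 h4
    apply H_ext ha hb
    intro x
    rw [neg_of_sq ha h1 h3, neg_of_sq hb h2 h4]
  -- a Sylow `2`-subgroup of `H`
  obtain ⟨P⟩ : Nonempty (Sylow 2 R.H) := inferInstance
  have hPcyc : IsCyclic P := by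
    refine Cfsg.Agent.Lib.Zass.TwoCyclic.isCyclic_of_no_inversion _ rfl P.isPGroup' ?_ ?_
    · intro x y hx hy hx1 hy1
      have h1 := hinvol ((x : R.H) : G) ((y : R.H) : G) (x : R.H).2 (y : R.H).2
        (congrArg (fun t : P => ((t : R.H) : G)) hx) (congrArg (fun t : P => ((t : R.H) : G)) hy)
        (fun h => hx1 (Subtype.ext (Subtype.ext h))) (fun h => hy1 (Subtype.ext (Subtype.ext h)))
      exact Subtype.ext (Subtype.ext h1)
    · intro c u h
      have h1 := no_inversion (R := R) hp2 hfo hexp hcard (c : R.H).2 (u : R.H).2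
        (congrArg (fun t : P => ((t : R.H) : G)) h)
      exact Subtype.ext (Subtype.ext h1)
  obtain ⟨g, hg⟩ := IsCyclic.exists_generator (α := P)
  have hord : orderOf g = Nat.card P := orderOf_eq_card_of_forall_mem_zpowers hg
  obtain ⟨k, hk⟩ := IsPGroup.iff_card.mp P.isPGroup'
  have hidx : ¬ 2 ∣ (P : Subgroup R.H).index := P.not_dvd_index
  have hodd' : Odd (P : Subgroup R.H).index := Nat.odd_iff.mpr (by omega)
  have hc1 : Nat.card R.H = 2 ^ k * (P : Subgroup R.H).index := by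
    rw [← hk]
    exact (Subgroup.card_mul_index (P : Subgroup R.H)).symm
  have hAodd : Odd (Nat.card A) := by
    rw [hcard]
    exact hpodd.pow
  have hk0 : 0 < k := by
    by_contra h0
    have h1 : k = 0 := by omega
    rw [h1, pow_zero, one_mul] at hc1
    have h2 : Odd (Nat.card R.H) := hc1 ▸ hodd'
    rw [← hcH] at hAodd
    exact (Nat.not_even_iff_odd.mpr hAodd) (h2.add_one)
  refine ⟨((g : R.H) : G), (g : R.H).2, sgn_eq_neg_one he (g : R.H).2 hk0 ?_ ?_ hodd'⟩
  · rw [Subgroup.orderOf_coe, Subgroup.orderOf_coe, hord, hk]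
  · rw [← hcH, hc1]


/-- The subgroup of even elements of `H`. -/
theorem card_even_H [Finite G] [Fintype Ω] [DecidableEq Ω] {g₀ : G} (hg₀ : g₀ ∈ R.H)
    (hsign : sgn G Ω g₀ = -1) :
    Nat.card ((sgn G Ω).ker ⊓ R.H : Subgroup G) * 2 = Nat.card R.H := by
  classical
  let φ : R.H →* ℤˣ := (sgn G Ω).comp R.H.subtype
  have hsurj : Function.Surjective φ := by
    intro u
    rcases Int.units_eq_one_or u with rfl | rfl
    · exact ⟨1, map_one φ⟩
    · exact ⟨⟨g₀, hg₀⟩, hsign⟩
  have h1 : φ.ker.index = 2 := by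
    rw [Subgroup.index_ker, MonoidHom.range_eq_top.mpr hsurj, Subgroup.card_top, Nat.card_eq_fintype_card,
      Fintype.card_units_int]
  have h2 := Subgroup.card_mul_index φ.ker
  rw [h1] at h2
  rw [← h2]
  congr 1
  apply Nat.card_congr
  exact
    { toFun := fun x => ⟨⟨x.1, x.2.2⟩, x.2.1⟩
      invFun := fun x => ⟨x.1.1, x.2, x.1.2⟩
      left_inv := fun x => rfl
      right_inv := fun x => rfl }

/-- **Zassenhaus**: sharply 3-transitive of degree `p^f + 1`, `p` and `f` odd. -/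
theorem main_odd [Finite G] [Fintype Ω] [DecidableEq Ω] (S : Sharp3 G Ω) (R : RootData G Ω A) [Finite A]
    {p f : ℕ} (hp : p.Prime) (hp2 : p ≠ 2) (hfo : Odd f)
    (hexp : ∀ x : A, p • x = 0) (hcard : Nat.card A = p ^ f) :
    ∃ (K : Type) (_ : Field K) (_ : Fintype K), Fintype.card K = p ^ f ∧
      Nonempty (G ≃* Matrix.ProjGenLinGroup (Fin 2) K) := by
  classical
  haveI : Fact p.Prime := ⟨hp⟩
  have hpodd : Odd p := hp.odd_of_ne_two hp2
  have hodd : ∀ x : A, x + x = 0 → x = 0 := by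
    intro x hx
    obtain ⟨k, hk⟩ := hpodd
    have h1 := hexp x
    rw [hk, add_nsmul, one_nsmul] at h1
    have h2 : (2 * k) • x = k • (x + x) := by rw [two_mul, add_nsmul, nsmul_add]
    rw [h2, hx, nsmul_zero, zero_add] at h1
    exact h1
  have hf0 : f ≠ 0 := by
    rintro rfl
    exact (Nat.not_odd_iff_even.mpr Even.zero) hfo
  haveI : Nontrivial A := by
    rw [← Finite.one_lt_card_iff_nontrivial, hcard]
    exact Nat.one_lt_pow hf0 hp.one_lt
  obtain ⟨e, he⟩ := exists_ne (0 : A)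
  obtain ⟨s, hs, hsp, hse⟩ := exists_special (R := R) S he hodd
  have hmu : ∀ x : A, x ≠ 0 → mu s R x * mu s R x = 1 := fun x hx => mu_sq S hs hsp he hse hx
  obtain ⟨g₀, hg₀, hsign⟩ := exists_neg_sign (R := R) S hp hp2 hfo hexp hcard he
  set N : Subgroup G := (sgn G Ω).ker ⊓ R.H with hN
  have hcN : Nat.card N * 2 = Nat.card R.H := card_even_H hg₀ hsign
  have hcH : Nat.card R.H + 1 = Nat.card A := card_H S he
  have hNH : N ≤ R.H := inf_le_right
  have hmem : ∀ x : A, x ≠ 0 → mu s R x * s ∈ N := by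
    intro x hx
    refine Subgroup.mem_inf.mpr ⟨?_, mu_mem hs hx⟩
    obtain ⟨g, hg, rfl⟩ := H_trans (R := R) S he hx
    rw [← mu_conj hs hg he, mu_self hs hsp he hse, MonoidHom.mem_ker, map_mul, map_mul, map_mul,
      map_inv]
    have h1 := Int.units_mul_self (sgn G Ω s)
    calc sgn G Ω g * sgn G Ω s * (sgn G Ω g)⁻¹ * sgn G Ω s
        = sgn G Ω g * (sgn G Ω g)⁻¹ * (sgn G Ω s * sgn G Ω s) := by
          rw [mul_comm (sgn G Ω g) (sgn G Ω s), mul_assoc (sgn G Ω s), mul_comm (sgn G Ω s)]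
          simp
      _ = 1 := by rw [h1]; simp
  have hinv := inverts_of_card hs hsp hmu N hmem 2 (Or.inl rfl) (by omega)
  obtain ⟨K, iF, iFt, ε, χ, h1, hmul, hgen, hinj, hsx⟩ :=
    coords R hs hsp N hNH hinv he hse (Or.inl (by omega))
  have hKcard : Fintype.card K = p ^ f := by
    rw [← hcard, ← Nat.card_congr ε.toEquiv, Nat.card_eq_fintype_card]
  obtain ⟨q, hq⟩ := CharP.exists K
  have hqp : q = p := by
    obtain ⟨n, hn1, hn2⟩ := FiniteField.card K q
    rw [hKcard] at hn2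
    have h2 : q ∣ p ^ f := by
      rw [hn2]
      exact dvd_pow_self q n.ne_zero
    exact (Nat.prime_dvd_prime_iff_eq hn1 hp).mp (hn1.dvd_of_dvd_pow h2)
  subst hqp
  -- every element of `H` acts as a scalar
  have hH : ∀ h ∈ R.H, ∃ a : K, a ≠ 0 ∧ ∀ k, R.ap h (ε k) = ε (a * k) := by
    intro h hh
    let F : K →+ K :=
      { toFun := fun k => ε.symm (R.ap h (ε k))
        map_zero' := by rw [map_zero, H_ap_zero hh, map_zero]
        map_add' := fun a b => by rw [map_add, H_add hh, map_add] }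
    have hFdef : ∀ k, ε (F k) = R.ap h (ε k) := fun k => by
      show ε (ε.symm (R.ap h (ε k))) = _
      rw [AddEquiv.apply_symm_apply]
    have hFinj : Function.Injective F := by
      intro a b hab
      apply ε.injective
      rw [← H_inv hh (ε a), ← H_inv hh (ε b), ← hFdef, ← hFdef, hab]
    have hconjN : ∀ γ ∈ N, h * γ * h⁻¹ ∈ N := by
      intro γ hγ
      refine Subgroup.mem_inf.mpr ⟨?_, R.H.mul_mem (R.H.mul_mem hh (hNH hγ)) (R.H.inv_mem hh)⟩
      exact (inferInstance : (sgn G Ω).ker.Normal).conj_mem γ hγ.1 h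
    obtain ⟨σ, hσ⟩ := Cfsg.Agent.Lib.Zass.FieldOf.exists_semilinear χ hgen F hFinj (by
      intro γ
      refine ⟨⟨_, hconjN γ γ.2⟩, fun l => ?_⟩
      apply ε.injective
      rw [hFdef, ← hmul, ← hmul, hFdef, ← H_mul hh (hNH γ.2)]
      show _ = R.ap (h * γ * h⁻¹) (R.ap h (ε l))
      rw [← H_mul (R.H.mul_mem (R.H.mul_mem hh (hNH γ.2)) (R.H.inv_mem hh)) hh]
      congr 1
      group)
    have hhh : h * h ∈ N := by
      refine Subgroup.mem_inf.mpr ⟨?_, R.H.mul_mem hh hh⟩
      rw [MonoidHom.mem_ker, map_mul, Int.units_mul_self]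
    have hσσ : ∀ k, σ (σ k) = k := by
      intro k
      set c : K := (χ ⟨h * h, hhh⟩ : K) with hc
      have hFF : ∀ l, F (F l) = c * l := by
        intro l
        apply ε.injective
        rw [hFdef, hFdef, ← H_mul hh hh, hc]
        exact hmul ⟨h * h, hhh⟩ l
      have h2 : F (F (k * 1)) = σ (σ k) * F (F 1) := by
        rw [hσ, hσ]
      rw [hFF, hFF, mul_one, mul_one] at h2
      have hc0 : c ≠ 0 := Units.ne_zero _
      have h3 : σ (σ k) * c = k * c := by rw [← h2, mul_comm]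
      exact mul_right_cancel₀ hc0 h3
    have hσ1 : ∀ k, σ k = k := fun k => ringHom_eq_id_of_sq hp hKcard hfo σ hσσ k
    refine ⟨F 1, ?_, fun k => ?_⟩
    · intro h0
      have : F 1 = F 0 := by rw [h0, map_zero]
      exact one_ne_zero (hFinj this)
    · have h2 := hσ k 1
      rw [mul_one, hσ1] at h2
      rw [← hFdef, h2, mul_comm]
  refine ⟨K, iF, iFt, hKcard, pgl_of_scalar R ε hs hsx hH hcH⟩

end Cfsg.Agent.Lib.Zass.Sharp3Odd
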