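import Mathlib

/-!
# A combinatorial lemma on integer matrices

If the rows of a non-negative integer matrix have `r_i · r_k = c + δ_ik`, the columns are non-zero and
there are at least `|rows| + c` columns, then some column is a unit vector.
-/

set_option autoImplicit false

namespace Cfsg.Agent.Lib.Zass.UnitColumn

open Finset

variable {I C : Type*} [Fintype I] [Fintype C] [DecidableEq I] [DecidableEq C]

theorem unit_column (a : I → C → ℕ) (c : ℕ)
    (h : ∀ i k, ∑ X, a i X * a k X = c + if i = k then 1 else 0)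
    (hcol : ∀ X, ∃ i, a i X ≠ 0) (hw : Fintype.card I + c ≤ Fintype.card C)
    (hI : 2 ≤ Fintype.card I) : ∃ k X, a k X = 1 ∧ ∀ i, i ≠ k → a i X = 0 := by
  -- the sum of squares of differences
  have hdiff : ∀ i k, i ≠ k → ∑ X, ((a k X : ℤ) - a i X) ^ 2 = 2 := by
    intro i k hik
    have h1 := h i i
    have h2 := h k k
    have h3 := h i k
    rw [if_pos rfl] at h1 h2
    rw [if_neg hik] at h3
    have : ∀ X, ((a k X : ℤ) - a i X) ^ 2 = (a k X * a k X : ℕ) + (a i X * a i X : ℕ) -
        2 * (a i X * a k X : ℕ) := by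
      intro X
      push_cast
      ring
    simp only [this]
    rw [Finset.sum_sub_distrib, Finset.sum_add_distrib, ← Finset.mul_sum]
    simp only [← Nat.cast_sum]
    rw [h1, h2, h3]
    push_cast
    ring
  have hcross : ∀ i k, i ≠ k → ∑ X, ((a k X : ℤ) - a i X) * a i X = -1 := by
    intro i k hik
    have h1 := h i i
    have h3 := h i k
    rw [if_pos rfl] at h1
    rw [if_neg hik] at h3
    have : ∀ X, ((a k X : ℤ) - a i X) * a i X = (a i X * a k X : ℕ) - (a i X * a i X : ℕ) := by
      intro X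
      push_cast
      ring
    simp only [this]
    rw [Finset.sum_sub_distrib]
    simp only [← Nat.cast_sum]
    rw [h1, h3]
    push_cast
    ring
  -- at most one new column
  have hD : ∀ i k, i ≠ k → ∀ p q, a i p = 0 → a k p ≠ 0 → a i q = 0 → a k q ≠ 0 → p = q := by
    intro i k hik p q hp hp' hq hq'
    by_contra hpq
    have hnn : ∀ X ∈ (Finset.univ : Finset C), 0 ≤ ((a k X : ℤ) - a i X) ^ 2 := fun X _ => sq_nonneg _
    have hdp : 1 ≤ ((a k p : ℤ) - a i p) ^ 2 := by
      rw [hp]
      have : (1 : ℤ) ≤ a k p := by exact_mod_cast Nat.one_le_iff_ne_zero.mpr hp'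
      push_cast
      nlinarith
    have hdq : 1 ≤ ((a k q : ℤ) - a i q) ^ 2 := by
      rw [hq]
      have : (1 : ℤ) ≤ a k q := by exact_mod_cast Nat.one_le_iff_ne_zero.mpr hq'
      push_cast
      nlinarith
    have hzero : ∀ X, X ≠ p → X ≠ q → (a k X : ℤ) - a i X = 0 := by
      intro X hXp hXq
      have hsub : ({p, q, X} : Finset C) ⊆ Finset.univ := Finset.subset_univ _
      have hle := Finset.sum_le_sum_of_subset_of_nonneg hsub (fun Y hY _ => hnn Y hY)
      rw [hdiff i k hik, Finset.sum_insert (by simp [hpq, Ne.symm hXp]),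
        Finset.sum_pair (Ne.symm hXq)] at hle
      have : ((a k X : ℤ) - a i X) ^ 2 ≤ 0 := by linarith
      have h0 := le_antisymm this (sq_nonneg _)
      exact pow_eq_zero_iff (two_ne_zero) |>.mp h0
    have hs := hcross i k hik
    rw [Finset.sum_eq_zero] at hs
    · omega
    · intro X _
      by_cases hXp : X = p
      · rw [hXp, hp]; simp
      by_cases hXq : X = q
      · rw [hXq, hq]; simp
      rw [hzero X hXp hXq, zero_mul]
  -- the first row and its support
  have hne : Nonempty I := Fintype.card_pos_iff.mp (by omega)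
  obtain ⟨i₀⟩ := hne
  set S₀ : Finset C := Finset.univ.filter (fun X => a i₀ X ≠ 0) with hS₀
  have hS₀card : S₀.card ≤ c + 1 := by
    have h1 := h i₀ i₀
    rw [if_pos rfl] at h1
    rw [← h1, Finset.card_eq_sum_ones]
    calc ∑ _X ∈ S₀, 1 ≤ ∑ X ∈ S₀, a i₀ X * a i₀ X := by
          apply Finset.sum_le_sum
          intro X hX
          have := (Finset.mem_filter.mp hX).2
          exact Nat.mul_pos (Nat.pos_of_ne_zero this) (Nat.pos_of_ne_zero this)
      _ ≤ ∑ X, a i₀ X * a i₀ X := Finset.sum_le_sum_of_subset (Finset.subset_univ _)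
  -- the other columns
  let C' := {X : C // a i₀ X = 0}
  have hfex : ∀ X : C', ∃ k : {k : I // k ≠ i₀}, a k X.1 ≠ 0 := by
    intro X
    obtain ⟨k, hk⟩ := hcol X.1
    refine ⟨⟨k, ?_⟩, hk⟩
    rintro rfl
    exact hk X.2
  choose f hf using hfex
  have hfinj : Function.Injective f := by
    intro X X' hXX
    apply Subtype.ext
    have h1 := hf X
    have h2 := hf X'
    rw [← hXX] at h2
    exact hD i₀ (f X).1 (Ne.symm (f X).2) _ _ X.2 h1 X'.2 h2
  have hC'card : Fintype.card C' + S₀.card = Fintype.card C := by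
    rw [Fintype.card_subtype, hS₀, ← Finset.card_univ (α := C)]
    have := Finset.card_filter_add_card_filter_not (s := (Finset.univ : Finset C)) (fun X => a i₀ X = 0)
    simpa using this
  have hk0 : Fintype.card {k : I // k ≠ i₀} = Fintype.card I - 1 := by
    rw [Fintype.card_subtype_compl, Fintype.card_subtype_eq]
  have hle := Fintype.card_le_of_injective f hfinj
  have hbij : Function.Bijective f := by
    rw [Fintype.bijective_iff_injective_and_card]
    refine ⟨hfinj, ?_⟩
    omega
  -- choose the second row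
  have hnt : Nonempty {k : I // k ≠ i₀} := Fintype.card_pos_iff.mp (by omega)
  obtain ⟨k₀⟩ := hnt
  obtain ⟨p, hp⟩ := hbij.2 k₀
  refine ⟨k₀.1, p.1, ?_, ?_⟩
  · -- the entry is one
    have h1 := hf p
    rw [hp] at h1
    have h2 := hdiff i₀ k₀.1 (Ne.symm k₀.2)
    have h3 : ((a k₀.1 p.1 : ℤ) - a i₀ p.1) ^ 2 ≤ ∑ X, ((a k₀.1 X : ℤ) - a i₀ X) ^ 2 :=
      Finset.single_le_sum (f := fun X => ((a k₀.1 X : ℤ) - a i₀ X) ^ 2)
        (fun X _ => sq_nonneg _) (Finset.mem_univ p.1)
    rw [h2, p.2] at h3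
    push_cast at h3
    have h4 : (a k₀.1 p.1 : ℤ) ^ 2 ≤ 2 := by simpa using h3
    have h5 : a k₀.1 p.1 ^ 2 ≤ 2 := by exact_mod_cast h4
    have h6 : a k₀.1 p.1 < 2 := by
      by_contra hcon
      push Not at hcon
      have : 2 ^ 2 ≤ a k₀.1 p.1 ^ 2 := Nat.pow_le_pow_left hcon 2
      omega
    omega
  · intro i hi
    by_cases hii : i = i₀
    · rw [hii]
      exact p.2
    by_contra hne
    obtain ⟨p', hp'⟩ := hbij.2 ⟨i, hii⟩
    have h1 := hf p'
    rw [hp'] at h1
    have h2 := hD i₀ i (Ne.symm hii) _ _ p'.2 h1 p.2 hne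
    have h3 : p' = p := Subtype.ext h2
    rw [h3, hp] at hp'
    exact hi (congrArg Subtype.val hp').symm

end Cfsg.Agent.Lib.Zass.UnitColumn
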