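import Cfsg.Agent.Lib.Zass.NoSharp
import Cfsg.Agent.Lib.Zass.UnitColumn
import Cfsg.Agent.Lib.CharDeep.FrobRelevant
import Cfsg.Agent.S0884

/-!
# Zassenhaus groups with abelian kernel: `h - 1 ≤ 2 e`
-/

set_option autoImplicit false
set_option linter.unusedSectionVars false
set_option linter.unusedVariables false
set_option linter.style.haveILetI false

namespace Cfsg.Agent.Lib.Zass.AbKernel

open Cfsg MulAction
open Cfsg.Agent.Lib.Zass.Basic Cfsg.Agent.Lib.Zass.Stab Cfsg.Agent.Lib.Zass.Infl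
  Cfsg.Agent.Lib.Zass.NoSharp
  Cfsg.Agent.Lib.CharDeep.Zassenhaus Cfsg.Agent.Lib.Char.Induced
  Cfsg.Agent.Lib.CharDeep.FrobRelevant Cfsg.Agent.Lib.Coh.FrobDeg Cfsg.Agent.Lib.Coh.DegSum
open Cfsg.Agent.Lib.Char.Basic Cfsg.Agent.Lib.Char.Ortho Cfsg.Agent.Lib.Char.Complete
open Cfsg.Agent.Lib.Char.Degree Cfsg.Agent.Lib.Char.Conj Cfsg.Agent.Lib.Char.Linear
open Cfsg.Agent.Lib.OddChar.FixedClass
open Finset
open scoped ComplexConjugate Classical

universe u v

variable {G : Type u} {Ω : Type v} [Group G] [MulAction G Ω] [Fintype G] [Fintype Ω]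
variable {a b : Ω} {H : Subgroup G} (D : Data a b H)

include D

theorem normal_sub : (H.subgroupOf (stabilizer G a)).Normal := by
  constructor
  intro u hu g
  rw [Subgroup.mem_subgroupOf] at hu ⊢
  exact conj_mem D g.2 hu

theorem central_sub (h : stabilizer G a) (hh : h ∈ H.subgroupOf (stabilizer G a)) (hh1 : h ≠ 1) :
    Subgroup.centralizer ({h} : Set (stabilizer G a)) ≤ H.subgroupOf (stabilizer G a) := by
  intro x hx
  rw [Subgroup.mem_subgroupOf]
  rw [Subgroup.mem_subgroupOf] at hh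
  have hh1' : (h : G) ≠ 1 := fun h1 => hh1 (Subtype.ext h1)
  rw [Subgroup.mem_centralizer_iff] at hx
  have hc : (h : G) * x = x * h := congrArg Subtype.val (hx h (Set.mem_singleton _))
  by_cases hx1 : (x : G) = 1
  · rw [hx1]
    exact H.one_mem
  apply mem_of_fix_only D.hZ.2.2.1 D.hHcard D.hHfix D.hHa x.2
  intro c hcf
  by_contra hca
  -- `x` fixes `c` and `h • c` and `a`
  have h1 : (x : G) • ((h : G) • c) = (h : G) • c := by
    rw [← mul_smul, ← hc, mul_smul, hcf]
  have h2 : (h : G) • c ≠ c := fun h3 => hca (D.hHfix _ hh hh1' c h3)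
  have h3 : (h : G) • c ≠ a := by
    intro h4
    have h5 : (h : G) • a = a := D.hHa hh
    exact hca (smul_left_cancel (h : G) (h4.trans h5.symm))
  exact hx1 (fix3 D.hZ (Ne.symm hca) (Ne.symm h2) (Ne.symm h3) x.2 hcf h1)

theorem card_sub : Nat.card (H.subgroupOf (stabilizer G a)) = Nat.card H :=
  Nat.card_congr (Subgroup.subgroupOfEquivOfLe D.hHa).toEquiv

theorem index_sub : (H.subgroupOf (stabilizer G a)).index = Nat.card (E (G := G) a b) := by
  have h1 := (H.subgroupOf (stabilizer G a)).index_mul_card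
  rw [card_sub D, card_stab D, mul_comm] at h1
  exact Nat.eq_of_mul_eq_mul_left Nat.card_pos h1

/-- A sum over the stabiliser of a function vanishing off `H`. -/
theorem sum_vanish (g : stabilizer G a → ℂ) (hg : ∀ v : stabilizer G a, (v : G) ∉ H → g v = 0) :
    ∑ v, g v = ∑ u : H, g ⟨u, D.hHa u.2⟩ := by
  symm
  apply Fintype.sum_of_injective (fun u : H => (⟨u, D.hHa u.2⟩ : stabilizer G a))
  · intro u v h
    have h1 := congrArg (fun w : stabilizer G a => (w : G)) h
    exact Subtype.ext h1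
  · intro v hv
    apply hg
    intro hvH
    exact hv ⟨⟨v, hvH⟩, rfl⟩
  · intro u
    rfl

/-- The relevant characters of the point stabiliser. -/
noncomputable abbrev rel (H : Subgroup G) (a : Ω) : Finset (stabilizer G a → ℂ) :=
  nontrivOn (H.subgroupOf (stabilizer G a))

omit D in
theorem rel_irr {φ : stabilizer G a → ℂ} (hφ : φ ∈ rel H a) : IsIrrCharacter _ φ :=
  (mem_nontrivOn.mp hφ).1

theorem rel_vanish {φ : stabilizer G a → ℂ} (hφ : φ ∈ rel H a) (v : stabilizer G a)
    (hv : (v : G) ∉ H) : φ v = 0 :=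
  vanish_off (normal_sub D) (central_sub D) hφ (by
    rw [Subgroup.mem_subgroupOf]
    exact hv)

/-- Relevant characters have degree `e` when `H` is abelian. -/
theorem rel_one (hab : ∀ x ∈ H, ∀ y ∈ H, x * y = y * x) {φ : stabilizer G a → ℂ}
    (hφ : φ ∈ rel H a) : φ 1 = (Nat.card (E (G := G) a b) : ℂ) := by
  obtain ⟨θ, hθ, -, rfl⟩ := exists_ind (normal_sub D) (central_sub D) hφ
  have hHab : ∀ x y : H.subgroupOf (stabilizer G a), x * y = y * x := by
    intro x y
    apply Subtype.ext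
    apply Subtype.ext
    exact hab _ (Subgroup.mem_subgroupOf.mp x.2) _ (Subgroup.mem_subgroupOf.mp y.2)
  rw [indFun_one, isIrr_deg_one_of_comm hHab hθ, mul_one, index_sub D]

/-- The number of relevant characters. -/
theorem card_rel (hab : ∀ x ∈ H, ∀ y ∈ H, x * y = y * x) :
    1 + Nat.card (E (G := G) a b) * (rel H a).card = Nat.card H := by
  have h1 := sum_rel_sq (normal_sub D) (central_sub D)
  rw [card_sub D, index_sub D] at h1
  rw [← h1]
  congr 2
  rw [Finset.card_eq_sum_ones]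
  refine Finset.sum_congr rfl fun φ hφ => ?_
  have h2 : charDegree φ = Nat.card (E (G := G) a b) :=
    charDegree_eq_of_eq_natCast (rel_one D hab hφ)
  have h3 := charDegree_eq (normal_sub D) (central_sub D) hφ
  rw [index_sub D, h2] at h3
  have h4 : rdeg (H.subgroupOf (stabilizer G a)) φ = 1 := by
    have hd : 0 < Nat.card (E (G := G) a b) := Nat.card_pos
    have h5 : Nat.card (E (G := G) a b) * rdeg (H.subgroupOf (stabilizer G a)) φ =
        Nat.card (E (G := G) a b) * 1 := by rw [mul_one]; exact h3.symm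
    exact Nat.eq_of_mul_eq_mul_left hd h5
  rw [h4]

/-- The trivial character does not occur in a relevant character. -/
theorem sum_rel_zero {φ : stabilizer G a → ℂ} (hφ : φ ∈ rel H a) : ∑ u : H, φ ⟨u, D.hHa u.2⟩ = 0 := by
  rw [← sum_vanish D _ (rel_vanish D hφ)]
  have h1 : φ ≠ fun _ => 1 := by
    rintro rfl
    obtain ⟨-, -, -, h2⟩ := mem_nontrivOn.mp hφ
    exact h2 rfl
  have h2 := classInner_eq_zero_of_isIrr_of_ne (rel_irr hφ) (isIrr_one_fun _) h1
  rw [classInner_subgroup_eq] at h2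
  have h3 := (mul_eq_zero.mp h2).resolve_left (inv_ne_zero (card_subgroup_ne_zero _))
  simpa using h3

/-- Orthogonality of relevant characters on `H`. -/
theorem sum_rel_rel {φ ψ : stabilizer G a → ℂ} (hφ : φ ∈ rel H a) (hψ : ψ ∈ rel H a) :
    ∑ u : H, φ ⟨u, D.hHa u.2⟩ * conj (ψ ⟨u, D.hHa u.2⟩) =
      (Nat.card (stabilizer G a) : ℂ) * if φ = ψ then 1 else 0 := by
  rw [← sum_vanish D (fun v => φ v * conj (ψ v)) (fun v hv => by
    simp [rel_vanish D hφ v hv])]
  rw [← classInner_irr (rel_irr hφ) (rel_irr hψ), classInner_subgroup_eq, ← mul_assoc,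
    mul_inv_cancel₀ (card_subgroup_ne_zero _), one_mul]

/-- The value of the induced character at `1`. -/
theorem ind_one (hab : ∀ x ∈ H, ∀ y ∈ H, x * y = y * x) {φ : stabilizer G a → ℂ} (hφ : φ ∈ rel H a) :
    indFun (stabilizer G a) φ 1 = ((Nat.card H : ℂ) + 1) * (Nat.card (E (G := G) a b) : ℂ) := by
  rw [indFun_one, index_stabilizer D, rel_one D hab hφ]
  push_cast
  rfl

/-- The value of the induced character on the kernel. -/
theorem ind_kernel {φ : stabilizer G a → ℂ} (hφ : IsClassFunction _ φ) {u : G} (hu : u ∈ H)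
    (hu1 : u ≠ 1) : indFun (stabilizer G a) φ u = φ ⟨u, D.hHa hu⟩ := by
  rw [indFun_apply]
  have h1 : ∀ x : G, extendByZero (stabilizer G a) φ (x⁻¹ * u * x) =
      if x • a = a then φ ⟨u, D.hHa hu⟩ else 0 := by
    intro x
    split_ifs with hx
    · have hxa : x ∈ stabilizer G a := hx
      have hmem : x⁻¹ * u * x ∈ stabilizer G a :=
        (stabilizer G a).mul_mem ((stabilizer G a).mul_mem ((stabilizer G a).inv_mem hxa)
          (D.hHa hu)) hxa
      rw [extendByZero_of_mem _ _ hmem]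
      have := hφ ⟨u, D.hHa hu⟩ (⟨x, hxa⟩ : stabilizer G a)⁻¹
      rw [inv_inv] at this
      exact this
    · apply extendByZero_of_not_mem
      intro h2
      apply hx
      have h3 : (x⁻¹ * u * x) • a = a := h2
      rw [mul_smul, mul_smul, inv_smul_eq_iff] at h3
      exact D.hHfix u hu hu1 _ h3
  rw [Finset.sum_congr rfl (fun x _ => h1 x), Finset.sum_ite]
  simp only [sum_const, nsmul_eq_mul, mul_zero, add_zero]
  have h4 := card_filter_smul D (c := a) (s := 1) (one_smul _ _)
  rw [h4]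
  have h5 := card_subgroup_ne_zero (stabilizer G a)
  field_simp

/-- **The inner products of the induced relevant characters.** -/
theorem inner_ind (hab : ∀ x ∈ H, ∀ y ∈ H, x * y = y * x) {φ ψ : stabilizer G a → ℂ}
    (hφ : φ ∈ rel H a) (hψ : ψ ∈ rel H a) :
    classInner (indFun (stabilizer G a) φ) (indFun (stabilizer G a) ψ) =
      (Nat.card (E (G := G) a b) : ℂ) + if φ = ψ then 1 else 0 := by
  rw [classInner_indFun_left _ _ _ (isClassFunction_indFun _ _), classInner_subgroup_eq,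
    sum_vanish D _ (fun v hv => by simp [rel_vanish D hφ v hv])]
  have hψc := isClassFunction_of_isIrrCharacter (rel_irr hψ)
  have hterm : ∀ u : H, φ ⟨u, D.hHa u.2⟩ * conj (indFun (stabilizer G a) ψ (u : G)) =
      φ ⟨u, D.hHa u.2⟩ * conj (ψ ⟨u, D.hHa u.2⟩) +
        if u = 1 then (Nat.card (E (G := G) a b) : ℂ) ^ 2 * (Nat.card H : ℂ) else 0 := by
    intro u
    by_cases hu : u = 1
    · subst hu
      have h1 : (⟨((1 : H) : G), D.hHa (1 : H).2⟩ : stabilizer G a) = 1 := rfl
      rw [if_pos rfl, h1, Subgroup.coe_one, ind_one D hab hψ, rel_one D hab hφ, rel_one D hab hψ]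
      simp only [map_mul, map_add, map_natCast, map_one]
      ring
    · rw [if_neg hu, add_zero, ind_kernel D hψc u.2 (fun h => hu (Subtype.ext h))]
  rw [Finset.sum_congr rfl (fun u _ => hterm u), Finset.sum_add_distrib, sum_rel_rel D hφ hψ,
    Finset.sum_ite_eq']
  simp only [mem_univ, if_true]
  rw [card_stab D]
  push_cast
  have h3 := card_subgroup_ne_zero H
  have h4 := card_subgroup_ne_zero (E (G := G) a b)
  field_simp
  ring

/-- The multiplicity of a relevant character in the restriction of `Y ν`. -/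
theorem inner_Y_rel (hab : ∀ x ∈ H, ∀ y ∈ H, x * y = y * x) (ν : E (G := G) a b → ℂ)
    {φ : stabilizer G a → ℂ} (hφ : φ ∈ rel H a) :
    classInner (fun v : stabilizer G a => Y D ν v) φ = ν 1 := by
  rw [classInner_subgroup_eq, sum_vanish D _ (fun v hv => by simp [rel_vanish D hφ v hv])]
  have hterm : ∀ u : H, Y D ν (u : G) * conj (φ ⟨u, D.hHa u.2⟩) =
      ν 1 * conj (φ ⟨u, D.hHa u.2⟩) +
        if u = 1 then ν 1 * (Nat.card H : ℂ) * (Nat.card (E (G := G) a b) : ℂ) else 0 := by
    intro u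
    by_cases hu : u = 1
    · subst hu
      have h1 : (⟨((1 : H) : G), D.hHa (1 : H).2⟩ : stabilizer G a) = 1 := rfl
      rw [if_pos rfl, h1, Subgroup.coe_one, Y_one D, rel_one D hab hφ]
      simp only [map_natCast]
      ring
    · rw [if_neg hu, add_zero, Y_kernel D ν u.2 (fun h => hu (Subtype.ext h))]
  rw [Finset.sum_congr rfl (fun u _ => hterm u), Finset.sum_add_distrib, ← Finset.mul_sum,
    ← map_sum, sum_rel_zero D hφ, Finset.sum_ite_eq']
  simp only [map_zero, mul_zero, zero_add, mem_univ, if_true]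
  rw [card_stab D]
  push_cast
  have h3 := card_subgroup_ne_zero H
  have h4 := card_subgroup_ne_zero (E (G := G) a b)
  field_simp

omit D in
/-- A character is constant on cosets of its kernel. -/
theorem apply_mul_of_ker {M : Type*} [Group M] [Finite M] {τ : M → ℂ} (hτ : IsCharacter M τ) {u : M}
    (hu : τ u = τ 1) (x : M) : τ (u * x) = τ x := by
  obtain ⟨f, -, hf⟩ := exists_quotient_character hτ
  have h1 : (u : M ⧸ charKer hτ) = 1 := (QuotientGroup.eq_one_iff u).mpr hu
  rw [hf]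
  simp only [Function.comp]
  rw [QuotientGroup.mk_mul, h1, one_mul]

/-- The characters trivial on the kernel do not occur in `X` when `T X = 0`. -/
theorem inner_triv_zero {X : G → ℂ} (hX : IsClassFunction G X) (hT : T a b H X = 0)
    {τ : stabilizer G a → ℂ} (hτ : τ ∈ trivOn (H.subgroupOf (stabilizer G a))) :
    classInner (fun v : stabilizer G a => X v) τ = 0 := by
  obtain ⟨hτ1, hτ2⟩ := mem_trivOn.mp hτ
  have hτc := isCharacter_of_isIrrCharacter hτ1
  rw [classInner_subgroup_eq, sum_stab D]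
  have hterm : ∀ (e : E (G := G) a b) (u : H),
      X ((prodEquiv D (u, e) : stabilizer G a) : G) * conj (τ (prodEquiv D (u, e))) =
        X ((u : G) * e) * conj (τ ⟨e, e.2.1⟩) := by
    intro e u
    have h1 : prodEquiv D (u, e) = (⟨u, D.hHa u.2⟩ : stabilizer G a) * ⟨e, e.2.1⟩ := rfl
    rw [h1, apply_mul_of_ker hτc (hτ2 _ (by
      rw [Subgroup.mem_subgroupOf]
      exact u.2))]
    rfl
  simp only [hterm, ← Finset.sum_mul, sum_kernel_mul D hX, hT]
  simp

/-- The restriction of `X` to the point stabiliser when `T X = 0`. -/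
theorem restrict_eq {X : G → ℂ} (hX : IsClassFunction G X) (hT : T a b H X = 0)
    (v : stabilizer G a) :
    X v = ∑ φ ∈ rel H a, classInner (fun v : stabilizer G a => X v) φ * φ v := by
  have hc : IsClassFunction (stabilizer G a) (fun v : stabilizer G a => X v) := fun g h => hX g h
  rw [apply_eq_sum hc v, sum_split (H := H.subgroupOf (stabilizer G a))]
  rw [Finset.sum_eq_zero (s := trivOn (H.subgroupOf (stabilizer G a))), add_zero]
  intro τ hτ
  rw [inner_triv_zero D hX hT hτ, zero_mul]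

/-! ### Characters of the two-point stabiliser when it is inverted -/

section Inverted

omit D [Fintype G] [Fintype Ω] in
theorem sig_apply_inv {s : G} (hsa : s • a = b) (hsb : s • b = a)
    (hinv : ∀ x ∈ E (G := G) a b, s⁻¹ * x * s = x⁻¹) (e : E (G := G) a b) :
    sig hsa hsb e = e⁻¹ := Subtype.ext (hinv e e.2)

omit D [Fintype Ω] in
/-- A non-trivial irreducible character `ν` differs from its twist. -/
theorem sig_ne [Fintype Ω] {s : G} (hsa : s • a = b) (hsb : s • b = a) (hinv : ∀ x ∈ E (G := G) a b, s⁻¹ * x * s = x⁻¹)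
    (hcomm : ∀ x y : E (G := G) a b, x * y = y * x)
    (hodd : Odd (Nat.card (E (G := G) a b)))
    {ν : E (G := G) a b → ℂ} (hν : IsIrrCharacter _ ν) (hν1 : ν ≠ fun _ => 1) :
    ν ∘ sig hsa hsb ≠ ν := by
  intro h
  apply hν1
  have h1 := isIrr_deg_one_of_comm hcomm hν
  obtain ⟨lam, hlam⟩ := exists_hom_of_deg_one (isCharacter_of_isIrrCharacter hν) h1
  funext e
  have h2 : ν e⁻¹ = ν e := by
    have := congrFun h e
    simp only [Function.comp, sig_apply_inv hsa hsb hinv] at this
    exact this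
  rw [hlam] at h2 ⊢
  have h3 : lam e⁻¹ = lam e := Units.ext h2
  have h4 : lam e ^ 2 = 1 := by
    rw [map_inv] at h3
    have := inv_eq_iff_mul_eq_one.mp h3
    rwa [pow_two]
  have h5 : lam e ^ Nat.card (E (G := G) a b) = 1 := by
    rw [← map_pow, pow_card_eq_one', map_one]
  obtain ⟨k, hk⟩ := hodd
  rw [hk, pow_succ, pow_mul, h4, one_pow, one_mul] at h5
  show ((lam e : ℂˣ) : ℂ) = 1
  rw [h5, Units.val_one]

variable {ν : E (G := G) a b → ℂ}

/-- `Y ν` is irreducible for non-trivial `ν`. -/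
theorem isIrr_Y {s : G} (hsa : s • a = b) (hsb : s • b = a) (hinv : ∀ x ∈ E (G := G) a b, s⁻¹ * x * s = x⁻¹)
    (hcomm : ∀ x y : E (G := G) a b, x * y = y * x)
    (hodd : Odd (Nat.card (E (G := G) a b)))
    (hν : IsIrrCharacter _ ν) (hν1 : ν ≠ fun _ => 1) : IsIrrCharacter G (Y D ν) := by
  apply isIrrCharacter_of_classInner_self_eq_one (isCharacter_Y D (isCharacter_of_isIrrCharacter hν))
  rw [classInner_Y_Y D (isClassFunction_of_isIrrCharacter hν) hsa hsb, classInner_self_of_isIrr hν,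
    classInner_eq_zero_of_isIrr_of_ne (isIrrCharacter_comp_mulEquiv _ hν) hν
      (sig_ne hsa hsb hinv hcomm hodd hν hν1), add_zero]

/-- Two characters `Y ν` coincide only for twists. -/
theorem Y_eq_imp {s : G} (hsa : s • a = b) (hsb : s • b = a) (hinv : ∀ x ∈ E (G := G) a b, s⁻¹ * x * s = x⁻¹)
    (hcomm : ∀ x y : E (G := G) a b, x * y = y * x)
    (hodd : Odd (Nat.card (E (G := G) a b)))
    {μ : E (G := G) a b → ℂ} (hμ : IsIrrCharacter _ μ) (hν : IsIrrCharacter _ ν)
    (hν1 : ν ≠ fun _ => 1) (h : Y D ν = Y D μ) : μ = ν ∨ μ = ν ∘ sig hsa hsb := by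
  by_contra hcon
  push Not at hcon
  have h1 := classInner_Y_Y D (isClassFunction_of_isIrrCharacter hν) hsa hsb μ
  rw [← h, classInner_self_of_isIrr (isIrr_Y D hsa hsb hinv hcomm hodd hν hν1),
    classInner_eq_zero_of_isIrr_of_ne hν hμ (Ne.symm hcon.1),
    classInner_eq_zero_of_isIrr_of_ne (isIrrCharacter_comp_mulEquiv _ hν) hμ (Ne.symm hcon.2),
    add_zero] at h1
  exact one_ne_zero h1

/-- The transform of the trivial character. -/
theorem T_one : T a b H (fun _ => (1 : ℂ)) = fun _ => 1 := by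
  funext e
  by_cases he : e = 1
  · have h0 := card_subgroup_ne_zero H
    simp only [T, if_pos he, Finset.sum_const, Finset.card_univ, nsmul_eq_mul, mul_one]
    rw [← Nat.card_eq_fintype_card]
    field_simp
  · simp only [T, if_neg he]

/-- The multiplicity of a relevant character in the restriction of an irreducible character `X`
with `T X ≠ 0`, `X ≠ 1`. -/
theorem inner_of_T_ne {s : G} (hsa : s • a = b) (hsb : s • b = a) (hinv : ∀ x ∈ E (G := G) a b, s⁻¹ * x * s = x⁻¹)
    (hcomm : ∀ x y : E (G := G) a b, x * y = y * x)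
    (hodd : Odd (Nat.card (E (G := G) a b)))
    (hab : ∀ x ∈ H, ∀ y ∈ H, x * y = y * x)
    {X : G → ℂ} (hX : IsIrrCharacter G X) (hT : T a b H X ≠ 0) (hX1 : X ≠ fun _ => 1)
    {φ : stabilizer G a → ℂ} (hφ : φ ∈ rel H a) :
    classInner (fun v : stabilizer G a => X v) φ = 1 := by
  have hXc := isClassFunction_of_isIrrCharacter hX
  -- some `Y ν` contains `X`
  obtain ⟨ν, hν, hne⟩ : ∃ ν, IsIrrCharacter (E (G := G) a b) ν ∧ classInner X (Y D ν) ≠ 0 := by
    by_contra hcon
    push Not at hcon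
    apply hT
    apply classFunction_ext (isClass_T D hXc) isClassFunction_zero
    intro ν hν
    rw [← classInner_Y D hXc, hcon ν hν, classInner_zero_left]
  have hdeg := isIrr_deg_one_of_comm hcomm hν
  by_cases hν1 : ν = fun _ => 1
  · -- the trivial character
    subst hν1
    have hone := isIrr_one_fun (E (G := G) a b)
    have hYc := isCharacter_Y D (isCharacter_of_isIrrCharacter hone)
    have hn : classInner (Y D fun _ => (1 : ℂ)) (Y D fun _ => (1 : ℂ)) = 2 := by
      rw [classInner_Y_Y D (isClassFunction_of_isIrrCharacter hone) hsa hsb]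
      have h1 : (fun _ : E (G := G) a b => (1 : ℂ)) ∘ sig hsa hsb = fun _ => 1 := rfl
      rw [h1, classInner_self_of_isIrr hone]
      norm_num
    obtain ⟨X₁, X₂, hX₁, hX₂, h12, hY⟩ := norm_two_char hYc hn
    have hone' := isIrr_one_fun G
    have hG1 : classInner (fun _ : G => (1 : ℂ)) (Y D fun _ => (1 : ℂ)) = 1 := by
      rw [classInner_Y D (isClassFunction_of_isIrrCharacter hone'), T_one D,
        classInner_self_of_isIrr hone]
    have hmem : ∀ {Z : G → ℂ}, IsIrrCharacter G Z → classInner Z (Y D fun _ => (1 : ℂ)) ≠ 0 →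
        Z = X₁ ∨ Z = X₂ := by
      intro Z hZ h0
      by_contra hcon
      push Not at hcon
      apply h0
      rw [hY, classInner_add_right, classInner_eq_zero_of_isIrr_of_ne hZ hX₁ hcon.1,
        classInner_eq_zero_of_isIrr_of_ne hZ hX₂ hcon.2, add_zero]
    have hsum : (Y D fun _ => (1 : ℂ)) = (fun _ => (1 : ℂ)) + X := by
      rcases hmem hone' (by rw [hG1]; exact one_ne_zero) with h1 | h1 <;>
        rcases hmem hX hne with h2 | h2
      · exact absurd (h2.trans h1.symm) hX1
      · rw [hY, ← h1, ← h2]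
      · rw [hY, ← h1, ← h2, add_comm]
      · exact absurd (h2.trans h1.symm) hX1
    have h3 := inner_Y_rel D hab (fun _ => (1 : ℂ)) hφ
    rw [hsum] at h3
    have h4 : (fun v : stabilizer G a => (((fun _ => (1 : ℂ)) + X : G → ℂ)) (v : G)) =
        (fun _ : stabilizer G a => (1 : ℂ)) + (fun v : stabilizer G a => X v) := rfl
    rw [h4, classInner_add_left] at h3
    have h5 : (fun _ : stabilizer G a => (1 : ℂ)) ≠ φ := by
      rintro rfl
      obtain ⟨-, -, -, h6⟩ := mem_nontrivOn.mp hφ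
      exact h6 rfl
    rw [classInner_eq_zero_of_isIrr_of_ne (isIrr_one_fun _) (rel_irr hφ) h5, zero_add] at h3
    exact h3
  · -- non-trivial `ν`
    have hirr := isIrr_Y D hsa hsb hinv hcomm hodd hν hν1
    have h1 : X = Y D ν := by
      by_contra h
      exact hne (classInner_eq_zero_of_isIrr_of_ne hX hirr h)
    rw [h1, inner_Y_rel D hab ν hφ, hdeg]

end Inverted

/-! ### Counting conjugacy classes -/

omit D in
theorem card_irrFinset (X : Type*) [Group X] [Finite X] :
    (irrFinset X).card = Nat.card (ConjClasses X) := by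
  have := finite_irrCharacter (G := X)
  letI := Fintype.ofFinite (IrrCharacter X)
  rw [← card_irr_eq_card_conjClasses, Nat.card_eq_fintype_card, Finset.card_eq_sum_ones,
    sum_irrFinset_eq (fun _ => 1)]
  simp

/-- `G`-conjugate elements of the kernel are conjugate by the two-point stabiliser. -/
theorem conj_in_kernel (hab : ∀ x ∈ H, ∀ y ∈ H, x * y = y * x) {u u₀ : G} (hu : u ∈ H)
    (hu₀ : u₀ ∈ H) (hu1 : u ≠ 1) (hc : IsConj u₀ u) :
    ∃ e' ∈ E (G := G) a b, e' * u₀ * e'⁻¹ = u := by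
  obtain ⟨g, hg⟩ := isConj_iff.mp hc
  have hga : g • a = a := by
    apply D.hHfix u hu hu1
    rw [← hg, mul_smul, mul_smul, inv_smul_smul]
    have : u₀ • a = a := D.hHa hu₀
    rw [this]
  obtain ⟨u₁, hu₁, e', he', rfl⟩ := exists_decomp D hga
  refine ⟨e', he', ?_⟩
  rw [← hg]
  have h1 : e' * u₀ * e'⁻¹ ∈ H := conj_mem D he'.1 hu₀
  have h2 := hab u₁ hu₁ _ h1
  calc e' * u₀ * e'⁻¹ = u₁ * (e' * u₀ * e'⁻¹) * u₁⁻¹ := by
        rw [h2]
        group
    _ = u₁ * e' * u₀ * (u₁ * e')⁻¹ := by group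

/-- The lower bound for the number of classes. -/
theorem classes_bound [IsSimpleGroup G] (hab : ∀ x ∈ H, ∀ y ∈ H, x * y = y * x)
    (hodd : Odd (Nat.card (E (G := G) a b)))
    (hlt : 2 * Nat.card (E (G := G) a b) < Nat.card H - 1) :
    (rel H a).card + 1 + Nat.card (E (G := G) a b) ≤ (irrFinset G).card := by
  rw [card_irrFinset]
  have hS := Cfsg.Agent.S0884.result D.hZ D.hab (Nat.card H) (Nat.card (E (G := G) a b))
    D.hHcard.symm rfl hodd hlt H D.hHa D.hHcard D.hHfix
  set Z : Finset (ConjClasses G) := Finset.univ.filter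
    (fun C => ∀ g : G, ConjClasses.mk g = C → g ∉ H) with hZ
  have hZcard : Nat.card {C : ConjClasses G // ∀ g : G, ConjClasses.mk g = C → g ∉ H} = Z.card := by
    rw [Nat.card_eq_fintype_card, Fintype.card_subtype]
  rw [hZcard] at hS
  set f : H → ConjClasses G := fun u => ConjClasses.mk (u : G) with hf
  set s : Finset H := Finset.univ.erase 1 with hs
  have hscard : s.card = Nat.card H - 1 := by
    rw [hs, Finset.card_erase_of_mem (Finset.mem_univ _), Finset.card_univ, Nat.card_eq_fintype_card]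
  -- fibres have at most `e` elements
  have hfib : ∀ C ∈ s.image f, (s.filter (fun u => f u = C)).card ≤ Nat.card (E (G := G) a b) := by
    intro C hC
    obtain ⟨u₀, hu₀, rfl⟩ := Finset.mem_image.mp hC
    have hsub : s.filter (fun u => f u = f u₀) ⊆
        Finset.univ.image (fun e' : E (G := G) a b =>
          (⟨(e' : G) * u₀ * (e' : G)⁻¹, conj_mem D e'.2.1 u₀.2⟩ : H)) := by
      intro u hu
      obtain ⟨hu1, hu2⟩ := Finset.mem_filter.mp hu
      have hu3 : (u : G) ≠ 1 := fun h => (Finset.mem_erase.mp hu1).1 (Subtype.ext h)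
      have hc : IsConj (u₀ : G) (u : G) := ConjClasses.mk_eq_mk_iff_isConj.mp hu2.symm
      obtain ⟨e', he', h⟩ := conj_in_kernel D hab u.2 u₀.2 hu3 hc
      exact Finset.mem_image.mpr ⟨⟨e', he'⟩, Finset.mem_univ _, Subtype.ext h⟩
    have h1 := Finset.card_le_card hsub
    refine h1.trans (Finset.card_image_le.trans ?_)
    rw [Finset.card_univ, Nat.card_eq_fintype_card]
  have hle := Finset.card_le_mul_card_image s _ hfib
  have hrel := card_rel D hab
  have hRle : (rel H a).card ≤ (s.image f).card := by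
    have hd : 0 < Nat.card (E (G := G) a b) := Nat.card_pos
    rw [hscard] at hle
    have : Nat.card (E (G := G) a b) * (rel H a).card ≤
        Nat.card (E (G := G) a b) * (s.image f).card := by omega
    exact Nat.le_of_mul_le_mul_left this hd
  -- disjointness
  have hone : ConjClasses.mk (1 : G) ∉ s.image f := by
    intro h
    obtain ⟨u, hu, hu2⟩ := Finset.mem_image.mp h
    have h3 : IsConj (1 : G) (u : G) := ConjClasses.mk_eq_mk_iff_isConj.mp hu2.symm
    rw [isConj_one_right] at h3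
    exact (Finset.mem_erase.mp hu).1 (Subtype.ext h3)
  have hdisj : Disjoint (insert (ConjClasses.mk (1 : G)) (s.image f)) Z := by
    rw [Finset.disjoint_left]
    intro C hC hCZ
    have h1 := (Finset.mem_filter.mp hCZ).2
    rcases Finset.mem_insert.mp hC with rfl | hC
    · exact h1 1 rfl H.one_mem
    · obtain ⟨u, -, rfl⟩ := Finset.mem_image.mp hC
      exact h1 u rfl u.2
  have hunion : (insert (ConjClasses.mk (1 : G)) (s.image f) ∪ Z).card ≤ Nat.card (ConjClasses G) := by
    rw [Nat.card_eq_fintype_card]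
    exact Finset.card_le_univ _
  rw [Finset.card_union_of_disjoint hdisj, Finset.card_insert_of_notMem hone] at hunion
  omega

/-! ### The bound -/

/-- **A simple Zassenhaus group with abelian kernel and odd two-point stabilisers has
`h - 1 ≤ 2 e`.** -/
theorem two_bound [IsSimpleGroup G] (hC : Inv.Ctx G Ω) (hab : ∀ x ∈ H, ∀ y ∈ H, x * y = y * x) :
    Nat.card H - 1 ≤ 2 * Nat.card (E (G := G) a b) := by
  by_contra hlt
  push Not at hlt
  have hodd := hC.odd D.hab
  have hcyc := hC.cyc D.hab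
  have hcomm : ∀ x y : E (G := G) a b, x * y = y * x := fun x y => (IsCyclic.commGroup).mul_comm x y
  obtain ⟨s, hs, hsa, hsb⟩ := Inv.exists_swap hC D.hab
  have hsi : s⁻¹ = s := Inv.invol_inv hs
  have hinv : ∀ x ∈ E (G := G) a b, s⁻¹ * x * s = x⁻¹ := by
    intro x hx
    have := hC.inv D.hab s hsa hsb x hx
    rw [hsi] at this ⊢
    exact this
  have hbound := classes_bound D hab hodd hlt
  have hrel := card_rel D hab
  set e := Nat.card (E (G := G) a b) with he
  set h := Nat.card H with hh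
  have he0 : 0 < e := Nat.card_pos
  have hR : 2 ≤ (rel H a).card := by
    by_contra hcon
    push Not at hcon
    have : e * (rel H a).card ≤ e * 1 := Nat.mul_le_mul_left _ (by omega)
    omega
  -- the matrix
  let aa : (stabilizer G a → ℂ) → (G → ℂ) → ℕ := fun φ X =>
    ⌊(classInner (fun v : stabilizer G a => X v) φ).re⌋₊
  have hA : ∀ φ ∈ rel H a, ∀ X, IsIrrCharacter G X →
      classInner (fun v : stabilizer G a => X v) φ = (aa φ X : ℂ) := by
    intro φ hφ X hX
    obtain ⟨n, hn⟩ := exists_nat_classInner (isCharacter_restrict _ (isCharacter_of_isIrrCharacter hX))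
      (isCharacter_of_isIrrCharacter (rel_irr hφ))
    simp only [aa]
    rw [hn]
    simp
  have hB : ∀ φ ∈ rel H a, ∀ X, IsIrrCharacter G X →
      classInner (indFun (stabilizer G a) φ) X = (aa φ X : ℂ) := by
    intro φ hφ X hX
    rw [classInner_indFun_left _ _ _ (isClassFunction_of_isIrrCharacter hX), ← classInner_conj,
      hA φ hφ X hX]
    simp
  have hrow : ∀ φ ∈ rel H a, ∀ ψ ∈ rel H a,
      ∑ X ∈ irrFinset G, aa φ X * aa ψ X = e + if φ = ψ then 1 else 0 := by
    intro φ hφ ψ hψ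
    have := finite_irrCharacter (G := G)
    letI := Fintype.ofFinite (IrrCharacter G)
    have h1 := classInner_eq_sum (φ := indFun (stabilizer G a) φ)
      (isClassFunction_indFun (stabilizer G a) ψ)
    rw [inner_ind D hab hφ hψ] at h1
    have h2 : ∀ χ : IrrCharacter G, classInner (indFun (stabilizer G a) φ) (χ : G → ℂ) *
        conj (classInner (indFun (stabilizer G a) ψ) (χ : G → ℂ)) =
          ((aa φ χ * aa ψ χ : ℕ) : ℂ) := by
      intro χ
      rw [hB φ hφ _ χ.2, hB ψ hψ _ χ.2]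
      simp
    rw [Finset.sum_congr rfl (fun χ _ => h2 χ), ← sum_irrFinset_eq (fun X => ((aa φ X * aa ψ X : ℕ) : ℂ)),
      ← Nat.cast_sum] at h1
    have h3 : (((e + if φ = ψ then 1 else 0 : ℕ)) : ℂ) =
        ((∑ X ∈ irrFinset G, aa φ X * aa ψ X : ℕ) : ℂ) := by
      rw [← h1]
      push_cast
      rfl
    exact_mod_cast h3.symm
  -- splitting
  set O : Finset (G → ℂ) := (irrFinset G).filter (fun X => T a b H X = 0) with hO
  set Nn : Finset (G → ℂ) := (irrFinset G).filter (fun X => ¬ T a b H X = 0) with hNn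
  have hone := isIrr_one_fun G
  have hoNn : (fun _ : G => (1 : ℂ)) ∈ Nn := by
    refine Finset.mem_filter.mpr ⟨mem_irrFinset.mpr hone, ?_⟩
    rw [T_one D]
    intro h0
    have := congrFun h0 1
    exact one_ne_zero this
  have haone : ∀ φ ∈ rel H a, aa φ (fun _ => 1) = 0 := by
    intro φ hφ
    have h5 : (fun _ : stabilizer G a => (1 : ℂ)) ≠ φ := by
      rintro rfl
      obtain ⟨-, -, -, h6⟩ := mem_nontrivOn.mp hφ
      exact h6 rfl
    have h6 := hA φ hφ _ hone
    rw [classInner_eq_zero_of_isIrr_of_ne (isIrr_one_fun _) (rel_irr hφ) h5] at h6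
    exact_mod_cast h6.symm
  have hane : ∀ φ ∈ rel H a, ∀ X ∈ Nn, X ≠ (fun _ => 1) → aa φ X = 1 := by
    intro φ hφ X hX hX1
    obtain ⟨h1, h2⟩ := Finset.mem_filter.mp hX
    have hX' := mem_irrFinset.mp h1
    have h3 := inner_of_T_ne D hsa hsb hinv hcomm hodd hab hX' h2 hX1 hφ
    rw [hA φ hφ X hX'] at h3
    exact_mod_cast h3
  have hNnsum : ∀ φ ∈ rel H a, ∀ ψ ∈ rel H a, ∑ X ∈ Nn, aa φ X * aa ψ X = Nn.card - 1 := by
    intro φ hφ ψ hψ
    rw [← Finset.sum_erase (a := fun _ => 1) Nn (by rw [haone φ hφ, zero_mul])]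
    rw [Finset.sum_congr rfl (g := fun _ => 1) (fun X hX => by
      obtain ⟨h1, h2⟩ := Finset.mem_erase.mp hX
      rw [hane φ hφ X h2 h1, hane ψ hψ X h2 h1])]
    simp [Finset.card_erase_of_mem hoNn]
  have hNnpos : 1 ≤ Nn.card := Finset.card_pos.mpr ⟨_, hoNn⟩
  have hsplit : ∀ φ ∈ rel H a, ∀ ψ ∈ rel H a,
      (Nn.card - 1) + ∑ X ∈ O, aa φ X * aa ψ X = e + if φ = ψ then 1 else 0 := by
    intro φ hφ ψ hψ
    rw [← hrow φ hφ ψ hψ, ← hNnsum φ hφ ψ hψ, add_comm, hO, hNn]
    exact Finset.sum_filter_add_sum_filter_not _ _ _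
  obtain ⟨φ₁, hφ₁, ψ₁, hψ₁, hne₁⟩ := Finset.one_lt_card.mp (by omega : 1 < (rel H a).card)
  set c := ∑ X ∈ O, aa φ₁ X * aa ψ₁ X with hc
  have hcval : (Nn.card - 1) + c = e := by
    have := hsplit φ₁ hφ₁ ψ₁ hψ₁
    rwa [if_neg hne₁, add_zero] at this
  have hOrow : ∀ φ ∈ rel H a, ∀ ψ ∈ rel H a,
      ∑ X ∈ O, aa φ X * aa ψ X = c + if φ = ψ then 1 else 0 := by
    intro φ hφ ψ hψ
    have := hsplit φ hφ ψ hψ
    omega
  -- the columns
  have hOmem : ∀ X ∈ O, IsIrrCharacter G X ∧ T a b H X = 0 := fun X hX =>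
    ⟨mem_irrFinset.mp (Finset.mem_filter.mp hX).1, (Finset.mem_filter.mp hX).2⟩
  have hres : ∀ X ∈ O, ∀ v : stabilizer G a, X v = ∑ φ ∈ rel H a, (aa φ X : ℂ) * φ v := by
    intro X hX v
    obtain ⟨h1, h2⟩ := hOmem X hX
    rw [restrict_eq D (isClassFunction_of_isIrrCharacter h1) h2 v]
    exact Finset.sum_congr rfl (fun φ hφ => by rw [hA φ hφ X h1])
  have hcol : ∀ X : O, ∃ φ : rel H a, aa φ.1 X.1 ≠ 0 := by
    rintro ⟨X, hX⟩
    by_contra hcon
    push Not at hcon
    have h1 := hres X hX 1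
    rw [Finset.sum_eq_zero (fun φ hφ => by rw [hcon ⟨φ, hφ⟩]; simp)] at h1
    exact irr_one_ne_zero (hOmem X hX).1 h1
  have hcount : Fintype.card (rel H a) + c ≤ Fintype.card O := by
    rw [Fintype.card_coe, Fintype.card_coe]
    have h1 : O.card + Nn.card = (irrFinset G).card :=
      Finset.card_filter_add_card_filter_not (s := irrFinset G) (fun X => T a b H X = 0)
    omega
  obtain ⟨φ₀, X₀, hφX, hzero⟩ := Cfsg.Agent.Lib.Zass.UnitColumn.unit_column
    (fun (φ : rel H a) (X : O) => aa φ.1 X.1) c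
    (by
      intro i k
      rw [Finset.sum_coe_sort O (fun X => aa i.1 X * aa k.1 X), hOrow i.1 i.2 k.1 k.2]
      simp only [Subtype.ext_iff]) hcol hcount (by rw [Fintype.card_coe]; exact hR)
  -- the restriction of `X₀`
  obtain ⟨hX₀, hTX₀⟩ := hOmem X₀.1 X₀.2
  have hX₀c := isCharacter_of_isIrrCharacter hX₀
  have hres₀ : ∀ v : stabilizer G a, X₀.1 v = φ₀.1 v := by
    intro v
    rw [hres X₀.1 X₀.2 v, Finset.sum_eq_single φ₀.1]
    · rw [hφX]
      simp
    · intro φ hφ hne
      rw [hzero ⟨φ, hφ⟩ (fun h => hne (congrArg Subtype.val h))]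
      simp
    · intro h
      exact absurd φ₀.2 h
  have hdeg₀ : X₀.1 1 = (e : ℂ) := by
    have := hres₀ 1
    rw [Subgroup.coe_one, rel_one D hab φ₀.2] at this
    exact this
  -- the product with the dual
  set X := X₀.1 with hXdef
  let P : G → ℂ := fun g => X g * X g⁻¹
  have hPc : IsCharacter G P := isCharacter_mul hX₀c (isCharacter_inv hX₀c)
  have hPcl := isClassFunction_of_isCharacter hPc
  have hP1 : P 1 = (e : ℂ) * e := by
    simp only [P, inv_one, hdeg₀]
  have hTP : T a b H P = fun e' => if e' = 1 then (e : ℂ) else 0 := by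
    funext e'
    by_cases he' : e' = 1
    · subst he'
      rw [if_pos rfl]
      simp only [T, if_true]
      have h1 : ∀ u : H, P u = φ₀.1 ⟨u, D.hHa u.2⟩ * conj (φ₀.1 ⟨u, D.hHa u.2⟩) := by
        intro u
        simp only [P]
        rw [char_inv_eq_conj hX₀c, hres₀ ⟨u, D.hHa u.2⟩]
      rw [Finset.sum_congr rfl (fun u _ => h1 u), sum_rel_rel D φ₀.2 φ₀.2, if_pos rfl, card_stab D]
      push_cast
      have h0 := card_subgroup_ne_zero H
      field_simp
      rfl
    · rw [if_neg he']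
      simp only [T, if_neg he', P]
      have h1 : X e' = 0 := by
        have := congrFun hTX₀ e'
        simp only [T, if_neg he'] at this
        exact this
      rw [h1, zero_mul]
  have hPY : ∀ ν, IsIrrCharacter (E (G := G) a b) ν → classInner P (Y D ν) = 1 := by
    intro ν hν
    rw [classInner_Y D hPcl, hTP, classInner_subgroup_eq]
    have h1 : ∀ e' : E (G := G) a b, (if e' = 1 then (e : ℂ) else 0) * conj (ν e') =
        if e' = 1 then (e : ℂ) else 0 := by
      intro e'
      by_cases he' : e' = 1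
      · subst he'
        rw [if_pos rfl, isIrr_deg_one_of_comm hcomm hν]
        simp
      · rw [if_neg he', zero_mul]
    rw [Finset.sum_congr rfl (fun e' _ => h1 e'), Finset.sum_ite_eq']
    simp only [mem_univ, if_true]
    have h0 := card_subgroup_ne_zero (E (G := G) a b)
    rw [← he] at h0
    show ((e : ℂ))⁻¹ * (e : ℂ) = 1
    exact inv_mul_cancel₀ h0
  have hP1G : classInner P (fun _ => 1) = 1 := by
    have h1 := classInner_self_of_isIrr hX₀
    rw [classInner_eq_sum_inv _ hX₀c] at h1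
    rw [classInner_def]
    simp only [map_one, mul_one]
    exact h1
  -- the sum over all irreducible characters
  let bb : (G → ℂ) → ℕ := fun Z => ⌊(classInner P Z).re⌋₊ * charDegree Z
  have hbb : ∀ Z, IsIrrCharacter G Z → (bb Z : ℂ) = classInner P Z * Z 1 := by
    intro Z hZ
    obtain ⟨n, hn⟩ := exists_nat_classInner hPc (isCharacter_of_isIrrCharacter hZ)
    simp only [bb]
    rw [hn]
    push_cast
    rw [charDegree_natCast (isCharacter_of_isIrrCharacter hZ)]
    simp
  have htotal : ∑ Z ∈ irrFinset G, bb Z = e * e := by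
    have h1 := apply_eq_sum hPcl 1
    rw [hP1, ← Finset.sum_congr rfl (fun Z hZ => hbb Z (mem_irrFinset.mp hZ)), ← Nat.cast_sum] at h1
    exact_mod_cast h1.symm
  -- the characters `Y ν`
  set 𝒴 : Finset (E (G := G) a b → ℂ) := (irrFinset (E (G := G) a b)).erase (fun _ => 1) with h𝒴
  have h𝒴mem : ∀ ν ∈ 𝒴, IsIrrCharacter _ ν ∧ ν ≠ fun _ => 1 := fun ν hν =>
    ⟨mem_irrFinset.mp (Finset.mem_erase.mp hν).2, (Finset.mem_erase.mp hν).1⟩
  have h𝒴card : 𝒴.card = e - 1 := by
    rw [h𝒴, Finset.card_erase_of_mem (mem_irrFinset.mpr (isIrr_one_fun _))]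
    congr 1
    have h1 := sum_irrFinset_sq (X := E (G := G) a b)
    rw [Finset.sum_congr rfl (g := fun _ => 1) (fun ν hν => by
      have h2 : charDegree ν = 1 := charDegree_eq_of_eq_natCast (by
        rw [isIrr_deg_one_of_comm hcomm (mem_irrFinset.mp hν)]
        simp)
      rw [h2, one_pow])] at h1
    rw [← he, Finset.sum_const, smul_eq_mul, mul_one] at h1
    exact h1
  set Im := 𝒴.image (Y D) with hIm
  have hImcard : e - 1 ≤ 2 * Im.card := by
    rw [← h𝒴card]
    apply Finset.card_le_mul_card_image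
    intro Z hZ
    obtain ⟨ν₀, hν₀, rfl⟩ := Finset.mem_image.mp hZ
    obtain ⟨h1, h2⟩ := h𝒴mem ν₀ hν₀
    have hsub : 𝒴.filter (fun ν => Y D ν = Y D ν₀) ⊆ {ν₀, ν₀ ∘ sig hsa hsb} := by
      intro μ hμ
      obtain ⟨h3, h4⟩ := Finset.mem_filter.mp hμ
      have := Y_eq_imp D hsa hsb hinv hcomm hodd (h𝒴mem μ h3).1 h1 h2 h4.symm
      simpa using this
    exact (Finset.card_le_card hsub).trans Finset.card_le_two
  have hYdeg : ∀ ν ∈ 𝒴, Y D ν 1 = (h : ℂ) + 1 := by
    intro ν hν
    rw [Y_one D, isIrr_deg_one_of_comm hcomm (h𝒴mem ν hν).1, mul_one]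
  have hImsub : insert (fun _ : G => (1 : ℂ)) Im ⊆ irrFinset G := by
    intro Z hZ
    rcases Finset.mem_insert.mp hZ with rfl | hZ
    · exact mem_irrFinset.mpr hone
    · obtain ⟨ν, hν, rfl⟩ := Finset.mem_image.mp hZ
      exact mem_irrFinset.mpr (isIrr_Y D hsa hsb hinv hcomm hodd (h𝒴mem ν hν).1 (h𝒴mem ν hν).2)
  have hhpos : 1 ≤ h := by
    have : 0 < h := Nat.card_pos
    exact this
  have hnotin : (fun _ : G => (1 : ℂ)) ∉ Im := by
    intro hmem
    obtain ⟨ν, hν, h2⟩ := Finset.mem_image.mp hmem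
    have h3 := hYdeg ν hν
    rw [h2] at h3
    have h4 : ((1 : ℕ) : ℂ) = ((h + 1 : ℕ) : ℂ) := by
      push_cast
      exact h3
    have h5 : 1 = h + 1 := by exact_mod_cast h4
    omega
  have hlow : 1 + Im.card * (h + 1) ≤ e * e := by
    rw [← htotal]
    refine le_trans ?_ (Finset.sum_le_sum_of_subset hImsub)
    rw [Finset.sum_insert hnotin]
    have h1 : bb (fun _ : G => (1 : ℂ)) = 1 := by
      have h2 := hbb _ hone
      rw [hP1G] at h2
      have h3 : ((bb (fun _ : G => (1 : ℂ)) : ℕ) : ℂ) = ((1 : ℕ) : ℂ) := by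
        rw [h2]
        simp
      exact_mod_cast h3
    have h2 : ∀ Z ∈ Im, bb Z = h + 1 := by
      intro Z hZ
      obtain ⟨ν, hν, rfl⟩ := Finset.mem_image.mp hZ
      have h3 := hbb _ (isIrr_Y D hsa hsb hinv hcomm hodd (h𝒴mem ν hν).1 (h𝒴mem ν hν).2)
      rw [hPY ν (h𝒴mem ν hν).1, hYdeg ν hν, one_mul] at h3
      have h4 : ((bb (Y D ν) : ℕ) : ℂ) = ((h + 1 : ℕ) : ℂ) := by
        rw [h3]
        push_cast
        rfl
      exact_mod_cast h4
    rw [h1, Finset.sum_congr rfl h2]
    simp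
  -- arithmetic
  have he1 : e ≠ 1 := by
    intro h1
    obtain ⟨g, hg, c₁, d₁, hcd, h2, h3⟩ := D.hZ.2.2.2.1
    have h4 : Nat.card (E (G := G) c₁ d₁) = e := Inv.card_E_eq D.hZ D.hab hcd
    rw [h1] at h4
    have h5 : (⟨g, h2, h3⟩ : E (G := G) c₁ d₁) = 1 := by
      have := Nat.card_eq_one_iff_unique.mp h4
      exact this.1.elim _ _
    exact hg (congrArg Subtype.val h5)
  obtain ⟨k, hk⟩ := hodd
  have hk0 : 1 ≤ k := by
    rcases Nat.eq_zero_or_pos k with h0 | h0
    · subst h0
      omega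
    · exact h0
  have hh2 : 2 * e + 2 ≤ h := by omega
  have hk1 : k ≤ Im.card := by omega
  have h6 : k * (2 * e + 3) ≤ Im.card * (h + 1) :=
    Nat.mul_le_mul hk1 (by omega)
  rw [hk] at h6 hlow
  nlinarith

end Cfsg.Agent.Lib.Zass.AbKernel
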