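import Mathlib

/-!
# The field generated by an irreducible abelian group of additive automorphisms

If a commutative group `Γ` acts additively and irreducibly on a finite abelian group `A`,
then the subring of `End A` generated by `Γ` is a finite field `K`, and `A` is a
one-dimensional `K`-space.  Additive maps normalising the image of `Γ` are `K`-semilinear.
-/

set_option autoImplicit false
set_option linter.unusedSectionVars false
set_option linter.style.haveILetI false
set_option linter.deprecated false

namespace Cfsg.Agent.Lib.Zass.FieldOf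

universe u v

theorem exists_field {A : Type u} [AddCommGroup A] [Finite A] {Γ : Type v} [CommGroup Γ]
    (φ : Γ →* AddMonoid.End A)
    (hirr : ∀ B : AddSubgroup A, B ≠ ⊥ → (∀ γ, ∀ x ∈ B, φ γ x ∈ B) → B = ⊤) (e : A) (he : e ≠ 0) :
    ∃ (K : Type) (_ : Field K) (_ : Fintype K) (ε : K ≃+ A) (χ : Γ →* Kˣ),
      ε 1 = e ∧ (∀ γ k, φ γ (ε k) = ε ((χ γ : K) * k)) ∧
      Subring.closure (Set.range fun γ => ((χ γ : Kˣ) : K)) = ⊤ := by
  classical
  set R : Subring (AddMonoid.End A) := Subring.closure (Set.range φ) with hR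
  have hcomm : ∀ x ∈ Set.range φ, ∀ y ∈ Set.range φ, x * y = y * x := by
    rintro _ ⟨a, rfl⟩ _ ⟨b, rfl⟩
    rw [← map_mul, ← map_mul, mul_comm]
  letI instR : CommRing R := Subring.closureCommRingOfComm hcomm
  have hmem : ∀ γ, φ γ ∈ R := fun γ => Subring.subset_closure ⟨γ, rfl⟩
  have hc : ∀ (r : R) γ (x : A), r.1 (φ γ x) = φ γ (r.1 x) := by
    intro r γ x
    have h1 : r * (⟨φ γ, hmem γ⟩ : R) = ⟨φ γ, hmem γ⟩ * r := mul_comm _ _
    have h2 := congrArg Subtype.val h1
    exact DFunLike.congr_fun h2 x
  -- injectivity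
  have hker : ∀ r : R, r ≠ 0 → ∀ x, r.1 x = 0 → x = 0 := by
    intro r hr x hx
    by_contra hx0
    have hB := hirr (AddMonoidHom.ker (r.1 : A →+ A)) (by
      intro hbot
      apply hx0
      have : x ∈ AddMonoidHom.ker (r.1 : A →+ A) := hx
      rw [hbot] at this
      exact (AddSubgroup.mem_bot).mp this) (by
      intro γ y hy
      have hy' : r.1 y = 0 := hy
      show r.1 (φ γ y) = 0
      rw [hc, hy', map_zero])
    apply hr
    apply Subtype.ext
    ext y
    have : y ∈ AddMonoidHom.ker (r.1 : A →+ A) := by rw [hB]; trivial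
    exact this
  have hNZD : NoZeroDivisors R := ⟨by
    intro a b hab
    by_contra hcon
    push Not at hcon
    obtain ⟨ha, hb⟩ := hcon
    apply hb
    by_contra _
    have hb0 : b ≠ 0 := hb
    -- some element on which `b` does not vanish
    have : ∃ x, b.1 x ≠ 0 := by
      by_contra hall
      push Not at hall
      apply hb0
      apply Subtype.ext
      ext y
      exact hall y
    obtain ⟨x, hx⟩ := this
    apply hx
    apply hker a ha
    have h2 := congrArg Subtype.val hab
    exact DFunLike.congr_fun h2 x⟩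
  have hNT : Nontrivial R := ⟨⟨1, 0, by
    intro h
    apply he
    have h2 := congrArg Subtype.val h
    exact DFunLike.congr_fun h2 e⟩⟩
  have hD : IsDomain R := NoZeroDivisors.to_isDomain R
  have hevalinj : Function.Injective (fun r : R => r.1 e) := by
    intro r r' h
    by_contra hne
    have hsub : r - r' ≠ 0 := sub_ne_zero.mpr hne
    apply he
    apply hker _ hsub
    have h' : r.1 e = r'.1 e := h
    have h3 : (r - r').1 e = r.1 e - r'.1 e := rfl
    rw [h3, h', sub_self]
  have hfin : Finite R := Finite.of_injective _ hevalinj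
  have hevalsurj : Function.Surjective (fun r : R => r.1 e) := by
    let B : AddSubgroup A :=
      { carrier := Set.range (fun r : R => r.1 e)
        zero_mem' := ⟨0, rfl⟩
        add_mem' := by
          rintro _ _ ⟨r, rfl⟩ ⟨r', rfl⟩
          exact ⟨r + r', rfl⟩
        neg_mem' := by
          rintro _ ⟨r, rfl⟩
          exact ⟨-r, rfl⟩ }
    have hB : B = ⊤ := hirr B (by
      intro hbot
      apply he
      have : e ∈ B := ⟨1, rfl⟩
      rw [hbot] at this
      exact (AddSubgroup.mem_bot).mp this) (by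
      rintro γ _ ⟨r, rfl⟩
      refine ⟨⟨φ γ, hmem γ⟩ * r, rfl⟩)
    intro y
    have : y ∈ B := by rw [hB]; trivial
    exact this
  letI : Fintype R := Fintype.ofFinite R
  letI instF : Field R := Fintype.fieldOfDomain R
  let j : Shrink.{0} R ≃+* R := (equivShrink.{0} R).symm.ringEquiv
  letI : Fintype (Shrink.{0} R) := Fintype.ofFinite _
  -- the additive isomorphism
  let ev : R →+ A :=
    { toFun := fun r => r.1 e
      map_zero' := rfl
      map_add' := fun _ _ => rfl }
  let ε₀ : R ≃+ A := AddEquiv.ofBijective ev ⟨hevalinj, hevalsurj⟩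
  let ε : Shrink.{0} R ≃+ A := j.toAddEquiv.trans ε₀
  have hε : ∀ k, ε k = (j k).1 e := fun _ => rfl
  -- the units
  let u : Γ →* Rˣ :=
    { toFun := fun γ =>
        ⟨⟨φ γ, hmem γ⟩, ⟨φ γ⁻¹, hmem γ⁻¹⟩,
          Subtype.ext (by
            show φ γ * φ γ⁻¹ = 1
            rw [← map_mul, mul_inv_cancel, map_one]),
          Subtype.ext (by
            show φ γ⁻¹ * φ γ = 1
            rw [← map_mul, inv_mul_cancel, map_one])⟩
      map_one' := by
        apply Units.ext
        apply Subtype.ext
        show φ 1 = 1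
        rw [map_one]
      map_mul' := by
        intro a b
        apply Units.ext
        apply Subtype.ext
        show φ (a * b) = φ a * φ b
        rw [map_mul] }
  let χ : Γ →* (Shrink.{0} R)ˣ := (Units.map (j.symm : R →* Shrink.{0} R)).comp u
  have hχ : ∀ γ, j ((χ γ : (Shrink.{0} R)ˣ) : Shrink.{0} R) = ⟨φ γ, hmem γ⟩ := by
    intro γ
    show j (j.symm (u γ : R)) = _
    rw [RingEquiv.apply_symm_apply]
    rfl
  refine ⟨Shrink.{0} R, inferInstance, inferInstance, ε, χ, ?_, ?_, ?_⟩
  · rw [hε, map_one]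
    rfl
  · intro γ k
    rw [hε, hε, map_mul, hχ]
    rfl
  · rw [eq_top_iff]
    intro k _
    have key : ∀ (x : AddMonoid.End A) (hx : x ∈ R),
        j.symm ⟨x, hx⟩ ∈ Subring.closure
          (Set.range fun γ => ((χ γ : (Shrink.{0} R)ˣ) : Shrink.{0} R)) := by
      intro x hx
      induction hx using Subring.closure_induction with
      | mem x hx =>
        obtain ⟨γ, rfl⟩ := hx
        apply Subring.subset_closure
        refine ⟨γ, ?_⟩
        apply j.injective
        rw [hχ, RingEquiv.apply_symm_apply]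
      | zero =>
        have : j.symm (⟨0, R.zero_mem⟩ : R) = 0 := map_zero j.symm
        rw [this]
        exact Subring.zero_mem _
      | one =>
        have : j.symm (⟨1, R.one_mem⟩ : R) = 1 := map_one j.symm
        rw [this]
        exact Subring.one_mem _
      | add x y hx hy ihx ihy =>
        have : j.symm (⟨x + y, R.add_mem hx hy⟩ : R) = j.symm ⟨x, hx⟩ + j.symm ⟨y, hy⟩ :=
          map_add j.symm (⟨x, hx⟩ : R) ⟨y, hy⟩
        rw [this]
        exact Subring.add_mem _ ihx ihy
      | neg x hx ih =>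
        have : j.symm (⟨-x, R.neg_mem hx⟩ : R) = - j.symm ⟨x, hx⟩ :=
          map_neg j.symm (⟨x, hx⟩ : R)
        rw [this]
        exact Subring.neg_mem _ ih
      | mul x y hx hy ihx ihy =>
        have : j.symm (⟨x * y, R.mul_mem hx hy⟩ : R) = j.symm ⟨x, hx⟩ * j.symm ⟨y, hy⟩ :=
          map_mul j.symm (⟨x, hx⟩ : R) ⟨y, hy⟩
        rw [this]
        exact Subring.mul_mem _ ihx ihy
    have := key (j k).1 (j k).2
    simpa using this

/-- **Semilinearity.**  An additive self-map normalising the group of scalars generating `K`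
is semilinear. -/
theorem exists_semilinear {K : Type*} [Field K] {Γ : Type*} [Group Γ] (χ : Γ →* Kˣ)
    (hgen : Subring.closure (Set.range fun γ => ((χ γ : Kˣ) : K)) = ⊤)
    (F : K →+ K) (hF : Function.Injective F)
    (hnorm : ∀ γ, ∃ γ', ∀ l, F ((χ γ : K) * l) = (χ γ' : K) * F l) :
    ∃ σ : K →+* K, ∀ k l, F (k * l) = σ k * F l := by
  have hF1 : F 1 ≠ 0 := by
    intro h
    have : F 1 = F 0 := by rw [h, map_zero]
    exact one_ne_zero (hF this)
  -- every scalar has a transform
  have hall : ∀ k : K, ∃ k', ∀ l, F (k * l) = k' * F l := by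
    intro k
    have hk : k ∈ Subring.closure (Set.range fun γ => ((χ γ : Kˣ) : K)) := by
      rw [hgen]; trivial
    induction hk using Subring.closure_induction with
    | mem x hx =>
      obtain ⟨γ, rfl⟩ := hx
      obtain ⟨γ', hγ'⟩ := hnorm γ
      exact ⟨_, hγ'⟩
    | zero => exact ⟨0, fun l => by simp⟩
    | one => exact ⟨1, fun l => by simp⟩
    | add x y _ _ ihx ihy =>
      obtain ⟨x', hx'⟩ := ihx
      obtain ⟨y', hy'⟩ := ihy
      exact ⟨x' + y', fun l => by rw [add_mul, map_add, hx', hy', add_mul]⟩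
    | neg x _ ih =>
      obtain ⟨x', hx'⟩ := ih
      exact ⟨-x', fun l => by rw [neg_mul, map_neg, hx', neg_mul]⟩
    | mul x y _ _ ihx ihy =>
      obtain ⟨x', hx'⟩ := ihx
      obtain ⟨y', hy'⟩ := ihy
      exact ⟨x' * y', fun l => by rw [mul_assoc, hx', hy', mul_assoc]⟩
  choose σ₀ hσ₀ using hall
  have hval : ∀ k, σ₀ k = F k * (F 1)⁻¹ := by
    intro k
    have := hσ₀ k 1
    rw [mul_one] at this
    rw [this]
    field_simp
  refine ⟨{ toFun := σ₀, map_one' := ?_, map_mul' := ?_, map_zero' := ?_, map_add' := ?_ }, hσ₀⟩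
  · rw [hval]
    field_simp
  · intro a b
    have h1 := hσ₀ a b
    rw [hval (a * b), hval a, hval b, h1]
    rw [hval a]
    field_simp
  · rw [hval, map_zero, zero_mul]
  · intro a b
    rw [hval, hval, hval, map_add, add_mul]

end Cfsg.Agent.Lib.Zass.FieldOf
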