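import Cfsg.Agent.Lib.Zass.Stab
import Cfsg.Agent.Lib.Zass.Basic
import Cfsg.Agent.Lib.CharDeep.Zassenhaus
import Cfsg.Agent.Lib.Char.IndRep
import Cfsg.Agent.Lib.Char.GenLattice
import Cfsg.Agent.Lib.Char.Conj
import Cfsg.Agent.Lib.Char.Degree
import Cfsg.Agent.S0740

/-!
# Induced characters of a Zassenhaus group inflated from a two-point stabiliser
-/

set_option autoImplicit false
set_option linter.unusedSectionVars false
set_option linter.unusedVariables false
set_option linter.style.haveILetI false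

namespace Cfsg.Agent.Lib.Zass.Infl

open Cfsg MulAction
open Cfsg.Agent.Lib.Zass.Basic Cfsg.Agent.Lib.Zass.Stab
  Cfsg.Agent.Lib.CharDeep.Zassenhaus Cfsg.Agent.Lib.Char.Induced
open Cfsg.Agent.Lib.Char.Basic Cfsg.Agent.Lib.Char.Ortho Cfsg.Agent.Lib.Char.Complete
open Finset
open scoped ComplexConjugate

universe u v

variable {G : Type u} {Ω : Type v} [Group G] [MulAction G Ω] [Fintype G] [Fintype Ω]

/-- The data: a Zassenhaus group, two points and the kernel of a point stabiliser. -/
structure Data (a b : Ω) (H : Subgroup G) : Prop where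
  hZ : IsZassenhausGroup G Ω
  hab : a ≠ b
  hHa : H ≤ stabilizer G a
  hHcard : Nat.card H + 1 = Fintype.card Ω
  hHfix : ∀ u ∈ H, u ≠ 1 → ∀ c : Ω, u • c = c → c = a

variable {a b : Ω} {H : Subgroup G} (D : Data a b H)
include D

theorem conj_mem {x u : G} (hx : x • a = a) (hu : u ∈ H) : x * u * x⁻¹ ∈ H :=
  conj_mem_of_stabilizer D.hZ.2.2.1 D.hHcard D.hHfix D.hHa hx hu

theorem exists_decomp {v : G} (hv : v • a = a) : ∃ u ∈ H, ∃ e ∈ E (G := G) a b, v = u * e := by
  have hb : v • b ≠ a := by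
    intro h
    apply D.hab
    exact (smul_left_cancel v (h.trans hv.symm)).symm
  obtain ⟨u, hu, hub⟩ := exists_smul_eq D.hHcard D.hHfix D.hHa (Ne.symm D.hab) hb
  refine ⟨u, hu, u⁻¹ * v, ⟨?_, ?_⟩, by group⟩
  · show (u⁻¹ * v) • a = a
    have h1 : u • a = a := D.hHa hu
    rw [mul_smul, hv, inv_smul_eq_iff, h1]
  · show (u⁻¹ * v) • b = b
    rw [mul_smul, ← hub, inv_smul_smul]

theorem eq_one_of_mem_inter {x : G} (hH : x ∈ H) (hb : x • b = b) : x = 1 := by
  by_contra h
  exact D.hab (D.hHfix x hH h b hb).symm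

theorem decomp_unique {u u' e e' : G} (hu : u ∈ H) (hu' : u' ∈ H) (he : e ∈ E (G := G) a b)
    (he' : e' ∈ E (G := G) a b) (h : u * e = u' * e') : u = u' ∧ e = e' := by
  have h1 : u'⁻¹ * u = e' * e⁻¹ := by
    calc u'⁻¹ * u = u'⁻¹ * (u * e) * e⁻¹ := by group
      _ = e' * e⁻¹ := by rw [h]; group
  have h2 : (u'⁻¹ * u) • b = b := by
    rw [h1, mul_smul]
    have he1 : e • b = b := he.2
    have he2 : e' • b = b := he'.2
    rw [inv_smul_eq_iff.mpr he1.symm, he2]
  have h3 := eq_one_of_mem_inter D (H.mul_mem (H.inv_mem hu') hu) h2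
  have h4 : u = u' := (inv_mul_eq_one.mp h3).symm
  subst h4
  exact ⟨rfl, mul_left_cancel h⟩

/-- The projection of the point stabiliser onto the two-point stabiliser. -/
noncomputable def piFun (v : stabilizer G a) : E (G := G) a b :=
  ⟨(exists_decomp D v.2).choose_spec.2.choose, (exists_decomp D v.2).choose_spec.2.choose_spec.1⟩

theorem piFun_spec (v : stabilizer G a) : ∃ u ∈ H, (v : G) = u * (piFun D v : G) := by
  have h := (exists_decomp D v.2).choose_spec
  exact ⟨_, h.1, h.2.choose_spec.2⟩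

theorem piFun_eq {v : stabilizer G a} {u e : G} (hu : u ∈ H) (he : e ∈ E (G := G) a b)
    (h : (v : G) = u * e) : (piFun D v : G) = e := by
  obtain ⟨u', hu', h'⟩ := piFun_spec D v
  exact (decomp_unique D hu' hu (piFun D v).2 he (h'.symm.trans h)).2

/-- The projection as a homomorphism. -/
noncomputable def pi : stabilizer G a →* E (G := G) a b :=
  MonoidHom.mk' (piFun D) (by
    intro v w
    obtain ⟨u₁, hu₁, h₁⟩ := piFun_spec D v
    obtain ⟨u₂, hu₂, h₂⟩ := piFun_spec D w
    apply Subtype.ext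
    have he1 : ((piFun D v : E (G := G) a b) : G) • a = a := (piFun D v).2.1
    refine piFun_eq D (u := u₁ * ((piFun D v : G) * u₂ * (piFun D v : G)⁻¹))
      (H.mul_mem hu₁ (conj_mem D he1 hu₂)) ((E (G := G) a b).mul_mem (piFun D v).2 (piFun D w).2) ?_
    show (v : G) * (w : G) = _
    rw [h₁, h₂]
    simp only [Subgroup.coe_mul]
    group)

theorem pi_eq {v : stabilizer G a} {u e : G} (hu : u ∈ H) (he : e ∈ E (G := G) a b)
    (h : (v : G) = u * e) : (pi D v : G) = e := piFun_eq D hu he h

theorem pi_spec (v : stabilizer G a) : ∃ u ∈ H, (v : G) = u * (pi D v : G) := piFun_spec D v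

theorem pi_of_mem_E (e : E (G := G) a b) : pi D ⟨e, e.2.1⟩ = e :=
  Subtype.ext (pi_eq D H.one_mem e.2 (by simp))

theorem pi_of_mem_H {u : G} (hu : u ∈ H) : pi D ⟨u, D.hHa hu⟩ = 1 :=
  Subtype.ext (pi_eq D hu (E (G := G) a b).one_mem (by simp))

theorem pi_surjective : Function.Surjective (pi D) :=
  fun e => ⟨⟨e, e.2.1⟩, pi_of_mem_E D e⟩

/-- Elements of the kernel of the projection. -/
theorem mem_of_pi_eq_one {v : stabilizer G a} (h : pi D v = 1) : (v : G) ∈ H := by
  obtain ⟨u, hu, h1⟩ := pi_spec D v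
  rw [h] at h1
  simpa [h1] using hu

/-- Every element of `H e`, `e ≠ 1`, is an `H`-conjugate of `e`. -/
theorem exists_conj {e u : G} (he : e ∈ E (G := G) a b) (he1 : e ≠ 1) (hu : u ∈ H) :
    ∃ w ∈ H, u * e = w * e * w⁻¹ := by
  classical
  -- the element `v = u e` is not in `H`
  have hv : (u * e) • a = a := by
    have h1 : u • a = a := D.hHa hu
    have h2 : e • a = a := he.1
    rw [mul_smul, h2, h1]
  have hvH : u * e ∉ H := by
    intro h
    apply he1
    have h1 : e ∈ H := by
      have : e = u⁻¹ * (u * e) := by group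
      rw [this]
      exact H.mul_mem (H.inv_mem hu) h
    exact eq_one_of_mem_inter D h1 he.2
  -- so it has a second fixed point
  have hc : ∃ c, c ≠ a ∧ (u * e) • c = c := by
    by_contra hcon
    push Not at hcon
    apply hvH
    apply mem_of_fix_only D.hZ.2.2.1 D.hHcard D.hHfix D.hHa hv
    intro c hc
    by_contra hca
    exact hcon c hca hc
  obtain ⟨c, hca, hcf⟩ := hc
  obtain ⟨w, hw, hwb⟩ := exists_smul_eq D.hHcard D.hHfix D.hHa (Ne.symm D.hab) hca
  refine ⟨w, hw, ?_⟩
  -- `w⁻¹ (u e) w` lies in `E`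
  have hwa : w • a = a := D.hHa hw
  have hmem : w⁻¹ * (u * e) * w ∈ E (G := G) a b := by
    constructor
    · show (w⁻¹ * (u * e) * w) • a = a
      rw [mul_smul, mul_smul, hwa, hv, inv_smul_eq_iff, hwa]
    · show (w⁻¹ * (u * e) * w) • b = b
      rw [mul_smul, mul_smul, hwb, hcf, inv_smul_eq_iff, hwb]
  -- its projection is that of `u e`, which is `e`
  have h1 : (pi D ⟨w⁻¹ * (u * e) * w, hmem.1⟩ : G) = w⁻¹ * (u * e) * w :=
    congrArg Subtype.val (pi_of_mem_E D ⟨_, hmem⟩)
  have hw' : (⟨w, hwa⟩ : stabilizer G a) ∈ (pi D).ker := pi_of_mem_H D hw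
  have h2 : pi D ⟨w⁻¹ * (u * e) * w, hmem.1⟩ =
      pi D ⟨u * e, hv⟩ := by
    have : (⟨w⁻¹ * (u * e) * w, hmem.1⟩ : stabilizer G a) =
        (⟨w, hwa⟩ : stabilizer G a)⁻¹ * ⟨u * e, hv⟩ * ⟨w, hwa⟩ := rfl
    rw [this, map_mul, map_mul, map_inv, show pi D ⟨w, hwa⟩ = 1 from hw']
    simp
  have h3 : (pi D ⟨u * e, hv⟩ : G) = e := pi_eq D hu he rfl
  rw [h2, h3] at h1
  calc u * e = w * (w⁻¹ * (u * e) * w) * w⁻¹ := by group
    _ = w * e * w⁻¹ := by rw [← h1]

/-! ### Inflation and induction -/

/-- Inflation to the point stabiliser. -/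
noncomputable def infl (ν : E (G := G) a b → ℂ) : stabilizer G a → ℂ := fun v => ν (pi D v)

omit [Fintype Ω] in
/-- The induced character. -/
noncomputable def Y (ν : E (G := G) a b → ℂ) : G → ℂ := indFun (stabilizer G a) (infl D ν)

theorem isCharacter_infl {ν : E (G := G) a b → ℂ} (hν : IsCharacter _ ν) :
    IsCharacter (stabilizer G a) (infl D ν) :=
  Cfsg.Agent.Lib.Char.Basic.isCharacter_comp (pi D) hν

theorem isCharacter_Y {ν : E (G := G) a b → ℂ} (hν : IsCharacter _ ν) : IsCharacter G (Y D ν) :=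
  Cfsg.Agent.Lib.Char.IndRep.isCharacter_indFun _ (isCharacter_infl D hν)

theorem isClass_Y (ν : E (G := G) a b → ℂ) : IsClassFunction G (Y D ν) :=
  isClassFunction_indFun _ _

/-- Elements taking `a` to `c` are as many as elements of the stabiliser of `a`. -/
theorem card_filter_smul [DecidableEq Ω] {c : Ω} {s : G} (hs : s • a = c) :
    (univ.filter (fun x : G => x • a = c)).card = Nat.card (stabilizer G a) := by
  classical
  rw [← Fintype.card_subtype, ← Nat.card_eq_fintype_card]
  apply Nat.card_congr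
  refine
    { toFun := fun x => ⟨s⁻¹ * x.1, ?_⟩
      invFun := fun x => ⟨s * x.1, ?_⟩
      left_inv := fun x => by apply Subtype.ext; simp
      right_inv := fun x => by apply Subtype.ext; simp }
  · show (s⁻¹ * x.1) • a = a
    rw [mul_smul, x.2, ← hs, inv_smul_smul]
  · have h1 : (x.1 : G) • a = a := x.2
    show (s * x.1) • a = c
    rw [mul_smul, h1, hs]

/-- The index of the point stabiliser. -/
theorem index_stabilizer : (stabilizer G a).index = Nat.card H + 1 := by
  classical
  have hpre := D.hZ.2.1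
  have _ : IsPretransitive G Ω := by
    constructor
    intro x y
    by_cases hxy : x = y
    · exact ⟨1, by simp [hxy]⟩
    · obtain ⟨g, hg, -⟩ := trans2 D.hZ hxy (c := y) (d := x) (Ne.symm hxy)
      exact ⟨g, hg⟩
  rw [MulAction.index_stabilizer_of_transitive, Nat.card_eq_fintype_card, D.hHcard]

theorem Y_one (ν : E (G := G) a b → ℂ) : Y D ν 1 = ((Nat.card H : ℂ) + 1) * ν 1 := by
  rw [Y, indFun_one, index_stabilizer D]
  push_cast
  congr 1
  have : pi D 1 = 1 := map_one _
  rw [infl, this]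

/-- The value on the kernel. -/
theorem Y_kernel (ν : E (G := G) a b → ℂ) {u : G} (hu : u ∈ H) (hu1 : u ≠ 1) : Y D ν u = ν 1 := by
  classical
  rw [Y, indFun_apply]
  have h1 : ∀ x : G, extendByZero (stabilizer G a) (infl D ν) (x⁻¹ * u * x) =
      if x • a = a then ν 1 else 0 := by
    intro x
    split_ifs with hx
    · have hx' : x⁻¹ • a = a := by rw [inv_smul_eq_iff, hx]
      have h2 : x⁻¹ * u * x⁻¹⁻¹ ∈ H := conj_mem D hx' hu
      rw [inv_inv] at h2
      rw [extendByZero_of_mem _ _ (D.hHa h2), infl, pi_of_mem_H D h2]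
    · apply extendByZero_of_not_mem
      intro h2
      apply hx
      have h3 : (x⁻¹ * u * x) • a = a := h2
      rw [mul_smul, mul_smul, inv_smul_eq_iff] at h3
      exact D.hHfix u hu hu1 _ h3
  rw [Finset.sum_congr rfl (fun x _ => h1 x), Finset.sum_ite]
  simp only [sum_const, nsmul_eq_mul, mul_zero, add_zero]
  have h4 := card_filter_smul D (c := a) (s := 1) (one_smul _ _)
  rw [h4]
  have h5 := card_subgroup_ne_zero (stabilizer G a)
  field_simp

/-- The value on the two-point stabiliser. -/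
theorem Y_two {ν : E (G := G) a b → ℂ} (hν : IsClassFunction _ ν) {s : G} (hsa : s • a = b)
    (hsb : s • b = a) (e : E (G := G) a b) (he1 : e ≠ 1) :
    ∃ hm : s⁻¹ * e * s ∈ E (G := G) a b, Y D ν e = ν e + ν ⟨s⁻¹ * e * s, hm⟩ := by
  classical
  have hm : s⁻¹ * e * s ∈ E (G := G) a b := by
    have hsa' : s⁻¹ • b = a := by rw [inv_smul_eq_iff, hsa]
    have hsb' : s⁻¹ • a = b := by rw [inv_smul_eq_iff, hsb]
    constructor
    · show (s⁻¹ * e * s) • a = a
      have h2 : (e : G) • b = b := e.2.2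
      rw [mul_smul, mul_smul, hsa, h2, hsa']
    · show (s⁻¹ * e * s) • b = b
      have h2 : (e : G) • a = a := e.2.1
      rw [mul_smul, mul_smul, hsb, h2, hsb']
  refine ⟨hm, ?_⟩
  rw [Y, indFun_apply]
  have he1' : (e : G) ≠ 1 := fun h => he1 (Subtype.ext h)
  have h1 : ∀ x : G, extendByZero (stabilizer G a) (infl D ν) (x⁻¹ * e * x) =
      (if x • a = a then ν e else 0) + (if x • a = b then ν ⟨s⁻¹ * e * s, hm⟩ else 0) := by
    intro x
    by_cases hx : x • a = a
    · have hxb : x • a ≠ b := fun h => D.hab (hx.symm.trans h)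
      rw [if_pos hx, if_neg hxb, add_zero]
      have hxa : x ∈ stabilizer G a := hx
      have hmem : x⁻¹ * e * x ∈ stabilizer G a :=
        (stabilizer G a).mul_mem ((stabilizer G a).mul_mem ((stabilizer G a).inv_mem hxa) e.2.1) hxa
      rw [extendByZero_of_mem _ _ hmem, infl]
      have h2 : (⟨x⁻¹ * e * x, hmem⟩ : stabilizer G a) =
          (⟨x, hxa⟩ : stabilizer G a)⁻¹ * ⟨e, e.2.1⟩ * ⟨x, hxa⟩ := rfl
      rw [h2, map_mul, map_mul, map_inv, pi_of_mem_E D e]
      have := hν e (pi D ⟨x, hxa⟩)⁻¹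
      rw [inv_inv] at this
      exact this
    by_cases hx2 : x • a = b
    · rw [if_neg hx, if_pos hx2, zero_add]
      have hn : s⁻¹ * x ∈ stabilizer G a := by
        show (s⁻¹ * x) • a = a
        rw [mul_smul, hx2, inv_smul_eq_iff, hsa]
      have h4 : x⁻¹ * e * x = (s⁻¹ * x)⁻¹ * (s⁻¹ * e * s) * (s⁻¹ * x) := by group
      have hmem : x⁻¹ * e * x ∈ stabilizer G a := by
        rw [h4]
        exact (stabilizer G a).mul_mem ((stabilizer G a).mul_mem ((stabilizer G a).inv_mem hn)
          hm.1) hn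
      rw [extendByZero_of_mem _ _ hmem, infl]
      have h5 : (⟨x⁻¹ * e * x, hmem⟩ : stabilizer G a) =
          (⟨_, hn⟩ : stabilizer G a)⁻¹ * ⟨_, hm.1⟩ * ⟨_, hn⟩ := by
        apply Subtype.ext
        exact h4
      rw [h5, map_mul, map_mul, map_inv, pi_of_mem_E D ⟨_, hm⟩]
      have := hν ⟨_, hm⟩ (pi D ⟨_, hn⟩)⁻¹
      rw [inv_inv] at this
      exact this
    · rw [if_neg hx, if_neg hx2, add_zero]
      apply extendByZero_of_not_mem
      intro h2
      have h3 : (x⁻¹ * e * x) • a = a := h2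
      rw [mul_smul, mul_smul, inv_smul_eq_iff] at h3
      rcases fix_eq D.hZ D.hab e.2 he1' h3 with h4 | h4
      · exact hx h4
      · exact hx2 h4
  have hsum : ∀ (p : G → Prop) [DecidablePred p] (B : ℂ), ∑ x : G, (if p x then B else 0) =
      ((univ.filter p).card : ℂ) * B := by
    intro p _ B
    simp [Finset.sum_ite]
  rw [Finset.sum_congr rfl (fun x _ => h1 x), Finset.sum_add_distrib, hsum, hsum,
    card_filter_smul D (c := a) (s := 1) (one_smul _ _), card_filter_smul D (c := b) hsa]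
  have h5 := card_subgroup_ne_zero (stabilizer G a)
  field_simp

/-! ### The transform -/

section Transform

open scoped Classical

/-- The bijection `H × E ≃ G_a`. -/
noncomputable def prodEquiv : H × E (G := G) a b ≃ stabilizer G a :=
  Equiv.ofBijective
    (fun p => ⟨(p.1 : G) * p.2, (stabilizer G a).mul_mem (D.hHa p.1.2) p.2.2.1⟩)
    (by
      constructor
      · rintro ⟨u, e⟩ ⟨u', e'⟩ h
        have h1 := congrArg Subtype.val h
        obtain ⟨h2, h3⟩ := decomp_unique D u.2 u'.2 e.2 e'.2 h1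
        exact Prod.ext (Subtype.ext h2) (Subtype.ext h3)
      · rintro ⟨v, hv⟩
        obtain ⟨u, hu, e, he, h⟩ := exists_decomp D (v := v) hv
        exact ⟨(⟨u, hu⟩, ⟨e, he⟩), Subtype.ext h.symm⟩)

theorem card_stab : Nat.card (stabilizer G a) = Nat.card H * Nat.card (E (G := G) a b) := by
  rw [← Nat.card_prod]
  exact (Nat.card_congr (prodEquiv D)).symm

theorem sum_stab (g : stabilizer G a → ℂ) :
    ∑ v, g v = ∑ e : E (G := G) a b, ∑ u : H, g (prodEquiv D (u, e)) := by
  rw [← Fintype.sum_prod_type_right' (fun u e => g (prodEquiv D (u, e)))]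
  exact (Fintype.sum_equiv (prodEquiv D) _ _ (fun _ => rfl)).symm

omit D in
/-- The transform of a class function on `G`. -/
noncomputable def T (a b : Ω) (H : Subgroup G) (χ : G → ℂ) : E (G := G) a b → ℂ :=
  fun e => if e = 1 then (Nat.card H : ℂ)⁻¹ * ∑ u : H, χ u else χ e

theorem isClass_T {χ : G → ℂ} (hχ : IsClassFunction G χ) : IsClassFunction _ (T a b H χ) := by
  intro e k
  by_cases he : e = 1
  · subst he
    simp [T]
  · have h1 : k * e * k⁻¹ ≠ 1 := by
      intro h
      apply he
      have : e = k⁻¹ * (k * e * k⁻¹) * k := by group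
      rw [this, h]
      group
    simp only [T, if_neg he, if_neg h1]
    exact hχ (e : G) (k : G)

theorem sum_kernel_mul {χ : G → ℂ} (hχ : IsClassFunction G χ) (e : E (G := G) a b) :
    ∑ u : H, χ ((u : G) * e) = (Nat.card H : ℂ) * T a b H χ e := by
  by_cases he : e = 1
  · subst he
    have h0 := card_subgroup_ne_zero H
    simp only [T, if_true, Subgroup.coe_one, mul_one]
    field_simp
  · have he' : (e : G) ≠ 1 := fun h => he (Subtype.ext h)
    rw [T, if_neg he]
    have h1 : ∀ u : H, χ ((u : G) * e) = χ e := by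
      intro u
      obtain ⟨w, hw, h⟩ := exists_conj D e.2 he' u.2
      rw [h]
      exact hχ _ _
    rw [Finset.sum_congr rfl (fun u _ => h1 u), Finset.sum_const, Finset.card_univ, nsmul_eq_mul,
      Nat.card_eq_fintype_card]

/-- **The reciprocity formula.** -/
theorem classInner_Y {χ : G → ℂ} (hχ : IsClassFunction G χ) (ν : E (G := G) a b → ℂ) :
    classInner χ (Y D ν) = classInner (T a b H χ) ν := by
  rw [Y, classInner_indFun_right _ _ _ hχ, classInner_subgroup_eq, classInner_subgroup_eq, sum_stab D]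
  have h1 : ∀ (e : E (G := G) a b) (u : H),
      χ ((prodEquiv D (u, e) : stabilizer G a) : G) * conj (infl D ν (prodEquiv D (u, e))) =
        χ ((u : G) * e) * conj (ν e) := by
    intro e u
    have h2 : pi D (prodEquiv D (u, e)) = e := Subtype.ext (pi_eq D u.2 e.2 rfl)
    rw [infl, h2]
    rfl
  simp only [h1]
  have h2 : ∀ e : E (G := G) a b, ∑ u : H, χ ((u : G) * e) * conj (ν e) =
      (Nat.card H : ℂ) * (T a b H χ e * conj (ν e)) := by
    intro e
    rw [← Finset.sum_mul, sum_kernel_mul D hχ]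
    ring
  simp only [h2]
  rw [← Finset.mul_sum, card_stab D]
  push_cast
  have h3 := card_subgroup_ne_zero H
  have h4 := card_subgroup_ne_zero (E (G := G) a b)
  field_simp

/-- Conjugation by an element interchanging the two points. -/
def sig {s : G} (hsa : s • a = b) (hsb : s • b = a) : E (G := G) a b ≃* E (G := G) a b where
  toFun e := ⟨s⁻¹ * e * s, by
    have hsa' : s⁻¹ • b = a := by rw [inv_smul_eq_iff, hsa]
    have hsb' : s⁻¹ • a = b := by rw [inv_smul_eq_iff, hsb]
    constructor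
    · show (s⁻¹ * e * s) • a = a
      have h2 : (e : G) • b = b := e.2.2
      rw [mul_smul, mul_smul, hsa, h2, hsa']
    · show (s⁻¹ * e * s) • b = b
      have h2 : (e : G) • a = a := e.2.1
      rw [mul_smul, mul_smul, hsb, h2, hsb']⟩
  invFun e := ⟨s * e * s⁻¹, by
    have hsa' : s⁻¹ • b = a := by rw [inv_smul_eq_iff, hsa]
    have hsb' : s⁻¹ • a = b := by rw [inv_smul_eq_iff, hsb]
    constructor
    · show (s * e * s⁻¹) • a = a
      have h2 : (e : G) • b = b := e.2.2
      rw [mul_smul, mul_smul, hsb', h2, hsb]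
    · show (s * e * s⁻¹) • b = b
      have h2 : (e : G) • a = a := e.2.1
      rw [mul_smul, mul_smul, hsa', h2, hsa]⟩
  left_inv e := by apply Subtype.ext; simp [mul_assoc]
  right_inv e := by apply Subtype.ext; simp [mul_assoc]
  map_mul' e f := by apply Subtype.ext; simp [mul_assoc]

omit D in
@[simp] theorem coe_sig {s : G} (hsa : s • a = b) (hsb : s • b = a) (e : E (G := G) a b) :
    (sig hsa hsb e : G) = s⁻¹ * e * s := rfl

/-- The transform of an induced character. -/
theorem T_Y {μ : E (G := G) a b → ℂ} (hμ : IsClassFunction _ μ) {s : G} (hsa : s • a = b)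
    (hsb : s • b = a) : T a b H (Y D μ) = μ + μ ∘ sig hsa hsb := by
  funext e
  by_cases he : e = 1
  · subst he
    have h1 : ∀ u : H, Y D μ u = μ 1 + if u = 1 then (Nat.card H : ℂ) * μ 1 else 0 := by
      intro u
      by_cases hu : u = 1
      · subst hu
        rw [if_pos rfl, Subgroup.coe_one, Y_one D]
        ring
      · rw [if_neg hu, add_zero]
        exact Y_kernel D μ u.2 (fun h => hu (Subtype.ext h))
    have h0 := card_subgroup_ne_zero H
    simp only [T, if_true, Finset.sum_congr rfl (fun u _ => h1 u), Finset.sum_add_distrib,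
      Finset.sum_const, Finset.card_univ, nsmul_eq_mul, Pi.add_apply, Function.comp, map_one]
    rw [Finset.sum_ite_eq']
    simp only [mem_univ, if_true]
    rw [← Nat.card_eq_fintype_card]
    field_simp
  · obtain ⟨hm, h⟩ := Y_two D hμ hsa hsb e he
    simp only [T, if_neg he, Pi.add_apply, Function.comp, h]
    rfl

/-- The inner products of induced characters. -/
theorem classInner_Y_Y {μ : E (G := G) a b → ℂ} (hμ : IsClassFunction _ μ) {s : G} (hsa : s • a = b)
    (hsb : s • b = a) (ν : E (G := G) a b → ℂ) :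
    classInner (Y D μ) (Y D ν) = classInner μ ν + classInner (μ ∘ sig hsa hsb) ν := by
  rw [classInner_Y D (isClass_Y D μ), T_Y D hμ hsa hsb, classInner_add_left]

end Transform

end Cfsg.Agent.Lib.Zass.Infl
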