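import Cfsg.Agent.Lib.Zass.NuInd
import Cfsg.Agent.Lib.Coh.SibleyMain

/-!
# Non-coherence of the relevant characters for a simple Zassenhaus group with non-abelian kernel
-/

set_option autoImplicit false
set_option linter.unusedSectionVars false
set_option linter.unusedVariables false
set_option linter.style.haveILetI false

namespace Cfsg.Agent.Lib.Zass.NonCoh

open Cfsg MulAction
open Cfsg.Agent.Lib.Char.Ortho Cfsg.Agent.Lib.Char.Basic Cfsg.Agent.Lib.Char.Complete
  Cfsg.Agent.Lib.Char.Induced Cfsg.Agent.Lib.Char.GenLattice Cfsg.Agent.Lib.Char.Degree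
  Cfsg.Agent.Lib.Char.Linear Cfsg.Agent.Lib.Char.IndSpan
open Cfsg.Agent.Lib.Char.OddIndexReal
open Cfsg.Agent.Lib.Zass.Basic Cfsg.Agent.Lib.Zass.Stab Cfsg.Agent.Lib.Zass.Infl
  Cfsg.Agent.Lib.Zass.Inv Cfsg.Agent.Lib.Zass.InvCount Cfsg.Agent.Lib.Zass.AbKernel
  Cfsg.Agent.Lib.Zass.NuInd
open Cfsg.Agent.Lib.CharDeep.FrobRelevant Cfsg.Agent.Lib.Coh.FrobDeg Cfsg.Agent.Lib.Coh.DegSum
  Cfsg.Agent.Lib.Coh.Basic Cfsg.Agent.Lib.CharDeep.TIFNRel Cfsg.Agent.Lib.Coh.System
open Cfsg.Agent.Lib.OddChar.FixedClass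
open scoped ComplexConjugate Classical

variable {G Ω : Type*} [Group G] [Fintype G] [MulAction G Ω] [Fintype Ω] {a b : Ω} {H : Subgroup G}

/-- The relative degree. -/
noncomputable abbrev fd (H : Subgroup G) (a : Ω) (χ : stabilizer G a → ℂ) : ℕ :=
  rdeg (H.subgroupOf (stabilizer G a)) χ

/-- The function `Ψ`, equal to `ρ_H - 1` on `H` and zero off `H`. -/
noncomputable def Psi (H : Subgroup G) (a : Ω) : stabilizer G a → ℂ :=
  ∑ χ ∈ rel H a, ((fd H a χ : ℕ) : ℤ) • χ

/-- The sum of the squares of the relative degrees. -/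
noncomputable def Rr (H : Subgroup G) (a : Ω) : ℕ := ∑ χ ∈ rel H a, fd H a χ * fd H a χ

section Psi

theorem Psi_apply (v : stabilizer G a) :
    Psi H a v = ∑ χ ∈ rel H a, (fd H a χ : ℂ) * χ v := by
  unfold Psi
  simp only [Finset.sum_apply, Pi.smul_apply]
  refine Finset.sum_congr rfl fun χ _ => ?_
  simp

variable (D : Data a b H)

include D

theorem one_add_mul : 1 + Nat.card (E (G := G) a b) * Rr H a = Nat.card H := by
  have h1 := sum_rel_sq (normal_sub D) (central_sub D)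
  rw [card_sub D, index_sub D] at h1
  exact h1

theorem rel_apply_one {χ : stabilizer G a → ℂ} (hχ : χ ∈ rel H a) :
    χ 1 = (Nat.card (E (G := G) a b) : ℂ) * (fd H a χ : ℂ) := by
  have h1 := apply_one_eq (normal_sub D) (central_sub D) hχ
  rwa [index_sub D] at h1

omit D in
theorem Psi_mem : Psi H a ∈ zspan (↑(rel H a) : Set (stabilizer G a → ℂ)) := by
  refine (zspanS (↑(rel H a) : Set (stabilizer G a → ℂ))).sum_mem fun χ hχ => ?_
  exact (zspanS _).smul_mem _ (Submodule.subset_span hχ)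

theorem inner_Psi_left {χ : stabilizer G a → ℂ} (hχ : χ ∈ rel H a) :
    classInner (Psi H a) χ = (fd H a χ : ℂ) := by
  unfold Psi
  rw [classInner_sum_left, Finset.sum_eq_single χ]
  · rw [classInner_zsmul_left, classInner_self_of_isIrr (rel_irr hχ)]
    simp
  · intro ξ hξ hne
    rw [classInner_zsmul_left, classInner_eq_zero_of_isIrr_of_ne (rel_irr hξ) (rel_irr hχ) hne, mul_zero]
  · intro h
    exact absurd hχ h

theorem inner_Psi_right {χ : stabilizer G a → ℂ} (hχ : χ ∈ rel H a) :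
    classInner χ (Psi H a) = (fd H a χ : ℂ) := by
  rw [← classInner_conj, inner_Psi_left D hχ]
  simp

theorem inner_Psi_Psi : classInner (Psi H a) (Psi H a) = (Rr H a : ℂ) := by
  conv_lhs => rhs; unfold Psi
  rw [classInner_sum_right]
  unfold Rr
  push_cast
  refine Finset.sum_congr rfl fun χ hχ => ?_
  rw [classInner_zsmul_right, inner_Psi_left D hχ]
  simp

theorem Psi_one : Psi H a 1 = (Nat.card (E (G := G) a b) : ℂ) * (Rr H a : ℂ) := by
  rw [Psi_apply]
  unfold Rr
  push_cast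
  rw [Finset.mul_sum]
  refine Finset.sum_congr rfl fun χ hχ => ?_
  rw [rel_apply_one D hχ]
  ring

theorem Psi_at {v : stabilizer G a} (hv : (v : G) ∈ H) (hv1 : v ≠ 1) : Psi H a v = -1 := by
  have h1 := sum_rel_at (normal_sub D) (central_sub D) (k := v) (Subgroup.mem_subgroupOf.mpr hv) hv1
  rw [← h1, Psi_apply]

theorem Psi_off (v : stabilizer G a) (hv : (v : G) ∉ H) : Psi H a v = 0 := by
  rw [Psi_apply]
  refine Finset.sum_eq_zero fun χ hχ => ?_
  rw [rel_vanish D hχ v hv, mul_zero]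

/-- The indicator of `Ψ`. -/
theorem nu_Psi (hC : Ctx G Ω) : nu (Psi H a) = 0 ∨ nu (Psi H a) = 1 := by
  have hE : (Nat.card (E (G := G) a b) : ℂ) ≠ 0 := Nat.cast_ne_zero.mpr Nat.card_pos.ne'
  have hH : (Nat.card H : ℂ) ≠ 0 := Nat.cast_ne_zero.mpr Nat.card_pos.ne'
  have hh1 : (Nat.card H : ℂ) - 1 = (Nat.card (E (G := G) a b) : ℂ) * (Rr H a : ℂ) := by
    have := one_add_mul D
    rw [← this]
    push_cast
    ring
  have hterm : ∀ u : H, Psi H a (⟨u, D.hHa u.2⟩ * ⟨u, D.hHa u.2⟩) =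
      (if (u : G) * u = 1 then (Nat.card H : ℂ) else 0) - 1 := by
    intro u
    split_ifs with hu
    · have h2 : (⟨u, D.hHa u.2⟩ * ⟨u, D.hHa u.2⟩ : stabilizer G a) = 1 := Subtype.ext hu
      rw [h2, Psi_one D, ← hh1]
    · rw [Psi_at D (H.mul_mem u.2 u.2) (fun h => hu (congrArg Subtype.val h))]
      ring
  have h1 : nu (Psi H a) = ((Nat.card (fib (G := G) a a) : ℕ) : ℂ) * (Nat.card (E (G := G) a b) : ℂ)⁻¹ := by
    unfold nu
    rw [sum_vanish D (fun v => Psi H a (v * v)) (fun v hv => Psi_off D _ (sq_not_mem D hC hv)), card_stab D]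
    simp only [hterm]
    rw [Finset.sum_sub_distrib, Finset.sum_ite, Finset.sum_const, Finset.sum_const_zero, add_zero,
      Finset.sum_const, nsmul_eq_mul, nsmul_eq_mul, mul_one, Finset.card_univ,
      card_sq_one D hC, ← Nat.card_eq_fintype_card]
    simp only [Nat.card_eq_fintype_card, Fintype.card_coe]
    push_cast
    simp only [Nat.card_eq_fintype_card] at hH hE ⊢
    field_simp
    ring
  rcases Nat.even_or_odd (Fintype.card Ω) with h2 | h2
  · left
    rw [h1, fib_self_empty hC h2 a]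
    simp
  · right
    rw [h1, Nat.card_eq_fintype_card, Fintype.card_coe, card_fib_self_of_odd hC h2 D.hab]
    field_simp

end Psi

section Inner

variable (D : Data a b H)

include D

/-- The inner product of two induced functions vanishing off `H`. -/
theorem inner_ind_ind (g g' : stabilizer G a → ℂ) (hg : ∀ v : stabilizer G a, (v : G) ∉ H → g v = 0)
    (hg' : IsClassFunction _ g') :
    classInner (indFun (stabilizer G a) g) (indFun (stabilizer G a) g') =
      classInner g g' + g 1 * conj (g' 1) * (Nat.card (E (G := G) a b) : ℂ)⁻¹ := by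
  rw [classInner_indFun_left _ _ _ (isClassFunction_indFun _ _), classInner_subgroup_eq,
    sum_vanish D _ (fun v hv => by simp [hg v hv]), classInner_subgroup_eq _ g g',
    sum_vanish D _ (fun v hv => by simp [hg v hv])]
  have hterm : ∀ u : H, g ⟨u, D.hHa u.2⟩ * conj (indFun (stabilizer G a) g' (u : G)) =
      g ⟨u, D.hHa u.2⟩ * conj (g' ⟨u, D.hHa u.2⟩) +
        if u = 1 then g 1 * conj (g' 1) * (Nat.card H : ℂ) else 0 := by
    intro u
    by_cases hu : u = 1
    · subst hu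
      have h1 : (⟨((1 : H) : G), D.hHa (1 : H).2⟩ : stabilizer G a) = 1 := rfl
      rw [if_pos rfl, h1, Subgroup.coe_one, indFun_one, index_stabilizer D]
      simp only [map_mul, map_add, map_natCast, map_one, Nat.cast_add, Nat.cast_one]
      ring
    · rw [if_neg hu, add_zero, ind_kernel D hg' u.2 (fun h => hu (Subtype.ext h))]
  rw [Finset.sum_congr rfl (fun u _ => hterm u), Finset.sum_add_distrib, Finset.sum_ite_eq']
  simp only [Finset.mem_univ, if_true]
  rw [card_stab D]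
  push_cast
  have h3 := card_subgroup_ne_zero H
  have h4 := card_subgroup_ne_zero (E (G := G) a b)
  field_simp

end Inner

section Exists

variable (D : Data a b H)

include D

/-- The two-point stabilisers are non-trivial. -/
theorem one_lt_card_E : 1 < Nat.card (E (G := G) a b) := by
  obtain ⟨-, -, -, ⟨g, hg, c, d, hcd, h1, h2⟩, -⟩ := D.hZ
  rw [card_E_eq D.hZ hcd D.hab]
  have : Nontrivial (E (G := G) c d) := ⟨⟨⟨g, h1, h2⟩, 1, fun h => hg (congrArg Subtype.val h)⟩⟩
  exact Finite.one_lt_card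

theorem subgroupOf_ne_top : H.subgroupOf (stabilizer G a) ≠ ⊤ := by
  intro h
  have h1 := index_sub D
  rw [h, Subgroup.index_top] at h1
  have := one_lt_card_E D
  omega

theorem subgroupOf_ne_bot : H.subgroupOf (stabilizer G a) ≠ ⊥ := by
  intro h
  have h1 := card_sub D
  rw [h, Subgroup.card_bot] at h1
  have h2 := D.hHcard
  obtain ⟨c, hca, hcb⟩ := exists_third D.hZ a b
  have hΩ3 : 3 ≤ Fintype.card Ω := by
    have : ({a, b, c} : Finset Ω).card = 3 := by
      rw [Finset.card_eq_three]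
      exact ⟨a, b, c, D.hab, Ne.symm hca, Ne.symm hcb, rfl⟩
    rw [← this]
    exact Finset.card_le_univ _
  omega

theorem nilpotent_sub : Group.IsNilpotent (H.subgroupOf (stabilizer G a)) :=
  Cfsg.Agent.Lib.Coh.KernelNil.nilpotent_kernel (normal_sub D) (subgroupOf_ne_top D) (central_sub D)

/-- The relative degree of an induced character. -/
theorem fd_ind {θ : H.subgroupOf (stabilizer G a) → ℂ} (hθ : IsIrrCharacter _ θ)
    (hθ1 : θ ≠ fun _ => 1) :
    indFun _ θ ∈ rel H a ∧ fd H a (indFun _ θ) = charDegree θ := by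
  have h1 := ind_mem (normal_sub D) (central_sub D) hθ hθ1
  refine ⟨h1, ?_⟩
  have h2 := charDegree_eq (normal_sub D) (central_sub D) h1
  rw [charDegree_ind (isCharacter_of_isIrrCharacter hθ)] at h2
  exact (Nat.eq_of_mul_eq_mul_left
    (Nat.pos_of_ne_zero Subgroup.index_ne_zero_of_finite) h2).symm

/-- A relevant character of degree `e`, trivial on commutators. -/
theorem exists_chi1 : ∃ χ₁ ∈ rel H a, fd H a χ₁ = 1 ∧
    ∀ x ∈ H, ∀ y ∈ H, ∀ h : x * y * x⁻¹ * y⁻¹ ∈ stabilizer G a, χ₁ ⟨_, h⟩ = χ₁ 1 := by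
  set HH := H.subgroupOf (stabilizer G a) with hHH
  have hnil : Group.IsNilpotent HH := nilpotent_sub D
  have hsolv : Group.IsSolvable HH := inferInstance
  have hnt : Nontrivial HH := (Subgroup.nontrivial_iff_ne_bot HH).mpr (subgroupOf_ne_bot D)
  have hlt : commutator HH ≠ ⊤ := (Group.IsSolvable.commutator_lt_top_of_nontrivial HH).ne
  have hidx1 : (commutator HH).index ≠ 1 := fun h => hlt (Subgroup.index_eq_one.mp h)
  have hidx := card_linear_eq_index (G := HH)
  have hone : IsIrrCharacter HH (fun _ => (1 : ℂ)) := isIrr_one_fun HH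
  let triv : {χ : IrrCharacter HH // (χ : HH → ℂ) 1 = 1} := ⟨⟨fun _ => 1, hone⟩, rfl⟩
  have := finite_irrCharacter (G := HH)
  obtain ⟨lam, hlam⟩ : ∃ lam : {χ : IrrCharacter HH // (χ : HH → ℂ) 1 = 1}, lam ≠ triv := by
    by_contra hall
    push Not at hall
    have : Subsingleton {χ : IrrCharacter HH // (χ : HH → ℂ) 1 = 1} :=
      ⟨fun a b => (hall a).trans (hall b).symm⟩
    have h2 : Nat.card {χ : IrrCharacter HH // (χ : HH → ℂ) 1 = 1} = 1 :=
      Nat.card_eq_one_iff_unique.mpr ⟨this, ⟨triv⟩⟩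
    rw [hidx] at h2
    exact hidx1 h2
  have hθ : IsIrrCharacter HH lam.1.1 := lam.1.2
  have hθ1 : lam.1.1 ≠ fun _ => 1 := by
    intro h
    apply hlam
    apply Subtype.ext
    apply Subtype.ext
    exact h
  have hθd : lam.1.1 1 = 1 := lam.2
  obtain ⟨hm, hf⟩ := fd_ind D hθ hθ1
  refine ⟨_, hm, ?_, ?_⟩
  · rw [hf]
    exact charDegree_eq_of_eq_natCast (n := 1) (by simpa using hθd)
  · intro x hx y hy h
    obtain ⟨ℓ, hℓ⟩ := exists_hom_of_deg_one (isCharacter_of_isIrrCharacter hθ) hθd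
    rw [indFun_apply, indFun_apply]
    congr 1
    refine Finset.sum_congr rfl fun z _ => ?_
    have hxN : x ∈ stabilizer G a := D.hHa hx
    have hyN : y ∈ stabilizer G a := D.hHa hy
    have hmem : ∀ {u : G} (hu : u ∈ H), (⟨(z : G)⁻¹ * u * z, by
        exact (stabilizer G a).mul_mem ((stabilizer G a).mul_mem ((stabilizer G a).inv_mem z.2)
          (D.hHa hu)) z.2⟩ : stabilizer G a) ∈ HH := by
      intro u hu
      rw [hHH, Subgroup.mem_subgroupOf]
      have := conj_mem D ((stabilizer G a).inv_mem z.2) hu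
      simpa using this
    let p : HH := ⟨_, hmem hx⟩
    let q : HH := ⟨_, hmem hy⟩
    have h1 : z⁻¹ * (⟨x * y * x⁻¹ * y⁻¹, h⟩ : stabilizer G a) * z =
        ((p * q * p⁻¹ * q⁻¹ : HH) : stabilizer G a) := by
      apply Subtype.ext
      simp [p, q]
      group
    have h2 : z⁻¹ * (1 : stabilizer G a) * z = ((1 : HH) : stabilizer G a) := by
      simp
    rw [h1, h2, extendByZero_coe, extendByZero_coe, hℓ]
    simp only [map_mul, map_inv, map_one, Units.val_mul, Units.val_one]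
    have h5 : (((ℓ p)⁻¹ : ℂˣ) : ℂ) * (ℓ p : ℂ) = 1 := by rw [← Units.val_mul]; simp
    have h6 : (((ℓ q)⁻¹ : ℂˣ) : ℂ) * (ℓ q : ℂ) = 1 := by rw [← Units.val_mul]; simp
    linear_combination (ℓ q : ℂ) * (((ℓ q)⁻¹ : ℂˣ) : ℂ) * h5 + h6

/-- A relevant character of relative degree at least two. -/
theorem exists_chi2 (hna : ∃ x ∈ H, ∃ y ∈ H, x * y ≠ y * x) : ∃ χ₂ ∈ rel H a, 2 ≤ fd H a χ₂ := by
  set HH := H.subgroupOf (stabilizer G a) with hHH
  obtain ⟨x, hx, y, hy, hxy⟩ := hna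
  have hnc : ¬ ∀ p q : HH, p * q = q * p := by
    intro hall
    apply hxy
    have := hall ⟨⟨x, D.hHa hx⟩, Subgroup.mem_subgroupOf.mpr hx⟩ ⟨⟨y, D.hHa hy⟩, Subgroup.mem_subgroupOf.mpr hy⟩
    exact congrArg (fun w : HH => ((w : stabilizer G a) : G)) this
  rw [comm_iff_all_deg_one] at hnc
  push Not at hnc
  obtain ⟨θ, hθ⟩ := hnc
  have hθ1 : (θ : HH → ℂ) ≠ fun _ => 1 := by
    intro h
    apply hθ
    rw [h]
  obtain ⟨hm, hf⟩ := fd_ind D θ.2 hθ1
  refine ⟨_, hm, ?_⟩
  rw [hf]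
  have h1 := charDegree_pos θ.2
  have h2 := charDegree_natCast (isCharacter_of_isIrrCharacter θ.2)
  have h3 : charDegree (θ : HH → ℂ) ≠ 1 := by
    intro h
    rw [h] at h2
    apply hθ
    rw [← h2]
    simp
  omega

end Exists

section Norm

/-- The indicator of a generalized character of norm one. -/
theorem exists_nu_norm_one {X : Type*} [Group X] [Fintype X] {θ : X → ℂ}
    (hθ : IsGeneralizedCharacter X θ) (h1 : classInner θ θ = 1) :
    ∃ n : ℤ, nu θ = n ∧ (n = 0 ∨ n = 1 ∨ n = -1) ∧ ((∀ g, conj (θ g) = θ g) → n ≠ 0) ∧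
      (n ≠ 0 → ∀ g, conj (θ g) = θ g) := by
  rcases norm_one hθ h1 with h2 | h2
  · obtain ⟨n, hn, hn'⟩ := exists_nu_int h2
    refine ⟨n, hn, hn', fun h3 h4 => ?_, fun h3 g => ?_⟩
    · apply nu_ne_zero_of_real h2 h3
      rw [hn, h4]
      simp
    · apply real_of_nu_ne_zero h2
      rw [hn]
      exact_mod_cast h3
  · obtain ⟨n, hn, hn'⟩ := exists_nu_int h2
    have hn2 : nu θ = ((-n : ℤ) : ℂ) := by
      rw [nu_neg] at hn
      push_cast
      rw [← hn]
      ring
    refine ⟨-n, hn2, ?_, fun h3 h4 => ?_, fun h3 g => ?_⟩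
    · rcases hn' with h | h | h <;> simp [h]
    · apply nu_ne_zero_of_real h2 (fun g => ?_)
      · rw [hn]
        have : n = 0 := by omega
        simp [this]
      · simp only [Pi.neg_apply, map_neg, h3]
    · have h5 := real_of_nu_ne_zero h2 (by
        rw [hn]
        intro h6
        apply h3
        have h7 : n = 0 := by exact_mod_cast h6
        simp [h7]) g
      simp only [Pi.neg_apply, map_neg, neg_inj] at h5
      exact h5

/-- The integer arithmetic at the end. -/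
theorem beta_eq_zero {β V R : ℤ} (hV : V = 0 ∨ V = 1) (hR : 3 ≤ R)
    (h : 0 - β * V ≤ 0 - 2 * β - β ^ 2 * R) : β = 0 := by
  by_contra hne
  have h1 : 1 ≤ β ∨ β ≤ -1 := by omega
  rcases hV with rfl | rfl <;> rcases h1 with h1 | h1 <;> nlinarith [sq_nonneg β, mul_nonneg (sq_nonneg β) (sub_nonneg.mpr hR)]

end Norm

section Coh

variable (D : Data a b H) (hC : Ctx G Ω)
  {τ : (stabilizer G a → ℂ) → (G → ℂ)}
  (hτ : IsLinearIsometryOn (zspan (↑(rel H a) : Set (stabilizer G a → ℂ))) τ)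
  (hτI : ∀ α ∈ zspanOn (↑(rel H a) : Set (stabilizer G a → ℂ)) {1}ᶜ, τ α = indFun (stabilizer G a) α)

include D

omit D in
theorem iso' (hτ : IsLinearIsometryOn (zspan (↑(rel H a) : Set (stabilizer G a → ℂ))) τ) :
    IsLinearIsometryOn ((zspanS (↑(rel H a) : Set (stabilizer G a → ℂ)) :
      Submodule ℤ (stabilizer G a → ℂ)) : Set (stabilizer G a → ℂ)) τ := hτ

omit D in
theorem mem_zspan {χ : stabilizer G a → ℂ} (hχ : χ ∈ rel H a) :
    χ ∈ zspan (↑(rel H a) : Set (stabilizer G a → ℂ)) :=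
  Submodule.subset_span hχ

/-- Elements of the span vanish off `H`. -/
theorem vanish_of_mem {α : stabilizer G a → ℂ} (hα : α ∈ zspan (↑(rel H a) : Set (stabilizer G a → ℂ)))
    (v : stabilizer G a) (hv : (v : G) ∉ H) : α v = 0 := by
  induction hα using Submodule.span_induction with
  | mem ξ hξ => exact rel_vanish D hξ v hv
  | zero => rfl
  | add x y _ _ hx hy => simp [hx, hy]
  | smul n x _ hx => simp [hx]

omit D in
theorem norm_tau (hτ : IsLinearIsometryOn (zspan (↑(rel H a) : Set (stabilizer G a → ℂ))) τ)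
    {χ : stabilizer G a → ℂ} (hχ : χ ∈ rel H a) : classInner (τ χ) (τ χ) = 1 := by
  rw [iso_inner hτ (mem_zspan hχ) (mem_zspan hχ), classInner_self_of_isIrr (rel_irr hχ)]

/-- The elements of degree zero. -/
theorem mem_diff {χ χ₁ : stabilizer G a → ℂ} (hχ : χ ∈ rel H a) (hχ₁ : χ₁ ∈ rel H a)
    (hf : fd H a χ₁ = 1) :
    χ - ((fd H a χ : ℕ) : ℤ) • χ₁ ∈ zspanOn (↑(rel H a) : Set (stabilizer G a → ℂ)) {1}ᶜ := by
  rw [mem_zspanOn_compl_one]
  refine ⟨(zspanS _).sub_mem (mem_zspan hχ) ((zspanS _).smul_mem _ (mem_zspan hχ₁)), ?_⟩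
  simp only [Pi.sub_apply, Pi.smul_apply, rel_apply_one D hχ, rel_apply_one D hχ₁, hf]
  simp
  ring

omit D in
/-- The images of elements of degree zero. -/
theorem tau_diff (hτ : IsLinearIsometryOn (zspan (↑(rel H a) : Set (stabilizer G a → ℂ))) τ)
    {χ χ₁ : stabilizer G a → ℂ} (hχ : χ ∈ rel H a) (hχ₁ : χ₁ ∈ rel H a) (n : ℤ) :
    τ (χ - n • χ₁) = τ χ - n • τ χ₁ := by
  rw [iso_sub (iso' hτ) (mem_zspan hχ) ((zspanS _).smul_mem _ (mem_zspan hχ₁)),
    iso_zsmul (iso' hτ) (mem_zspan hχ₁)]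

omit D in
theorem conjFun_sub_zsmul {X : Type*} (x y : X → ℂ) (n : ℤ) :
    conjFun (x - n • y) = conjFun x - n • conjFun y := by
  funext g
  simp [conjFun]

omit D in
theorem genChar_conjFun {X : Type*} [Group X] [Fintype X] {x : X → ℂ}
    (h : IsGeneralizedCharacter X x) : IsGeneralizedCharacter X (conjFun x) :=
  isGenChar_conj h

/-- **Compatibility with complex conjugation.** -/
theorem conj_tau (hτ : IsLinearIsometryOn (zspan (↑(rel H a) : Set (stabilizer G a → ℂ))) τ)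
    (hτI : ∀ α ∈ zspanOn (↑(rel H a) : Set (stabilizer G a → ℂ)) {1}ᶜ, τ α = indFun (stabilizer G a) α)
    {χ₁ χ₂ : stabilizer G a → ℂ} (hχ₁ : χ₁ ∈ rel H a) (hf₁ : fd H a χ₁ = 1)
    (hχ₂ : χ₂ ∈ rel H a) (hf₂ : 2 ≤ fd H a χ₂) :
    conjFun (τ χ₁) = τ (conjFun χ₁) := by
  have hc₁ : conjFun χ₁ ∈ rel H a := Cfsg.Agent.Lib.Coh.Sibley.conj_mem_nontrivOn hχ₁
  have hc₂ : conjFun χ₂ ∈ rel H a := Cfsg.Agent.Lib.Coh.Sibley.conj_mem_nontrivOn hχ₂
  set f : ℤ := ((fd H a χ₂ : ℕ) : ℤ) with hf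
  have hf2 : (2 : ℤ) ≤ f := by rw [hf]; exact_mod_cast hf₂
  have hmem := mem_diff D hχ₂ hχ₁ hf₁
  have hmem' : conjFun (χ₂ - f • χ₁) ∈
      zspanOn (↑(rel H a) : Set (stabilizer G a → ℂ)) {1}ᶜ := by
    rw [conjFun_sub_zsmul, mem_zspanOn_compl_one]
    refine ⟨(zspanS _).sub_mem (mem_zspan hc₂) ((zspanS _).smul_mem _ (mem_zspan hc₁)), ?_⟩
    have h0 := (mem_zspanOn_compl_one.mp hmem).2
    have h1 : conjFun (χ₂ - f • χ₁) 1 = conj ((χ₂ - f • χ₁) 1) := rfl
    rw [conjFun_sub_zsmul] at h1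
    rw [h1, h0, map_zero]
  have h1 : τ (conjFun χ₂) - f • τ (conjFun χ₁) = conjFun (τ χ₂) - f • conjFun (τ χ₁) := by
    have h2 := hτI _ hmem'
    rw [conjFun_sub_zsmul, tau_diff hτ hc₂ hc₁] at h2
    rw [h2, ← conjFun_sub_zsmul, ← Cfsg.Agent.Lib.Coh2.Frob.conjFun_indFun, ← hτI _ hmem,
      tau_diff hτ hχ₂ hχ₁, conjFun_sub_zsmul]
  -- the four functions
  set X₁ := conjFun (τ χ₁) with hX₁
  set X₂ := conjFun (τ χ₂) with hX₂
  set Y₁ := τ (conjFun χ₁) with hY₁
  set Y₂ := τ (conjFun χ₂) with hY₂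
  have gX₁ : IsGeneralizedCharacter G X₁ := genChar_conjFun (iso_virtual hτ (mem_zspan hχ₁))
  have gX₂ : IsGeneralizedCharacter G X₂ := genChar_conjFun (iso_virtual hτ (mem_zspan hχ₂))
  have gY₁ : IsGeneralizedCharacter G Y₁ := iso_virtual hτ (mem_zspan hc₁)
  have gY₂ : IsGeneralizedCharacter G Y₂ := iso_virtual hτ (mem_zspan hc₂)
  have nX₁ : classInner X₁ X₁ = 1 := by
    rw [hX₁, inner_conj_conj, norm_tau hτ hχ₁, map_one]
  have nX₂ : classInner X₂ X₂ = 1 := by
    rw [hX₂, inner_conj_conj, norm_tau hτ hχ₂, map_one]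
  have nY₁ : classInner Y₁ Y₁ = 1 := norm_tau hτ hc₁
  have nY₂ : classInner Y₂ Y₂ = 1 := norm_tau hτ hc₂
  obtain ⟨p, hp⟩ := exists_int_classInner gX₁ gY₁
  obtain ⟨q, hq⟩ := exists_int_classInner gX₂ gY₂
  have hp' : classInner Y₁ X₁ = p := by rw [← classInner_conj, hp]; simp
  have hq' : classInner Y₂ X₂ = q := by rw [← classInner_conj, hq]; simp
  have h2 : X₂ - Y₂ = f • (X₁ - Y₁) := by
    rw [smul_sub]
    have : X₂ - f • X₁ = Y₂ - f • Y₁ := h1.symm
    rw [sub_eq_iff_eq_add] at this ⊢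
    rw [this]
    abel
  have h3 : (2 - 2 * q : ℂ) = (f : ℂ) * f * (2 - 2 * p) := by
    have h4 := congrArg (fun x => classInner x x) h2
    simp only [classInner_sub_left, classInner_sub_right, classInner_zsmul_left,
      classInner_zsmul_right, nX₁, nX₂, nY₁, nY₂, hp, hq, hp', hq'] at h4
    linear_combination h4
  have h4 : (1 - q : ℤ) = f * f * (1 - p) := by
    have : ((2 - 2 * q : ℤ) : ℂ) = ((f * f * (2 - 2 * p) : ℤ) : ℂ) := by
      push_cast
      exact h3
    have h5 : (2 - 2 * q : ℤ) = f * f * (2 - 2 * p) := by exact_mod_cast this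
    linarith
  have h5 : -1 ≤ q := by
    have h6 := classInner_self_re_nonneg (X₂ + Y₂)
    simp only [classInner_add_left, classInner_add_right, nX₂, nY₂, hq, hq'] at h6
    have h7 : ((1 + (q : ℂ) + ((q : ℂ) + 1)).re) = 2 + 2 * (q : ℝ) := by
      simp
      ring
    rw [h7] at h6
    have h8 : (-1 : ℝ) ≤ q := by linarith
    exact_mod_cast h8
  have h6 : p ≤ 1 := by
    have h6 := classInner_self_re_nonneg (X₁ - Y₁)
    simp only [classInner_sub_left, classInner_sub_right, nX₁, nY₁, hp, hp'] at h6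
    have h7 : ((1 - (p : ℂ) - ((p : ℂ) - 1)).re) = 2 - 2 * (p : ℝ) := by
      simp
      ring
    rw [h7] at h6
    have h8 : (p : ℝ) ≤ 1 := by linarith
    exact_mod_cast h8
  have h7 : p = 1 := by
    by_contra hne
    have h8 : 1 ≤ 1 - p := by omega
    nlinarith
  have h8 : classInner (X₁ - Y₁) (X₁ - Y₁) = 0 := by
    simp only [classInner_sub_left, classInner_sub_right, nX₁, nY₁, hp, hp', h7]
    simp
  rw [classInner_self_eq_zero_iff, sub_eq_zero] at h8
  exact h8

/-- **The indicator is preserved.** -/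
theorem nu_tau (hC : Ctx G Ω) (hτ : IsLinearIsometryOn (zspan (↑(rel H a) : Set (stabilizer G a → ℂ))) τ)
    (hτI : ∀ α ∈ zspanOn (↑(rel H a) : Set (stabilizer G a → ℂ)) {1}ᶜ, τ α = indFun (stabilizer G a) α)
    {χ₁ χ₂ : stabilizer G a → ℂ} (hχ₁ : χ₁ ∈ rel H a) (hf₁ : fd H a χ₁ = 1)
    (hχ₂ : χ₂ ∈ rel H a) (hf₂ : 2 ≤ fd H a χ₂) :
    nu (τ χ₁) = nu χ₁ := by
  have hc₁ : conjFun χ₁ ∈ rel H a := Cfsg.Agent.Lib.Coh.Sibley.conj_mem_nontrivOn hχ₁
  have hconj := conj_tau D hτ hτI hχ₁ hf₁ hχ₂ hf₂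
  obtain ⟨n₁, h1, h1a, h1b, h1c⟩ :=
    exists_nu_norm_one (iso_virtual hτ (mem_zspan hχ₁)) (norm_tau hτ hχ₁)
  obtain ⟨m₁, h2, h2a, h2b, h2c⟩ :=
    exists_nu_norm_one (isGenChar_of_isIrr (rel_irr hχ₁)) (classInner_self_of_isIrr (rel_irr hχ₁))
  obtain ⟨n₂, h3, h3a, -, -⟩ :=
    exists_nu_norm_one (iso_virtual hτ (mem_zspan hχ₂)) (norm_tau hτ hχ₂)
  obtain ⟨m₂, h4, h4a, -, -⟩ :=
    exists_nu_norm_one (isGenChar_of_isIrr (rel_irr hχ₂)) (classInner_self_of_isIrr (rel_irr hχ₂))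
  set f : ℤ := ((fd H a χ₂ : ℕ) : ℤ) with hf
  have hf2 : (2 : ℤ) ≤ f := by rw [hf]; exact_mod_cast hf₂
  have hmem := mem_diff D hχ₂ hχ₁ hf₁
  have hrel : nu (τ χ₂) - f * nu (τ χ₁) = nu χ₂ - f * nu χ₁ := by
    have h5 := hτI _ hmem
    rw [tau_diff hτ hχ₂ hχ₁] at h5
    have h6 := nu_ind D hC _ (vanish_of_mem D hmem.1)
    rw [← h5, nu_sub, nu_zsmul, nu_sub, nu_zsmul, (mem_zspanOn_compl_one.mp hmem).2, add_zero] at h6
    exact h6
  rw [h1, h2, h3, h4] at hrel
  have hrelZ : n₂ - f * n₁ = m₂ - f * m₁ := by exact_mod_cast hrel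
  have hiff : n₁ ≠ 0 ↔ m₁ ≠ 0 := by
    constructor
    · intro h5
      have h6 : conjFun (τ χ₁) = τ χ₁ := funext (h1c h5)
      rw [hconj] at h6
      have h8 : conjFun χ₁ = χ₁ := by
        by_contra hne
        have := iso_inner hτ (mem_zspan hc₁) (mem_zspan hχ₁)
        rw [h6, norm_tau hτ hχ₁, classInner_eq_zero_of_isIrr_of_ne (rel_irr hc₁) (rel_irr hχ₁) hne] at this
        exact one_ne_zero this
      exact h2b (fun g => congrFun h8 g)
    · intro h5
      have h6 : conjFun χ₁ = χ₁ := funext (h2c h5)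
      have h7 : conjFun (τ χ₁) = τ χ₁ := by rw [hconj, h6]
      exact h1b (fun g => congrFun h7 g)
  have hfin : n₁ = m₁ := by
    by_contra hne
    rcases h1a with h5 | h5 | h5 <;> rcases h2a with h6 | h6 | h6 <;>
      rcases h3a with h7 | h7 | h7 <;> rcases h4a with h8 | h8 | h8 <;> subst_vars <;>
      first
      | (exact hne rfl)
      | omega
  rw [h1, h2, hfin]

/-- A function orthogonal to the relevant characters is constant on `H`. -/
theorem const_of_orth {Z : stabilizer G a → ℂ} (hZ : IsClassFunction _ Z)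
    (h : ∀ ξ ∈ rel H a, classInner Z ξ = 0) {v : stabilizer G a} (hv : (v : G) ∈ H) : Z v = Z 1 := by
  rw [apply_eq_sum hZ v, apply_eq_sum hZ 1,
    sum_split (H := H.subgroupOf (stabilizer G a)) (fun θ => classInner Z θ * θ v),
    sum_split (H := H.subgroupOf (stabilizer G a)) (fun θ => classInner Z θ * θ 1)]
  rw [Finset.sum_eq_zero (s := nontrivOn _) (fun ξ hξ => by rw [h ξ hξ, zero_mul]),
    Finset.sum_eq_zero (s := nontrivOn _) (fun ξ hξ => by rw [h ξ hξ, zero_mul])]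
  simp only [zero_add]
  refine Finset.sum_congr rfl fun θ hθ => ?_
  rw [(mem_trivOn.mp hθ).2 v (Subgroup.mem_subgroupOf.mpr hv)]

omit D in
theorem indFun_zsmul' (n : ℤ) (f : stabilizer G a → ℂ) :
    indFun (stabilizer G a) (n • f) = n • indFun (stabilizer G a) f := by
  have h1 : n • f = (n : ℂ) • f := by rw [Int.cast_smul_eq_zsmul]
  have h2 : n • indFun (stabilizer G a) f = (n : ℂ) • indFun (stabilizer G a) f := by
    rw [Int.cast_smul_eq_zsmul]
  rw [h1, h2, indFun_smul]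

end Coh

/-- **Feit.** For a simple Zassenhaus group with two-point stabilisers of odd order, and non-abelian
kernel, the relevant characters of the point stabiliser are not coherent. -/
theorem not_coherent [IsSimpleGroup G] (D : Data a b H) (hC : Ctx G Ω)
    (hna : ∃ x ∈ H, ∃ y ∈ H, x * y ≠ y * x) :
    ¬ IsCoherent (↑(rel H a) : Set (stabilizer G a → ℂ)) {1}ᶜ
      (fun α => indFun (stabilizer G a) α) := by
  rintro ⟨-, τ, hτ, hτI'⟩
  have hτI : ∀ α ∈ zspanOn (↑(rel H a) : Set (stabilizer G a → ℂ)) {1}ᶜ,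
      τ α = indFun (stabilizer G a) α := hτI'
  obtain ⟨χ₁, hχ₁, hf₁, hcomm⟩ := exists_chi1 D
  obtain ⟨χ₂, hχ₂, hf₂⟩ := exists_chi2 D hna
  have hnu := nu_tau D hC hτ hτI hχ₁ hf₁ hχ₂ hf₂
  have hR : 3 ≤ Rr H a := by
    have hne : χ₁ ≠ χ₂ := by
      rintro rfl
      omega
    have h1 : ∑ x ∈ ({χ₁, χ₂} : Finset _), fd H a x * fd H a x ≤ Rr H a := by
      unfold Rr
      refine Finset.sum_le_sum_of_subset ?_
      intro x hx
      rw [Finset.mem_insert, Finset.mem_singleton] at hx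
      rcases hx with rfl | rfl <;> assumption
    rw [Finset.sum_pair hne, hf₁] at h1
    nlinarith
  set e : ℕ := Nat.card (E (G := G) a b) with he
  have he0 : (e : ℂ) ≠ 0 := Nat.cast_ne_zero.mpr Nat.card_pos.ne'
  set R : ℤ := ((Rr H a : ℕ) : ℤ) with hRdef
  have hRc : (R : ℂ) = (Rr H a : ℂ) := by rw [hRdef]; simp
  have hR3 : (3 : ℤ) ≤ R := by rw [hRdef]; exact_mod_cast hR
  have hχ₁1 : χ₁ 1 = (e : ℂ) := by
    rw [rel_apply_one D hχ₁, hf₁]
    simp [he]
  have hself : classInner χ₁ χ₁ = 1 := classInner_self_of_isIrr (rel_irr hχ₁)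
  have hPL : classInner (Psi H a) χ₁ = 1 := by rw [inner_Psi_left D hχ₁, hf₁]; simp
  have hPR : classInner χ₁ (Psi H a) = 1 := by rw [inner_Psi_right D hχ₁, hf₁]; simp
  have hPP : classInner (Psi H a) (Psi H a) = (R : ℂ) := by rw [inner_Psi_Psi D, hRc]
  -- the element `A`
  set A : stabilizer G a → ℂ := Psi H a - R • χ₁ with hA
  have hA1 : A 1 = 0 := by
    have h1 : A 1 = Psi H a 1 - (R : ℂ) * χ₁ 1 := by simp [hA]
    have h2 : Psi H a 1 = (e : ℂ) * (Rr H a : ℂ) := Psi_one D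
    rw [h1, h2, hχ₁1, hRc]
    ring
  have hAz : A ∈ zspan (↑(rel H a) : Set (stabilizer G a → ℂ)) :=
    (zspanS _).sub_mem Psi_mem ((zspanS _).smul_mem _ (mem_zspan hχ₁))
  have hAm : A ∈ zspanOn (↑(rel H a) : Set (stabilizer G a → ℂ)) {1}ᶜ :=
    mem_zspanOn_compl_one.mpr ⟨hAz, hA1⟩
  have hAv := vanish_of_mem D hAz
  have hAc : IsClassFunction _ A := isClassFunction_of_isGenChar (zspan_genChar hAz)
  have hχ₁c : IsClassFunction _ χ₁ := isClassFunction_of_isIrrCharacter (rel_irr hχ₁)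
  have hχ₁v := vanish_of_mem D (mem_zspan hχ₁)
  -- inner products in the stabiliser
  have hAχ : classInner A χ₁ = 1 - R := by
    simp only [hA, classInner_sub_left, classInner_zsmul_left, hPL, hself]
    ring
  have hχA : classInner χ₁ A = 1 - R := by
    simp only [hA, classInner_sub_right, classInner_zsmul_right, hPR, hself]
    ring
  have hAA : classInner A A = R * R - R := by
    simp only [hA, classInner_sub_left, classInner_sub_right, classInner_zsmul_left,
      classInner_zsmul_right, hPP, hPL, hPR, hself]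
    ring
  -- the functions in `G`
  set ψ : G → ℂ := τ χ₁ with hψ
  set I : G → ℂ := indFun (stabilizer G a) χ₁ with hI
  set J : G → ℂ := indFun (stabilizer G a) A with hJ
  have hJτ : τ A = J := hτI A hAm
  have gψ : IsGeneralizedCharacter G ψ := iso_virtual hτ (mem_zspan hχ₁)
  have gI : IsGeneralizedCharacter G I := isGenChar_indFun _ (isGenChar_of_isIrr (rel_irr hχ₁))
  have gJ : IsGeneralizedCharacter G J := isGenChar_indFun _ (zspan_genChar hAz)
  have nψ : classInner ψ ψ = 1 := norm_tau hτ hχ₁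
  have hII : classInner I I = 1 + e := by
    rw [hI, inner_ind_ind D χ₁ χ₁ hχ₁v hχ₁c, hself, hχ₁1, ← he]
    simp only [map_natCast]
    field_simp
  have hIJ : classInner I J = 1 - R := by
    rw [hI, hJ, inner_ind_ind D χ₁ A hχ₁v hAc, hχA, hA1]
    simp
  have hJI : classInner J I = 1 - R := by
    rw [hI, hJ, inner_ind_ind D A χ₁ hAv hχ₁c, hAχ, hA1]
    simp
  have hJJ : classInner J J = R * R - R := by
    rw [← hJτ, iso_inner hτ hAz hAz, hAA]
  have hJψ : classInner J ψ = 1 - R := by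
    rw [← hJτ, hψ, iso_inner hτ hAz (mem_zspan hχ₁), hAχ]
  have hψJ : classInner ψ J = 1 - R := by
    rw [← hJτ, hψ, iso_inner hτ (mem_zspan hχ₁) hAz, hχA]
  obtain ⟨c, hc⟩ := exists_int_classInner gI gψ
  have hc' : classInner ψ I = c := by rw [← classInner_conj, hc]; simp
  -- the generalized character `Ξ`
  set β : ℤ := c - 1 with hβ
  set k : ℤ := 1 + β * R with hk
  set Ξ : G → ℂ := I - β • J - k • ψ with hΞ
  have gΞ : IsGeneralizedCharacter G Ξ :=
    isGenChar_sub (isGenChar_sub gI (isGenChar_zsmul gJ β)) (isGenChar_zsmul gψ k)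
  have hnorm : classInner Ξ Ξ = (e : ℂ) - 2 * β - β ^ 2 * R := by
    simp only [hΞ, classInner_sub_left, classInner_sub_right, classInner_zsmul_left,
      classInner_zsmul_right, hII, hIJ, hJI, hJJ, hJψ, hψJ, hc, hc', nψ]
    simp only [hk, hβ]
    push_cast
    ring
  have hnuA : nu A = nu (Psi H a) - R * nu χ₁ := by
    rw [hA, nu_sub, nu_zsmul]
  have hnuI : nu I = nu χ₁ + e := by
    rw [hI, nu_ind D hC χ₁ hχ₁v, hχ₁1]
  have hnuJ : nu J = nu A := by
    rw [hJ, nu_ind D hC A hAv, hA1, add_zero]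
  obtain ⟨V, hV, hV01⟩ : ∃ V : ℤ, nu (Psi H a) = V ∧ (V = 0 ∨ V = 1) := by
    rcases nu_Psi D hC with h | h
    · exact ⟨0, by simpa using h, Or.inl rfl⟩
    · exact ⟨1, by simpa using h, Or.inr rfl⟩
  have hnuΞ : nu Ξ = (e : ℂ) - β * V := by
    rw [hΞ, nu_sub, nu_sub, nu_zsmul, nu_zsmul, hnuI, hnuJ, hnuA, hnu, hV, hk]
    push_cast
    ring
  obtain ⟨n, m, hn, hm, hnm⟩ := nu_le_norm gΞ
  have hn' : n = (e : ℤ) - β * V := by
    have : (n : ℂ) = (((e : ℤ) - β * V : ℤ) : ℂ) := by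
      rw [← hn, hnuΞ]
      push_cast
      ring
    exact_mod_cast this
  have hm' : m = (e : ℤ) - 2 * β - β ^ 2 * R := by
    have : (m : ℂ) = (((e : ℤ) - 2 * β - β ^ 2 * R : ℤ) : ℂ) := by
      rw [← hm, hnorm]
      push_cast
      ring
    exact_mod_cast this
  have hβ0 : β = 0 := beta_eq_zero hV01 hR3 (by
    rw [hn', hm'] at hnm
    linarith)
  have hc1 : (c : ℂ) = 1 := by
    have : c = 1 := by omega
    rw [this]
    simp
  -- the restriction of `ψ`
  have hψc : IsClassFunction G ψ := isClassFunction_of_isGenChar gψ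
  set Z : stabilizer G a → ℂ := fun v => ψ v - χ₁ v with hZ
  have hZc : IsClassFunction _ Z := by
    intro g h
    simp only [hZ]
    have h1 := hψc (g : G) (h : G)
    have h2 := hχ₁c g h
    rw [h2]
    congr 1
  have hZo : ∀ ξ ∈ rel H a, classInner Z ξ = 0 := by
    intro ξ hξ
    have hmem := mem_diff D hξ hχ₁ hf₁
    have h1 := iso_inner hτ hmem.1 (mem_zspan hχ₁)
    rw [hτI _ hmem, indFun_sub, indFun_zsmul'] at h1
    simp only [classInner_sub_left, classInner_zsmul_left] at h1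
    rw [show indFun (stabilizer G a) χ₁ = I from rfl, show τ χ₁ = ψ from rfl, hc, hc1, hself,
      mul_one] at h1
    have h2 : classInner (indFun (stabilizer G a) ξ) ψ = classInner ξ χ₁ := by
      linear_combination h1
    rw [classInner_indFun_left _ _ _ hψc] at h2
    have h3 : classInner ξ Z = 0 := by
      have h4 : Z = (fun v : stabilizer G a => ψ v) - χ₁ := rfl
      rw [h4, classInner_sub_right, h2, sub_self]
    rw [← classInner_conj, h3, map_zero]
  obtain ⟨x, hx, y, hy, hxy⟩ := hna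
  have hcomH : x * y * x⁻¹ * y⁻¹ ∈ H := H.mul_mem (H.mul_mem (H.mul_mem hx hy) (H.inv_mem hx)) (H.inv_mem hy)
  have hu1 : x * y * x⁻¹ * y⁻¹ ≠ 1 := by
    intro h
    apply hxy
    have h2 : x * y * x⁻¹ = y := by
      rw [mul_inv_eq_one] at h
      exact h
    rw [mul_inv_eq_iff_eq_mul] at h2
    exact h2
  have hZu := const_of_orth D hZc hZo (v := ⟨_, D.hHa hcomH⟩) hcomH
  simp only [hZ, hcomm x hx y hy (D.hHa hcomH)] at hZu
  have hψu : ψ (x * y * x⁻¹ * y⁻¹) = ψ 1 := by
    have := hZu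
    simpa using this
  -- the kernel
  have hall : ∀ g : G, ψ g = ψ 1 := by
    rcases norm_one gψ nψ with h | h
    · have hk1 : charKer (isCharacter_of_isIrrCharacter h) = ⊤ := by
        rcases (charKer_normal (isCharacter_of_isIrrCharacter h)).eq_bot_or_eq_top with h2 | h2
        · exfalso
          have h3 : x * y * x⁻¹ * y⁻¹ ∈ charKer (isCharacter_of_isIrrCharacter h) := hψu
          rw [h2, Subgroup.mem_bot] at h3
          exact hu1 h3
        · exact h2
      intro g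
      have h3 : g ∈ charKer (isCharacter_of_isIrrCharacter h) := by rw [hk1]; trivial
      exact h3
    · have hk1 : charKer (isCharacter_of_isIrrCharacter h) = ⊤ := by
        rcases (charKer_normal (isCharacter_of_isIrrCharacter h)).eq_bot_or_eq_top with h2 | h2
        · exfalso
          have h3 : x * y * x⁻¹ * y⁻¹ ∈ charKer (isCharacter_of_isIrrCharacter h) := by
            show (-ψ) _ = (-ψ) 1
            simp only [Pi.neg_apply, hψu]
          rw [h2, Subgroup.mem_bot] at h3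
          exact hu1 h3
        · exact h2
      intro g
      have h3 : g ∈ charKer (isCharacter_of_isIrrCharacter h) := by rw [hk1]; trivial
      have h4 : (-ψ) g = (-ψ) 1 := h3
      simpa using h4
  obtain ⟨-, w, hw, hwne⟩ := mem_nontrivOn.mp hχ₁
  apply hwne
  have h5 := const_of_orth D hZc hZo (v := w) (Subgroup.mem_subgroupOf.mp hw)
  simp only [hZ, hall] at h5
  linear_combination -h5

end Cfsg.Agent.Lib.Zass.NonCoh
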