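import Cfsg.Agent.Lib.Zass.Basic
import Cfsg.Agent.Lib.Frobenius.Normal
import Cfsg.Agent.Lib.Frobenius.ClassSizes

/-!
# Normal subgroups of Zassenhaus groups

A non-trivial normal subgroup `N` of a Zassenhaus group contains the regular normal subgroup of each
point stabiliser, and nontrivial elements fixing any two given points; the argument is: otherwise `N`
is a Frobenius group on `Ω` and its Frobenius kernel would be a regular normal subgroup of `G`.
-/

set_option autoImplicit false
set_option linter.unusedSectionVars false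
set_option linter.style.haveILetI false

namespace Cfsg.Agent.Lib.Zass.NormalSub

open Cfsg MulAction
open Cfsg.Agent.Lib.Frobenius.Basic Cfsg.Agent.Lib.Frobenius.Theorem
  Cfsg.Agent.Lib.Frobenius.Normal Cfsg.Agent.Lib.Zass.Basic

variable {G Ω : Type*} [Group G] [MulAction G Ω]

/-- A non-trivial normal subgroup is transitive on points. -/
theorem exists_smul_eq_of_normal (hZ : IsZassenhausGroup G Ω) (N : Subgroup G) [hN : N.Normal]
    (hN1 : N ≠ ⊥) (y z : Ω) : ∃ n ∈ N, n • y = z := by
  by_cases hyz : y = z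
  · exact ⟨1, N.one_mem, by simp [hyz]⟩
  obtain ⟨g, hgN, hg1⟩ := (Subgroup.bot_or_exists_ne_one N).resolve_left hN1
  obtain ⟨x, hx⟩ := exists_moved hZ hg1
  obtain ⟨t, ht1, ht2⟩ := trans2 hZ (a := x) (b := g • x) (Ne.symm hx) hyz
  refine ⟨t * g * t⁻¹, hN.conj_mem g hgN t, ?_⟩
  rw [← ht1, ← ht2]
  simp [mul_smul]

/-- A non-trivial normal subgroup of `G` has non-trivial point stabilisers. -/
theorem exists_ne_one_fix (hZ : IsZassenhausGroup G Ω) (N : Subgroup G) [hN : N.Normal]
    (hN1 : N ≠ ⊥) (a : Ω) : ∃ n ∈ N, n ≠ 1 ∧ n • a = a := by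
  have htrans : IsPretransitive N Ω := by
    refine ⟨fun y z => ?_⟩
    obtain ⟨n, hn, hnz⟩ := exists_smul_eq_of_normal hZ N hN1 y z
    exact ⟨⟨n, hn⟩, hnz⟩
  obtain ⟨c, hc⟩ := hZ.2.2.2.2 N hN htrans
  obtain ⟨n, hn, hn1⟩ := (Subgroup.bot_or_exists_ne_one _).resolve_left hc
  obtain ⟨t, tN, ht⟩ := exists_smul_eq_of_normal hZ N hN1 c a
  refine ⟨t * n * t⁻¹, N.mul_mem (N.mul_mem tN n.2) (N.inv_mem tN), ?_, ?_⟩
  · intro h
    apply hn1
    have : (n : G) = t⁻¹ * (t * n * t⁻¹) * t := by group
    apply Subtype.ext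
    rw [this, h]
    simp
  · rw [← ht]
    simp only [mul_smul, inv_smul_smul]
    have h2 : (n : G) • c = c := hn
    rw [h2]

variable [Finite G] [Finite Ω]

/-- Non-identity elements of `kernelAt` fix only the base point. -/
theorem kernelAt_fix (hZ : IsZassenhausGroup G Ω) {a b : Ω} (hab : a ≠ b) {u : G}
    (hu : u ∈ kernelAt (G := G) a b) {w : Ω} (hw : w ≠ a) (huw : u • w = w) : u = 1 := by
  obtain ⟨v, _, hv⟩ := kernelAt_regular (G := G) hZ hab hw hw
  have h1 := hv ⟨u, hu⟩ huw
  have h2 := hv 1 (by simp)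
  have h3 : (⟨u, hu⟩ : kernelAt (G := G) a b) = 1 := h1.trans h2.symm
  exact congrArg Subtype.val h3

/-- Elements of a point stabiliser fixing only the base point are in `kernelAt`. -/
theorem mem_kernelAt_of_fix (hZ : IsZassenhausGroup G Ω) {a b : Ω} (hab : a ≠ b) {u : G}
    (hua : u • a = a) (hfix : ∀ w : Ω, u • w = w → w = a) : u ∈ kernelAt (G := G) a b := by
  have hH := isFrobeniusComplement_compl hZ hab
  refine ⟨⟨u, hua⟩, ?_, rfl⟩
  rw [SetLike.mem_coe, mem_kernel_iff hH]
  right
  intro g hg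
  rw [mem_conj_iff, mem_compl] at hg
  simp only [Subgroup.coe_mul, Subgroup.coe_inv, mul_smul] at hg
  rw [inv_smul_eq_iff] at hg
  have h1 := hfix _ hg
  have hga : (g : G) • a = a := g.2
  apply hab
  have h2 : (g : G) • b = (g : G) • a := by rw [h1, hga]
  exact (smul_left_cancel _ h2).symm

/-- A point stabiliser element outside `kernelAt` fixes another point. -/
theorem exists_fix_of_not_mem_kernelAt (hZ : IsZassenhausGroup G Ω) {a b : Ω} (hab : a ≠ b) {u : G}
    (hua : u • a = a) (hu : u ∉ kernelAt (G := G) a b) : ∃ w : Ω, w ≠ a ∧ u • w = w := by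
  by_contra hcon
  push Not at hcon
  exact hu (mem_kernelAt_of_fix hZ hab hua fun w hw => by
    by_contra hwa
    exact hcon w hwa hw)

/-- The Frobenius situation: a normal subgroup with trivial two-point stabilisers is impossible. -/
theorem not_frobenius (hZ : IsZassenhausGroup G Ω) (N : Subgroup G) [hN : N.Normal] (hN1 : N ≠ ⊥)
    (hfree : ∀ n ∈ N, ∀ x y : Ω, x ≠ y → n • x = x → n • y = y → n = 1) : False := by
  classical
  obtain ⟨a⟩ : Nonempty Ω := by
    obtain ⟨_, _, p, _⟩ := hZ.2.2.2.1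
    exact ⟨p⟩
  -- the stabiliser of `a` in `N`
  let C : Subgroup N := stabilizer N a
  have hmemC : ∀ x : N, x ∈ C ↔ (x : G) • a = a := fun x => Iff.rfl
  obtain ⟨b, hba⟩ : ∃ b : Ω, b ≠ a := by
    obtain ⟨c, hc, _⟩ := exists_third hZ a a
    exact ⟨c, hc⟩
  have hC : IsFrobeniusComplement C := by
    apply isFrobeniusComplement_of
    · obtain ⟨n, hn, hn1, hna⟩ := exists_ne_one_fix hZ N hN1 a
      intro h0
      have : (⟨n, hn⟩ : N) ∈ C := hna
      rw [h0, Subgroup.mem_bot] at this
      exact hn1 (congrArg Subtype.val this)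
    · intro h0
      obtain ⟨n, hn, hnb⟩ := exists_smul_eq_of_normal hZ N hN1 a b
      have h1 : (⟨n, hn⟩ : N) ∈ C := by rw [h0]; trivial
      have h2 : n • a = a := h1
      rw [h2] at hnb
      exact hba hnb.symm
    · intro g hg x hx hgx
      have h1 : (x : G) • a = a := hx
      have h2 : ((g⁻¹ * x * g : N) : G) • a = a := hgx
      simp only [Subgroup.coe_mul, Subgroup.coe_inv, mul_smul] at h2
      rw [inv_smul_eq_iff] at h2
      have hg' : (g : G) • a ≠ a := fun h => hg h
      apply Subtype.ext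
      exact hfree x x.2 _ _ (Ne.symm hg') h1 h2
  -- the kernel
  let M : Subgroup G := (kernel C).map N.subtype
  have hmemM : ∀ x : G, x ∈ M ↔ x ∈ N ∧ (x = 1 ∨ ∀ c : Ω, x • c ≠ c) := by
    intro x
    constructor
    · rintro ⟨y, hy, rfl⟩
      refine ⟨y.2, ?_⟩
      rw [SetLike.mem_coe, mem_kernel_iff hC] at hy
      rcases hy with hy | hy
      · left
        rw [hy]
        rfl
      · right
        intro c hc
        obtain ⟨t, tN, ht⟩ := exists_smul_eq_of_normal hZ N hN1 a c
        apply hy ⟨t, tN⟩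
        rw [mem_conj_iff, hmemC]
        simp only [Subgroup.coe_mul, Subgroup.coe_inv, mul_smul]
        have hc' : (y : G) • c = c := hc
        rw [ht, hc', inv_smul_eq_iff, ht]
    · rintro ⟨hxN, hx⟩
      refine ⟨⟨x, hxN⟩, ?_, rfl⟩
      rw [SetLike.mem_coe, mem_kernel_iff hC]
      rcases hx with hx | hx
      · left
        apply Subtype.ext
        exact hx
      · right
        intro g hg
        rw [mem_conj_iff, hmemC] at hg
        simp only [Subgroup.coe_mul, Subgroup.coe_inv, mul_smul] at hg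
        rw [inv_smul_eq_iff] at hg
        exact hx _ hg
  have hMnormal : M.Normal := by
    constructor
    intro x hx g
    rw [hmemM] at hx ⊢
    obtain ⟨hxN, hx⟩ := hx
    refine ⟨hN.conj_mem x hxN g, ?_⟩
    rcases hx with hx | hx
    · left
      simp [hx]
    · right
      intro c hc
      apply hx (g⁻¹ • c)
      simp only [mul_smul] at hc
      rw [← smul_left_cancel_iff g, hc, smul_inv_smul]
  -- regularity of `M`
  have hMcard : Nat.card M = C.index := by
    rw [← card_kernel hC]
    exact Nat.card_congr (Subgroup.equivMapOfInjective _ _ Subtype.val_injective).symm.toEquiv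
  have hCidx : C.index = Nat.card Ω := by
    have htrans : IsPretransitive N Ω := by
      refine ⟨fun y z => ?_⟩
      obtain ⟨n, hn, hnz⟩ := exists_smul_eq_of_normal hZ N hN1 y z
      exact ⟨⟨n, hn⟩, hnz⟩
    have h1 := MulAction.index_stabilizer_of_transitive N a
    exact h1
  have hMinj : Function.Injective (fun m : M => (m : G) • a) := by
    intro m m' hmm
    have h1 : ((m' : G)⁻¹ * (m : G)) ∈ M := M.mul_mem (M.inv_mem m'.2) m.2
    have h2 := (hmemM _).1 h1
    rcases h2.2 with h3 | h3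
    · apply Subtype.ext
      exact (inv_mul_eq_one.mp h3).symm
    · exfalso
      apply h3 a
      simp only [mul_smul]
      have h4 : (m : G) • a = (m' : G) • a := hmm
      rw [h4, inv_smul_smul]
  have hMbij : Function.Bijective (fun m : M => (m : G) • a) :=
    (Nat.bijective_iff_injective_and_card _).mpr ⟨hMinj, by rw [hMcard, hCidx]⟩
  have hMtrans : IsPretransitive M Ω := by
    refine ⟨fun y z => ?_⟩
    obtain ⟨m, hm⟩ := hMbij.2 y
    obtain ⟨m', hm'⟩ := hMbij.2 z
    refine ⟨m' * m⁻¹, ?_⟩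
    change ((m' : G) * (m : G)⁻¹) • y = z
    have hm1 : (m : G) • a = y := hm
    have hm2 : (m' : G) • a = z := hm'
    rw [← hm1, ← hm2, mul_smul, inv_smul_smul]
  obtain ⟨c, hc⟩ := hZ.2.2.2.2 M hMnormal hMtrans
  obtain ⟨n, hn, hn1⟩ := (Subgroup.bot_or_exists_ne_one _).resolve_left hc
  have h1 := (hmemM _).1 n.2
  rcases h1.2 with h3 | h3
  · exact hn1 (Subtype.ext h3)
  · exact h3 c hn

/-- A non-trivial normal subgroup has non-trivial two-point stabilisers. -/
theorem exists_ne_one_fix2 (hZ : IsZassenhausGroup G Ω) (N : Subgroup G) [hN : N.Normal]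
    (hN1 : N ≠ ⊥) {a b : Ω} (hab : a ≠ b) : ∃ n ∈ N, n ≠ 1 ∧ n • a = a ∧ n • b = b := by
  by_contra hcon
  push Not at hcon
  apply not_frobenius hZ N hN1
  intro n hn x y hxy hnx hny
  by_contra hn1
  obtain ⟨t, ht1, ht2⟩ := trans2 hZ hxy hab
  apply hcon (t * n * t⁻¹) (hN.conj_mem n hn t)
  · intro h
    apply hn1
    have : n = t⁻¹ * (t * n * t⁻¹) * t := by group
    rw [this, h]
    group
  · rw [← ht1]
    simp [mul_smul, hnx]
  · rw [← ht2]
    simp [mul_smul, hny]

/-- A non-trivial normal subgroup contains the kernels. -/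
theorem kernelAt_le_of_normal (hZ : IsZassenhausGroup G Ω) (N : Subgroup G) [hN : N.Normal]
    (hN1 : N ≠ ⊥) {a b : Ω} (hab : a ≠ b) : kernelAt (G := G) a b ≤ N := by
  have hH := isFrobeniusComplement_compl hZ hab
  let R : Subgroup (stabilizer G a) := N.subgroupOf (stabilizer G a)
  haveI : R.Normal := Subgroup.Normal.subgroupOf hN _
  rcases kernel_le_or_le_kernel hH R with h | h
  · rintro _ ⟨x, hx, rfl⟩
    exact h hx
  · exfalso
    obtain ⟨n, hn, hn1, hna, hnb⟩ := exists_ne_one_fix2 hZ N hN1 hab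
    have h1 : (⟨n, hna⟩ : stabilizer G a) ∈ R := hn
    have h2 := h h1
    have h3 : n ∈ kernelAt (G := G) a b := ⟨⟨n, hna⟩, h2, rfl⟩
    exact hn1 (kernelAt_fix hZ hab h3 (Ne.symm hab) hnb)

end Cfsg.Agent.Lib.Zass.NormalSub
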