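import Cfsg.Agent.Lib.Zass.AbFinal
import Cfsg.Agent.Lib.Zass.InvCount
import Cfsg.Agent.Lib.Char.OddIndexReal

/-!
# The Frobenius-Schur functional on generalized characters, and on induced functions
-/

set_option autoImplicit false
set_option linter.unusedSectionVars false
set_option linter.unusedVariables false
set_option linter.style.haveILetI false

namespace Cfsg.Agent.Lib.Zass.NuInd

open Cfsg MulAction
open Cfsg.Agent.Lib.Char.Ortho Cfsg.Agent.Lib.Char.Basic Cfsg.Agent.Lib.Char.Complete
  Cfsg.Agent.Lib.Char.Induced Cfsg.Agent.Lib.Char.GenLattice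
open Cfsg.Agent.Lib.Char.OddIndexReal
open Cfsg.Agent.Lib.Zass.Basic Cfsg.Agent.Lib.Zass.Stab Cfsg.Agent.Lib.Zass.Infl
  Cfsg.Agent.Lib.Zass.Inv Cfsg.Agent.Lib.Zass.InvCount Cfsg.Agent.Lib.Zass.AbKernel
open scoped ComplexConjugate Classical

section Generic

variable {X : Type*} [Group X] [Fintype X]

theorem nu_add (f g : X → ℂ) : nu (f + g) = nu f + nu g := by
  simp only [nu, Pi.add_apply, Finset.sum_add_distrib, mul_add]

theorem nu_sub (f g : X → ℂ) : nu (f - g) = nu f - nu g := by
  simp only [nu, Pi.sub_apply, Finset.sum_sub_distrib, mul_sub]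

theorem nu_zsmul (n : ℤ) (f : X → ℂ) : nu (n • f) = n * nu f := by
  simp only [nu, Pi.smul_apply, zsmul_eq_mul, ← Finset.mul_sum]
  ring

theorem nu_neg (f : X → ℂ) : nu (-f) = - nu f := by
  simp only [nu, Pi.neg_apply, Finset.sum_neg_distrib, mul_neg]

theorem nu_sum {ι : Type*} (s : Finset ι) (f : ι → X → ℂ) :
    nu (∑ i ∈ s, f i) = ∑ i ∈ s, nu (f i) := by
  classical
  simp only [nu, Finset.sum_apply, Finset.mul_sum]
  rw [Finset.sum_comm]

/-- The indicator of an irreducible character as an integer. -/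
theorem exists_nu_int {χ : X → ℂ} (hχ : IsIrrCharacter X χ) :
    ∃ n : ℤ, nu χ = n ∧ (n = 0 ∨ n = 1 ∨ n = -1) := by
  rcases nu_cases hχ with h | h | h
  · exact ⟨0, by simpa using h, Or.inl rfl⟩
  · exact ⟨1, by simpa using h, Or.inr (Or.inl rfl)⟩
  · exact ⟨-1, by simpa using h, Or.inr (Or.inr rfl)⟩

/-- `ν θ ≤ ⟨θ, θ⟩` for a generalized character. -/
theorem nu_le_norm {θ : X → ℂ} (h : IsGeneralizedCharacter X θ) :
    ∃ n m : ℤ, nu θ = n ∧ classInner θ θ = m ∧ n ≤ m := by
  classical
  have := finite_irrCharacter (G := X)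
  letI := Fintype.ofFinite (IrrCharacter X)
  obtain ⟨m, -, rfl, hn⟩ := classInner_self_eq_sum_sq h
  choose v hv hv' using fun i : IrrCharacter X => exists_nu_int i.2
  refine ⟨∑ i, m i * v i, ∑ j, m j ^ 2, ?_, hn, ?_⟩
  · rw [nu_sum]
    push_cast
    refine Finset.sum_congr rfl fun i _ => ?_
    rw [nu_zsmul, hv]
  · refine Finset.sum_le_sum fun i _ => ?_
    have h1 := Int.le_self_sq (m i)
    have h2 := Int.le_self_sq (-m i)
    rw [neg_sq] at h2
    rcases hv' i with h0 | h0 | h0 <;> rw [h0] <;> nlinarith [sq_nonneg (m i)]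

/-- The indicator is nonzero on a real irreducible character. -/
theorem nu_ne_zero_of_real {χ : X → ℂ} (hχ : IsIrrCharacter X χ) (h : ∀ g, conj (χ g) = χ g) :
    nu χ ≠ 0 := by
  obtain ⟨n, ρ, hρ, rfl⟩ := hχ
  intro h0
  obtain ⟨s, hs⟩ := (Cfsg.Agent.Lib.Char.FrobSchur.frobeniusSchur ρ hρ).2.mp h0
  exact hs (Complex.conj_eq_iff_im.mp (h s))

/-- The indicator of an induced function. -/
theorem nu_indFun (N : Subgroup X) (f : N → ℂ) :
    nu (indFun N f) = (Nat.card N : ℂ)⁻¹ * ∑ g : X, extendByZero N f (g * g) := by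
  classical
  simp only [nu, indFun_apply]
  rw [← Finset.mul_sum, Finset.sum_comm]
  have h1 : ∀ y : X, ∑ g : X, extendByZero N f (y⁻¹ * (g * g) * y) =
      ∑ g : X, extendByZero N f (g * g) := by
    intro y
    refine Fintype.sum_equiv (MulAut.conj y⁻¹).toEquiv _ _ fun g => ?_
    congr 1
    simp
    group
  simp only [h1, Finset.sum_const, Finset.card_univ, nsmul_eq_mul]
  rw [← Nat.card_eq_fintype_card]
  have h0 : (Nat.card X : ℂ) ≠ 0 := Nat.cast_ne_zero.mpr Nat.card_pos.ne'
  field_simp

end Generic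

section Data

variable {G Ω : Type*} [Group G] [Fintype G] [MulAction G Ω] [Fintype Ω] {a b : Ω} {H : Subgroup G}
  (D : Data a b H) (hC : Ctx G Ω)

include D hC

/-- Squares in the odd quotient. -/
theorem eq_one_of_sq_E {x : E (G := G) a b} (hx : x * x = 1) : x = 1 := by
  obtain ⟨k, hk⟩ := hC.odd D.hab
  have h1 : x ^ (2 * k + 1) = 1 := by
    rw [← hk]
    exact pow_card_eq_one'
  rw [pow_succ, pow_mul, pow_two, hx, one_pow, one_mul] at h1
  exact h1

/-- An element of the stabiliser outside `H` has its square outside `H`. -/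
theorem sq_not_mem {v : stabilizer G a} (hv : (v : G) ∉ H) : ((v * v : stabilizer G a) : G) ∉ H := by
  intro h
  apply hv
  apply mem_of_pi_eq_one D
  apply eq_one_of_sq_E D hC
  rw [← map_mul]
  have := pi_of_mem_H D h
  exact this

/-- An element with a square in `H` other than `1` lies in `H`. -/
theorem mem_of_sq_mem {g : G} (h1 : g * g ∈ H) (h2 : g * g ≠ 1) : g ∈ H := by
  have hga : g • a = a := by
    apply D.hHfix _ h1 h2
    have : (g * g) • a = a := D.hHa h1
    calc (g * g) • g • a = g • (g * g) • a := by simp only [mul_smul]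
      _ = g • a := by rw [this]
  by_contra hg
  exact sq_not_mem D hC (v := ⟨g, hga⟩) hg h1

/-- Involutions in `H` are those fixing `a`. -/
theorem mem_fib_iff {t : G} : t ∈ fib (G := G) a a ↔ orderOf t = 2 ∧ t ∈ H := by
  rw [mem_fib]
  constructor
  · rintro ⟨h1, h2⟩
    refine ⟨h1, ?_⟩
    by_contra h3
    apply sq_not_mem D hC (v := ⟨t, h2⟩) h3
    have : t * t = 1 := invol_mul_self h1
    show t * t ∈ H
    rw [this]
    exact H.one_mem
  · rintro ⟨h1, h2⟩
    exact ⟨h1, D.hHa h2⟩

/-- The number of involutions outside `H`. -/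
theorem card_invs_not_mem :
    ((invs G).filter (fun t => t ∉ H)).card = Nat.card H * Nat.card (E (G := G) a b) := by
  classical
  have h1 := card_invs (G := G) hC D.hab (h := Nat.card H) (by rw [D.hHcard])
  have h2 := Finset.card_filter_add_card_filter_not (s := invs G) (fun t => t ∈ H)
  have h3 : (invs G).filter (fun t => t ∈ H) = fib (G := G) a a := by
    ext t
    rw [Finset.mem_filter, mem_invs, mem_fib_iff D hC]
  rw [h3] at h2
  omega

/-- The sum over the whole group. -/
theorem sum_ext_sq (f : stabilizer G a → ℂ) (hf : ∀ v : stabilizer G a, (v : G) ∉ H → f v = 0) :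
    ∑ g : G, extendByZero (stabilizer G a) f (g * g) =
      ∑ u : H, f ⟨(u : G) * u, D.hHa (H.mul_mem u.2 u.2)⟩ +
        f 1 * ((Nat.card H : ℂ) * (Nat.card (E (G := G) a b) : ℂ)) := by
  rw [← Finset.sum_filter_add_sum_filter_not Finset.univ (fun g : G => g ∈ H)]
  congr 1
  · rw [Finset.sum_subtype (Finset.univ.filter (fun g : G => g ∈ H)) (p := fun g => g ∈ H) (by simp)]
    refine Finset.sum_congr rfl fun u _ => ?_
    exact extendByZero_of_mem _ f (D.hHa (H.mul_mem u.2 u.2))
  · have h1 : ∀ g ∈ Finset.univ.filter (fun g : G => ¬ g ∈ H),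
        extendByZero (stabilizer G a) f (g * g) = if orderOf g = 2 then f 1 else 0 := by
      intro g hg
      have hgH : g ∉ H := (Finset.mem_filter.mp hg).2
      split_ifs with h2
      · rw [invol_mul_self h2]
        exact extendByZero_of_mem _ f (Subgroup.one_mem _)
      · have h3 : g * g ≠ 1 := by
          intro h4
          apply h2
          apply orderOf_eq_prime (p := 2) (by rw [pow_two]; exact h4)
          rintro rfl
          exact hgH H.one_mem
        have h4 : g * g ∉ H := fun h5 => hgH (mem_of_sq_mem D hC h5 h3)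
        by_cases h5 : g * g ∈ stabilizer G a
        · rw [extendByZero_of_mem _ f h5]
          exact hf _ h4
        · exact extendByZero_of_not_mem _ f h5
    rw [Finset.sum_congr rfl h1, Finset.sum_ite, Finset.sum_const_zero, add_zero, Finset.sum_const,
      nsmul_eq_mul, mul_comm]
    congr 1
    have h6 : (Finset.univ.filter (fun g : G => ¬ g ∈ H)).filter (fun g => orderOf g = 2) =
        (invs G).filter (fun t => t ∉ H) := by
      ext t
      simp only [Finset.mem_filter, Finset.mem_univ, true_and, mem_invs]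
      tauto
    rw [h6, card_invs_not_mem D hC]
    push_cast
    rfl

/-- **The indicator of an induced function vanishing off `H`.** -/
theorem nu_ind (f : stabilizer G a → ℂ) (hf : ∀ v : stabilizer G a, (v : G) ∉ H → f v = 0) :
    nu (indFun (stabilizer G a) f) = nu f + f 1 := by
  rw [nu_indFun, sum_ext_sq D hC f hf, card_stab D]
  have h1 : nu f = ((Nat.card H : ℂ) * (Nat.card (E (G := G) a b) : ℂ))⁻¹ *
      ∑ u : H, f ⟨(u : G) * u, D.hHa (H.mul_mem u.2 u.2)⟩ := by
    unfold nu
    rw [card_stab D]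
    push_cast
    rw [sum_vanish D (fun v => f (v * v)) (fun v hv => hf _ (sq_not_mem D hC hv))]
    rfl
  rw [h1]
  have h2 : (Nat.card H : ℂ) ≠ 0 := Nat.cast_ne_zero.mpr Nat.card_pos.ne'
  have h3 : (Nat.card (E (G := G) a b) : ℂ) ≠ 0 := Nat.cast_ne_zero.mpr Nat.card_pos.ne'
  push_cast
  field_simp

/-- The number of square roots of `1` in `H`. -/
theorem card_sq_one :
    (Finset.univ.filter (fun u : H => (u : G) * u = 1)).card = (fib (G := G) a a).card + 1 := by
  have h1 : (Finset.univ.filter (fun u : H => (u : G) * u = 1)).map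
      ⟨Subtype.val, Subtype.val_injective⟩ = insert 1 (fib (G := G) a a) := by
    ext t
    simp only [Finset.mem_map, Finset.mem_filter, Finset.mem_univ, true_and,
      Function.Embedding.coeFn_mk, Finset.mem_insert, mem_fib_iff D hC]
    constructor
    · rintro ⟨u, hu, rfl⟩
      by_cases h2 : (u : G) = 1
      · exact Or.inl h2
      · refine Or.inr ⟨orderOf_eq_prime (p := 2) (by rw [pow_two]; exact hu) h2, u.2⟩
    · rintro (rfl | ⟨h2, h3⟩)
      · exact ⟨1, by simp, rfl⟩
      · exact ⟨⟨t, h3⟩, invol_mul_self h2, rfl⟩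
  rw [← Finset.card_map ⟨Subtype.val, Subtype.val_injective⟩, h1, Finset.card_insert_of_notMem]
  intro h2
  have h3 := (mem_fib_iff D hC).mp h2
  simp at h3

end Data

end Cfsg.Agent.Lib.Zass.NuInd
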