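import Mathlib

/-!
# Recognition of `PGL(2,K)` among permutation groups of the projective line

A faithful action on `OnePoint K` containing the affine maps and `x ↦ -1/x`, in which the stabiliser
of `∞` consists of affine maps, is isomorphic to `PGL(2,K)`.
-/

set_option autoImplicit false
set_option linter.unusedSectionVars false
set_option linter.unusedSimpArgs false

namespace Cfsg.Agent.Lib.Zass.PGLRec

open Matrix OnePoint
open scoped MatrixGroups

universe u v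

variable {K : Type v} [Field K]

section act

variable [DecidableEq K]

/-- The action of `GL(2,K)` on the projective line. -/
noncomputable def PhiG : GL (Fin 2) K →* Equiv.Perm (OnePoint K) :=
  MulAction.toPermHom (GL (Fin 2) K) (OnePoint K)

lemma PhiG_apply (A : GL (Fin 2) K) (x : OnePoint K) : PhiG A x = A • x := rfl

lemma PhiG_infty (A : GL (Fin 2) K) :
    PhiG A ∞ = if A 1 0 = 0 then ∞ else ((A 0 0 / A 1 0 : K) : OnePoint K) := by
  rw [PhiG_apply, OnePoint.smul_infty_eq_ite]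

lemma PhiG_coe (A : GL (Fin 2) K) (k : K) :
    PhiG A k = if A 1 0 * k + A 1 1 = 0 then ∞ else
      (((A 0 0 * k + A 0 1) / (A 1 0 * k + A 1 1) : K) : OnePoint K) := by
  rw [PhiG_apply, OnePoint.smul_some_eq_ite]

lemma gl_det' (A : GL (Fin 2) K) : A 0 0 * A 1 1 - A 0 1 * A 1 0 ≠ 0 := by
  have h : (A : Matrix (Fin 2) (Fin 2) K).det ≠ 0 := by
    have := A.isUnit.map (Matrix.detMonoidHom (n := Fin 2) (R := K))
    exact this.ne_zero
  rwa [Matrix.det_fin_two] at h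

/-- The kernel of the action is the centre. -/
theorem ker_PhiG : (PhiG : GL (Fin 2) K →* _).ker = Subgroup.center (GL (Fin 2) K) := by
  ext A
  rw [MonoidHom.mem_ker, Matrix.GeneralLinearGroup.center_eq_range_scalar]
  have hdet := gl_det' A
  constructor
  · intro h
    have h1 : PhiG A ∞ = ∞ := by rw [h]; rfl
    have h2 : PhiG A ((0 : K) : OnePoint K) = ((0 : K) : OnePoint K) := by rw [h]; rfl
    have h3 : PhiG A ((1 : K) : OnePoint K) = ((1 : K) : OnePoint K) := by rw [h]; rfl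
    rw [PhiG_infty] at h1
    rw [PhiG_coe] at h2 h3
    have hc : A 1 0 = 0 := by
      by_contra hc
      rw [if_neg hc] at h1
      exact OnePoint.coe_ne_infty _ h1
    rw [hc] at h2 h3 hdet
    simp only [zero_mul, zero_add, mul_zero, sub_zero, mul_one] at h2 h3 hdet
    have hd : A 1 1 ≠ 0 := fun h => hdet (by rw [h, mul_zero])
    have ha : A 0 0 ≠ 0 := fun h => hdet (by rw [h, zero_mul])
    rw [if_neg hd] at h2 h3
    have h2' := OnePoint.coe_injective h2
    have h3' := OnePoint.coe_injective h3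
    have hb : A 0 1 = 0 := by
      field_simp at h2'
      simpa using h2'
    rw [hb, add_zero] at h3'
    have had : A 0 0 = A 1 1 := by
      field_simp at h3'
      exact h3'
    refine ⟨Units.mk0 (A 0 0) ha, ?_⟩
    apply Units.ext
    ext i j
    fin_cases i <;> fin_cases j <;>
      simp [Matrix.GeneralLinearGroup.coe_scalar, hc, hb, had]
  · rintro ⟨u, rfl⟩
    ext x
    induction x using OnePoint.rec with
    | infty =>
      rw [PhiG_infty]
      simp [Matrix.GeneralLinearGroup.coe_scalar]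
    | coe k =>
      rw [PhiG_coe]
      simp [Matrix.GeneralLinearGroup.coe_scalar]

/-- The affine matrix. -/
noncomputable def aff (a b : K) (ha : a ≠ 0) : GL (Fin 2) K :=
  Matrix.GeneralLinearGroup.mkOfDetNeZero !![a, b; 0, 1] (by simp [Matrix.det_fin_two, ha])

/-- The Weyl matrix. -/
noncomputable def wey : GL (Fin 2) K :=
  Matrix.GeneralLinearGroup.mkOfDetNeZero !![0, -1; 1, 0] (by simp [Matrix.det_fin_two])

lemma aff_00 (a b : K) (ha : a ≠ 0) : aff a b ha 0 0 = a := rfl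
lemma aff_01 (a b : K) (ha : a ≠ 0) : aff a b ha 0 1 = b := rfl
lemma aff_10 (a b : K) (ha : a ≠ 0) : aff a b ha 1 0 = 0 := rfl
lemma aff_11 (a b : K) (ha : a ≠ 0) : aff a b ha 1 1 = 1 := rfl
lemma wey_00 : (wey : GL (Fin 2) K) 0 0 = 0 := rfl
lemma wey_01 : (wey : GL (Fin 2) K) 0 1 = -1 := rfl
lemma wey_10 : (wey : GL (Fin 2) K) 1 0 = 1 := rfl
lemma wey_11 : (wey : GL (Fin 2) K) 1 1 = 0 := rfl

lemma Phi_aff_infty (a b : K) (ha : a ≠ 0) : PhiG (aff a b ha) ∞ = ∞ := by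
  rw [PhiG_infty, aff_10, if_pos rfl]

lemma Phi_aff_coe (a b : K) (ha : a ≠ 0) (k : K) :
    PhiG (aff a b ha) k = ((a * k + b : K) : OnePoint K) := by
  rw [PhiG_coe, aff_00, aff_01, aff_10, aff_11]
  simp

lemma Phi_wey_infty : PhiG (wey : GL (Fin 2) K) ∞ = ((0 : K) : OnePoint K) := by
  rw [PhiG_infty, wey_00, wey_10]
  simp

lemma Phi_wey_zero : PhiG (wey : GL (Fin 2) K) ((0 : K) : OnePoint K) = ∞ := by
  rw [PhiG_coe, wey_10, wey_11]
  simp

lemma Phi_wey_coe (k : K) (hk : k ≠ 0) : PhiG (wey : GL (Fin 2) K) k = ((-1 / k : K) : OnePoint K) := by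
  rw [PhiG_coe, wey_00, wey_01, wey_10, wey_11]
  simp [hk]

/-- Stabiliser of `∞` in `GL` is affine. -/
lemma Phi_stab (A : GL (Fin 2) K) (h : PhiG A ∞ = ∞) :
    ∃ a b : K, a ≠ 0 ∧ ∀ i : K, PhiG A i = ((a * i + b : K) : OnePoint K) := by
  have hdet := gl_det' A
  rw [PhiG_infty] at h
  have hc : A 1 0 = 0 := by
    by_contra hc
    rw [if_neg hc] at h
    exact OnePoint.coe_ne_infty _ h
  rw [hc] at hdet
  simp only [mul_zero, sub_zero] at hdet
  have hd : A 1 1 ≠ 0 := fun h => hdet (by rw [h, mul_zero])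
  have ha : A 0 0 ≠ 0 := fun h => hdet (by rw [h, zero_mul])
  refine ⟨A 0 0 / A 1 1, A 0 1 / A 1 1, div_ne_zero ha hd, fun i => ?_⟩
  rw [PhiG_coe, hc]
  simp only [zero_mul, zero_add, if_neg hd]
  congr 1
  field_simp

lemma perm_eq_of_aff {σ : Equiv.Perm (OnePoint K)} {a b : K} (ha : a ≠ 0) (h1 : σ ∞ = ∞)
    (h2 : ∀ i : K, σ i = ((a * i + b : K) : OnePoint K)) : σ = PhiG (aff a b ha) := by
  ext x
  induction x using OnePoint.rec with
  | infty => rw [h1, Phi_aff_infty]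
  | coe k => rw [h2, Phi_aff_coe]

/-- Two permutation groups of the projective line containing the affine maps and the Weyl element
whose elements fixing `∞` are affine, are equal. -/
lemma le_of_aff {P P' : Subgroup (Equiv.Perm (OnePoint K)) }
    (hP'aff : ∀ a b : K, ∀ ha : a ≠ 0, PhiG (aff a b ha) ∈ P')
    (hP'w : PhiG (wey : GL (Fin 2) K) ∈ P')
    (hPaff : ∀ a b : K, ∀ ha : a ≠ 0, PhiG (aff a b ha) ∈ P)
    (hPw : PhiG (wey : GL (Fin 2) K) ∈ P)
    (hPs : ∀ σ ∈ P, σ ∞ = ∞ → ∃ a b : K, a ≠ 0 ∧ ∀ i : K, σ i = ((a * i + b : K) : OnePoint K)) :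
    P ≤ P' := by
  have hstab : ∀ σ ∈ P, σ ∞ = ∞ → σ ∈ P' := by
    intro σ hσ h
    obtain ⟨a, b, ha, h2⟩ := hPs σ hσ h
    rw [perm_eq_of_aff ha h h2]
    exact hP'aff a b ha
  intro σ hσ
  rcases hz : σ ∞ with _ | z
  · exact hstab σ hσ hz
  · have hone : (1 : K) ≠ 0 := one_ne_zero
    set v := PhiG (aff (1 : K) (-z) hone) with hv
    set w := PhiG (wey : GL (Fin 2) K) with hw
    have h1 : (w * v * σ) ∞ = ∞ := by
      have hz' : σ ∞ = ((z : K) : OnePoint K) := hz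
      rw [Equiv.Perm.mul_apply, Equiv.Perm.mul_apply, hz', hv, Phi_aff_coe, hw]
      simp only [one_mul, add_neg_cancel]
      exact Phi_wey_zero
    have h2 : w * v * σ ∈ P' :=
      hstab _ (P.mul_mem (P.mul_mem hPw (hPaff _ _ hone)) hσ) h1
    have h3 : σ = (w * v)⁻¹ * (w * v * σ) := by group
    rw [h3]
    exact P'.mul_mem (P'.inv_mem (P'.mul_mem hP'w (hP'aff _ _ hone))) h2

end act

/-- **Recognition of `PGL(2,K)`.** -/
theorem nonempty_mulEquiv_PGL {G : Type u} [Group G] (ρ : G →* Equiv.Perm (OnePoint K))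
    (hinj : Function.Injective ρ)
    (hτ : ∀ b : K, ∃ g, ρ g ∞ = ∞ ∧ ∀ i : K, ρ g i = ((i + b : K) : OnePoint K))
    (hw : ∃ g, ρ g ∞ = ((0 : K) : OnePoint K) ∧ ρ g ((0 : K) : OnePoint K) = ∞ ∧
      ∀ i : K, i ≠ 0 → ρ g i = ((-1 / i : K) : OnePoint K))
    (hm : ∀ a : K, a ≠ 0 → ∃ g, ρ g ∞ = ∞ ∧ ∀ i : K, ρ g i = ((a * i : K) : OnePoint K))
    (hStab : ∀ g, ρ g ∞ = ∞ →
      ∃ a b : K, a ≠ 0 ∧ ∀ i : K, ρ g i = ((a * i + b : K) : OnePoint K)) :
    Nonempty (G ≃* Matrix.ProjGenLinGroup (Fin 2) K) := by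
  classical
  obtain ⟨w, hw1, hw2, hw3⟩ := hw
  have hPw : ρ w = PhiG (wey : GL (Fin 2) K) := by
    ext x
    induction x using OnePoint.rec with
    | infty => rw [hw1, Phi_wey_infty]
    | coe k =>
      by_cases hk : k = 0
      · subst hk
        rw [hw2, Phi_wey_zero]
      · rw [hw3 k hk, Phi_wey_coe k hk]
  have hPaff : ∀ (a b : K) (ha : a ≠ 0), PhiG (aff a b ha) ∈ ρ.range := by
    intro a b ha
    obtain ⟨g, hg1, hg2⟩ := hm a ha
    obtain ⟨k, hk1, hk2⟩ := hτ b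
    refine ⟨k * g, ?_⟩
    have h1 : ρ (k * g) ∞ = ∞ := by
      rw [map_mul, Equiv.Perm.mul_apply, hg1, hk1]
    have h2 : ∀ i : K, ρ (k * g) i = ((a * i + b : K) : OnePoint K) := by
      intro i
      rw [map_mul, Equiv.Perm.mul_apply, hg2, hk2]
    exact perm_eq_of_aff ha h1 h2
  have hle1 : (PhiG : GL (Fin 2) K →* _).range ≤ ρ.range := by
    refine le_of_aff hPaff ⟨w, hPw⟩ (fun a b ha => ⟨_, rfl⟩) ⟨_, rfl⟩ ?_
    rintro _ ⟨A, rfl⟩ h
    exact Phi_stab A h
  have hle2 : ρ.range ≤ (PhiG : GL (Fin 2) K →* _).range := by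
    refine le_of_aff (fun a b ha => ⟨_, rfl⟩) ⟨_, rfl⟩ hPaff ⟨w, hPw⟩ ?_
    rintro _ ⟨g, rfl⟩ h
    exact hStab g h
  have heq : ρ.range = (PhiG : GL (Fin 2) K →* _).range := le_antisymm hle2 hle1
  exact ⟨(MonoidHom.ofInjective hinj).trans ((MulEquiv.subgroupCongr heq).trans
    ((QuotientGroup.quotientKerEquivRange (PhiG : GL (Fin 2) K →* _)).symm.trans
      (QuotientGroup.quotientMulEquivOfEq ker_PhiG)))⟩

end Cfsg.Agent.Lib.Zass.PGLRec
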