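import Mathlib

/-!
# Abelian root groups in groups acting with trivial three-point stabilisers

`RootData G Ω A`: the group `G` acts faithfully on `Ω`, with trivial three-point stabilisers;
the additive group `A` acts through `τ` regularly on `Ω \ {∞}`, and `τ A` is normal in `G_∞`.

We develop the Bruhat calculus around an involution `s` interchanging `∞` and `0`:
the elements `br x ∈ s τ(A) s` taking `∞` to `x`, the elements `mu x ∈ s G_{∞,0}`,
and the fibre lemma for `x ↦ mu x`.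
-/

set_option autoImplicit false
set_option linter.unusedSectionVars false
set_option linter.unusedVariables false
set_option linter.style.haveILetI false

namespace Cfsg.Agent.Lib.Zass.Root

open MulAction

universe u v w

/-- Root group data. -/
structure RootData (G : Type u) (Ω : Type v) (A : Type w) [Group G] [MulAction G Ω]
    [AddCommGroup A] where
  τ : A → G
  τ_add : ∀ x y, τ (x + y) = τ x * τ y
  inf : Ω
  pt : A → Ω
  pt_inj : Function.Injective pt
  pt_ne : ∀ x, pt x ≠ inf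
  pt_surj : ∀ y, y ≠ inf → ∃ x, pt x = y
  τ_inf : ∀ x, τ x • inf = inf
  τ_pt : ∀ x y, τ x • pt y = pt (x + y)
  faith : ∀ g g' : G, (∀ y : Ω, g • y = g' • y) → g = g'
  fix3 : ∀ (g : G) (a b c : Ω), a ≠ b → b ≠ c → a ≠ c → g • a = a → g • b = b → g • c = c → g = 1
  norm : ∀ g : G, g • inf = inf → ∀ x, ∃ y, g * τ x * g⁻¹ = τ y

namespace RootData

variable {G : Type u} {Ω : Type v} {A : Type w} [Group G] [MulAction G Ω] [AddCommGroup A]
variable (R : RootData G Ω A)

/-! ### Translations and coordinates -/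

theorem τ_zero : R.τ 0 = 1 := by
  have h := R.τ_add 0 0
  rw [add_zero] at h
  exact (left_eq_mul.mp h)

theorem τ_neg (x : A) : R.τ (-x) = (R.τ x)⁻¹ := by
  have h := R.τ_add (-x) x
  rw [neg_add_cancel, R.τ_zero] at h
  exact (eq_inv_of_mul_eq_one_left h.symm)

theorem τ_comm (x y : A) : R.τ x * R.τ y = R.τ y * R.τ x := by
  rw [← R.τ_add, ← R.τ_add, add_comm]

theorem τ_sub (x y : A) : R.τ (x - y) = R.τ x * (R.τ y)⁻¹ := by
  rw [sub_eq_add_neg, R.τ_add, R.τ_neg]

/-- The origin. -/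
def o : Ω := R.pt 0

theorem τ_o (x : A) : R.τ x • R.o = R.pt x := by
  rw [o, R.τ_pt, add_zero]

theorem o_ne : R.o ≠ R.inf := R.pt_ne 0

theorem τ_inj {x y : A} (h : R.τ x = R.τ y) : x = y := by
  apply R.pt_inj
  rw [← R.τ_o, ← R.τ_o, h]

theorem pt_eq_o {x : A} : R.pt x = R.o ↔ x = 0 := R.pt_inj.eq_iff

open Classical in
/-- The coordinate of a point (with value `0` at `∞`). -/
noncomputable def coord (y : Ω) : A :=
  if h : y ≠ R.inf then (R.pt_surj y h).choose else 0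

theorem pt_coord {y : Ω} (h : y ≠ R.inf) : R.pt (R.coord y) = y := by
  rw [coord, dif_pos h]
  exact (R.pt_surj y h).choose_spec

theorem coord_pt (x : A) : R.coord (R.pt x) = x := R.pt_inj (R.pt_coord (R.pt_ne x))

theorem coord_inf : R.coord R.inf = 0 := by
  rw [coord, dif_neg (by simp)]

/-- The action of a group element in coordinates. -/
noncomputable def ap (g : G) (x : A) : A := R.coord (g • R.pt x)

theorem pt_ap {g : G} {x : A} (h : g • R.pt x ≠ R.inf) : R.pt (R.ap g x) = g • R.pt x :=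
  R.pt_coord h

/-! ### The two point stabiliser -/

/-- The two-point stabiliser. -/
def H : Subgroup G := stabilizer G R.inf ⊓ stabilizer G R.o

theorem mem_H {g : G} : g ∈ R.H ↔ g • R.inf = R.inf ∧ g • R.o = R.o := Iff.rfl

section H

variable {R}
variable {g k : G}

theorem H_pt (hg : g ∈ R.H) (x : A) : g • R.pt x = R.pt (R.ap g x) := by
  refine (R.pt_ap ?_).symm
  intro h
  apply R.pt_ne x
  have h1 : g • R.pt x = g • R.inf := by rw [h, hg.1]
  exact smul_left_cancel _ h1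

theorem H_ap_zero (hg : g ∈ R.H) : R.ap g 0 = 0 := by
  have h := H_pt hg 0
  have h2 : g • R.pt 0 = R.pt 0 := hg.2
  rw [h2] at h
  exact (R.pt_inj h).symm

theorem H_conj (hg : g ∈ R.H) (x : A) : g * R.τ x * g⁻¹ = R.τ (R.ap g x) := by
  obtain ⟨y, hy⟩ := R.norm g hg.1 x
  have h1 : (g * R.τ x * g⁻¹) • R.o = R.pt (R.ap g x) := by
    have h2 : g⁻¹ • R.o = R.o := by
      rw [inv_smul_eq_iff]
      exact hg.2.symm
    rw [mul_smul, mul_smul, h2, R.τ_o, H_pt hg]
  rw [hy, R.τ_o] at h1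
  rw [hy, R.pt_inj h1]

theorem H_add (hg : g ∈ R.H) (x y : A) : R.ap g (x + y) = R.ap g x + R.ap g y := by
  apply R.τ_inj
  rw [← H_conj hg, R.τ_add, R.τ_add, ← H_conj hg, ← H_conj hg]
  group

theorem H_neg (hg : g ∈ R.H) (x : A) : R.ap g (-x) = - R.ap g x := by
  have h := H_add hg (-x) x
  rw [neg_add_cancel, H_ap_zero hg] at h
  exact eq_neg_of_add_eq_zero_left h.symm

theorem H_sub (hg : g ∈ R.H) (x y : A) : R.ap g (x - y) = R.ap g x - R.ap g y := by
  rw [sub_eq_add_neg, H_add hg, H_neg hg, sub_eq_add_neg]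

theorem H_mul (hg : g ∈ R.H) (hk : k ∈ R.H) (x : A) : R.ap (g * k) x = R.ap g (R.ap k x) := by
  have h := H_pt (R.H.mul_mem hg hk) x
  rw [mul_smul, H_pt hk, H_pt hg] at h
  exact (R.pt_inj h).symm

theorem H_one (x : A) : R.ap (1 : G) x = x := by
  rw [ap, one_smul, coord_pt]

theorem H_inv (hg : g ∈ R.H) (x : A) : R.ap g⁻¹ (R.ap g x) = x := by
  rw [← H_mul (R.H.inv_mem hg) hg, inv_mul_cancel, H_one]

theorem H_inv' (hg : g ∈ R.H) (x : A) : R.ap g (R.ap g⁻¹ x) = x := by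
  rw [← H_mul hg (R.H.inv_mem hg), mul_inv_cancel, H_one]

theorem H_ne_zero (hg : g ∈ R.H) {x : A} (hx : x ≠ 0) : R.ap g x ≠ 0 := by
  intro h
  apply hx
  rw [← H_inv hg x, h, H_ap_zero (R.H.inv_mem hg)]

/-- Elements of `H` fixing a further point are trivial. -/
theorem H_fix (hg : g ∈ R.H) {x : A} (hx : x ≠ 0) (h : R.ap g x = x) : g = 1 := by
  refine R.fix3 g R.inf R.o (R.pt x) (Ne.symm R.o_ne) ?_ (Ne.symm (R.pt_ne x)) hg.1 hg.2 ?_
  · intro h'
    exact hx (R.pt_inj h').symm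
  · rw [H_pt hg, h]

theorem H_eq (hg : g ∈ R.H) (hk : k ∈ R.H) {x : A} (hx : x ≠ 0) (h : R.ap g x = R.ap k x) : g = k := by
  have h1 : R.ap (k⁻¹ * g) x = x := by
    rw [H_mul (R.H.inv_mem hk) hg, h, H_inv hk]
  have := H_fix (R.H.mul_mem (R.H.inv_mem hk) hg) hx h1
  exact (inv_mul_eq_one.mp this).symm

theorem H_ext (hg : g ∈ R.H) (hk : k ∈ R.H) (h : ∀ x, R.ap g x = R.ap k x) : g = k := by
  apply R.faith
  intro y
  by_cases hy : y = R.inf
  · rw [hy, hg.1, hk.1]
  · rw [← R.pt_coord hy, H_pt hg, H_pt hk, h]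

/-- Elements fixing `∞` decompose. -/
theorem exists_τ_mul (g : G) (hg : g • R.inf = R.inf) :
    ∃ (x : A) (h : G), h ∈ R.H ∧ g = R.τ x * h := by
  have hne : g • R.o ≠ R.inf := by
    intro h
    apply R.o_ne
    have h1 : g • R.o = g • R.inf := by rw [h, hg]
    exact smul_left_cancel _ h1
  refine ⟨R.coord (g • R.o), (R.τ (R.coord (g • R.o)))⁻¹ * g, ⟨?_, ?_⟩, by group⟩
  · have h1 : (R.τ (R.coord (g • R.o)))⁻¹ • R.inf = R.inf := by
      rw [inv_smul_eq_iff, R.τ_inf]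
    show ((R.τ (R.coord (g • R.o)))⁻¹ * g) • R.inf = R.inf
    rw [mul_smul, hg, h1]
  · show ((R.τ (R.coord (g • R.o)))⁻¹ * g) • R.o = R.o
    rw [mul_smul, inv_smul_eq_iff, R.τ_o, R.pt_coord hne]

end H

/-- The action of `H` by additive endomorphisms. -/
noncomputable def hom : R.H →* AddMonoid.End A where
  toFun g :=
    { toFun := R.ap g
      map_zero' := H_ap_zero g.2
      map_add' := H_add g.2 }
  map_one' := by
    ext x
    exact H_one x
  map_mul' := by
    intro g k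
    ext x
    exact H_mul g.2 k.2 x

theorem hom_apply (g : R.H) (x : A) : R.hom g x = R.ap g x := rfl

/-! ### Elements interchanging `∞` and `0` -/

/-- `m` interchanges `∞` and `0`. -/
structure Sw (m : G) : Prop where
  inf : m • R.inf = R.o
  o : m • R.o = R.inf

section Sw

variable {R}
variable {m m' s : G}

theorem Sw.pt (hm : R.Sw m) {x : A} (hx : x ≠ 0) : m • R.pt x = R.pt (R.ap m x) := by
  refine (R.pt_ap ?_).symm
  intro h
  apply hx
  have h1 : m • R.pt x = m • R.o := by rw [h, hm.o]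
  exact R.pt_inj (smul_left_cancel _ h1)

theorem Sw.ne_zero (hm : R.Sw m) {x : A} (hx : x ≠ 0) : R.ap m x ≠ 0 := by
  intro h
  have h1 := hm.pt hx
  rw [h] at h1
  have h2 : m • R.pt x = m • R.inf := by rw [h1, hm.inf]; rfl
  exact R.pt_ne x (smul_left_cancel _ h2)

theorem Sw.inv (hm : R.Sw m) : R.Sw m⁻¹ :=
  ⟨by rw [inv_smul_eq_iff, hm.o], by rw [inv_smul_eq_iff, hm.inf]⟩

theorem Sw.mul_mem (hm : R.Sw m) (hm' : R.Sw m') : m * m' ∈ R.H :=
  ⟨by
    show (m * m') • R.inf = R.inf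
    rw [mul_smul, hm'.inf, hm.o], by
    show (m * m') • R.o = R.o
    rw [mul_smul, hm'.o, hm.inf]⟩

theorem Sw.H_mul (hm : R.Sw m) {h : G} (hh : h ∈ R.H) : R.Sw (h * m) :=
  ⟨by rw [mul_smul, hm.inf, hh.2], by rw [mul_smul, hm.o, hh.1]⟩

theorem Sw.mul_H (hm : R.Sw m) {h : G} (hh : h ∈ R.H) : R.Sw (m * h) :=
  ⟨by rw [mul_smul, hh.1, hm.inf], by rw [mul_smul, hh.2, hm.o]⟩

theorem Sw.ap_ap (hm : R.Sw m) (hm' : R.Sw m') {x : A} (hx : x ≠ 0) :
    R.ap (m * m') x = R.ap m (R.ap m' x) := by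
  have h1 : (m * m') • R.pt x = R.pt (R.ap m (R.ap m' x)) := by
    rw [mul_smul, hm'.pt hx, hm.pt (hm'.ne_zero hx)]
  have h2 := R.pt_ap (g := m * m') (x := x) (by
    rw [h1]; exact R.pt_ne _)
  rw [h1] at h2
  exact R.pt_inj h2

theorem Sw.H_ap (hm : R.Sw m) {h : G} (hh : h ∈ R.H) (x : A) :
    R.ap (h * m) x = R.ap h (R.ap m x) := by
  by_cases hx : x = 0
  · subst hx
    have h1 : (h * m) • R.pt 0 = R.inf := (hm.H_mul hh).o
    have h2 : m • R.pt 0 = R.inf := hm.o
    rw [ap, h1, ap, ap, h2, coord_inf, show R.pt 0 = R.o from rfl, hh.2]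
    rw [show R.o = R.pt 0 from rfl, coord_pt]
  · have h1 : (h * m) • R.pt x = R.pt (R.ap h (R.ap m x)) := by
      rw [mul_smul, hm.pt hx, H_pt hh]
    have h2 := (hm.H_mul hh).pt hx
    rw [h1] at h2
    exact (R.pt_inj h2).symm

theorem Sw.ap_H (hm : R.Sw m) {h : G} (hh : h ∈ R.H) {x : A} (hx : x ≠ 0) :
    R.ap (m * h) x = R.ap m (R.ap h x) := by
  have h1 : (m * h) • R.pt x = R.pt (R.ap m (R.ap h x)) := by
    rw [mul_smul, H_pt hh, hm.pt (H_ne_zero hh hx)]
  have h2 := (hm.mul_H hh).pt hx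
  rw [h1] at h2
  exact (R.pt_inj h2).symm

theorem Sw.ap_inv (hm : R.Sw m) {x : A} (hx : x ≠ 0) : R.ap m⁻¹ (R.ap m x) = x := by
  have h1 : m⁻¹ • R.pt (R.ap m x) = R.pt x := by
    rw [← hm.pt hx, inv_smul_smul]
  have h2 := hm.inv.pt (hm.ne_zero hx)
  rw [h1] at h2
  exact (R.pt_inj h2).symm

theorem Sw.ap_inj (hm : R.Sw m) {x y : A} (hx : x ≠ 0) (hy : y ≠ 0) (h : R.ap m x = R.ap m y) :
    x = y := by
  rw [← hm.ap_inv hx, ← hm.ap_inv hy, h]

/-- Uniqueness of the Bruhat factorisation. -/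
theorem bruhat_unique (hm : R.Sw m) (hm' : R.Sw m') {a a' b b' : A}
    (h : R.τ a * m * R.τ b = R.τ a' * m' * R.τ b') : a = a' ∧ m = m' ∧ b = b' := by
  have h1 : (R.τ a * m * R.τ b) • R.inf = R.pt a := by
    rw [mul_smul, R.τ_inf, mul_smul, hm.inf, R.τ_o]
  have h2 : (R.τ a' * m' * R.τ b') • R.inf = R.pt a' := by
    rw [mul_smul, R.τ_inf, mul_smul, hm'.inf, R.τ_o]
  have haa : a = a' := R.pt_inj (by rw [← h1, ← h2, h])
  subst haa
  have h3 : m * R.τ b = m' * R.τ b' := by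
    have := h
    rw [mul_assoc, mul_assoc] at this
    exact mul_left_cancel this
  have h4 : (m * R.τ b) • R.pt (-b) = R.inf := by
    rw [mul_smul, R.τ_pt, add_neg_cancel]
    exact hm.o
  rw [h3, mul_smul, R.τ_pt] at h4
  have h5 : R.pt (b' + -b) = R.o := by
    have h6 : m' • R.pt (b' + -b) = m' • R.o := by rw [h4, hm'.o]
    exact smul_left_cancel _ h6
  have h6 : b' + -b = 0 := R.pt_eq_o.mp h5
  have hbb : b = b' := by
    have := add_neg_eq_zero.mp h6
    exact this.symm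
  subst hbb
  exact ⟨rfl, mul_right_cancel h3, rfl⟩

end Sw

/-! ### The calculus around an involution `s` -/

/-- An involution interchanging `∞` and `0`. -/
structure Inv (s : G) : Prop extends R.Sw s where
  sq : s * s = 1

section Inv

variable {R}
variable {s : G} (hs : R.Inv s)

include hs

theorem Inv.inv_eq : s⁻¹ = s := inv_eq_of_mul_eq_one_left hs.sq

theorem Inv.sw : R.Sw s := hs.toSw

/-- The coordinate form of `s` is an involution on nonzero elements. -/
theorem Inv.ap_ap {x : A} (hx : x ≠ 0) : R.ap s (R.ap s x) = x := by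
  have := hs.sw.ap_inv hx
  rwa [hs.inv_eq] at this

theorem Inv.ne_zero {x : A} (hx : x ≠ 0) : R.ap s x ≠ 0 := hs.sw.ne_zero hx

theorem Inv.pt {x : A} (hx : x ≠ 0) : s • R.pt x = R.pt (R.ap s x) := hs.sw.pt hx

theorem Inv.ap_inj {x y : A} (hx : x ≠ 0) (hy : y ≠ 0) (h : R.ap s x = R.ap s y) : x = y :=
  hs.sw.ap_inj hx hy h

theorem Inv.conj_mem {g : G} (hg : g ∈ R.H) : s * g * s ∈ R.H :=
  ⟨by
    show (s * g * s) • R.inf = R.inf
    rw [mul_smul, mul_smul, hs.inf, hg.2, hs.o], by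
    show (s * g * s) • R.o = R.o
    rw [mul_smul, mul_smul, hs.o, hg.1, hs.inf]⟩

/-- `s` intertwines the action of `g` and its `s`-conjugate. -/
theorem Inv.ap_conj {g : G} (hg : g ∈ R.H) {x : A} (hx : x ≠ 0) :
    R.ap s (R.ap g x) = R.ap (s * g * s) (R.ap s x) := by
  have h1 : R.pt (R.ap s (R.ap g x)) = s • g • R.pt x := by
    rw [H_pt hg, hs.pt (H_ne_zero hg hx)]
  have h2 : R.pt (R.ap (s * g * s) (R.ap s x)) = s • g • R.pt x := by
    rw [← H_pt (hs.conj_mem hg), ← hs.pt hx, mul_smul, mul_smul, ← mul_smul s s, hs.sq, one_smul]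
  exact R.pt_inj (h1.trans h2.symm)

/-- The group `s τ(A) s`. -/
def bB (s : G) (R : RootData G Ω A) (u : A) : G := s * R.τ u * s

omit hs in
theorem bB_def (u : A) : bB s R u = s * R.τ u * s := rfl

theorem bB_add (u v : A) : bB s R (u + v) = bB s R u * bB s R v := by
  have h : s * R.τ u * s * (s * R.τ v * s) = s * R.τ u * (s * s) * R.τ v * s := by group
  rw [bB_def, bB_def, bB_def, h, hs.sq, R.τ_add]
  group

theorem bB_neg (u : A) : bB s R (-u) = (bB s R u)⁻¹ := by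
  rw [bB_def, bB_def, R.τ_neg]
  have h : (s * R.τ u * s)⁻¹ = s⁻¹ * (R.τ u)⁻¹ * s⁻¹ := by group
  rw [h, hs.inv_eq]

theorem bB_sub (u v : A) : bB s R (u - v) = bB s R u * (bB s R v)⁻¹ := by
  rw [sub_eq_add_neg, bB_add hs, bB_neg hs]

theorem bB_o (u : A) : bB s R u • R.o = R.o := by
  rw [bB_def, mul_smul, mul_smul, hs.o, R.τ_inf, hs.inf]

theorem bB_inf {u : A} (hu : u ≠ 0) : bB s R u • R.inf = R.pt (R.ap s u) := by
  rw [bB_def, mul_smul, mul_smul, hs.inf, R.τ_o, hs.pt hu]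

/-- The map `κ`. -/
noncomputable def kap (s : G) (R : RootData G Ω A) (x : A) : A := R.ap s (- R.ap s x)

omit hs in
theorem kap_def (x : A) : kap s R x = R.ap s (- R.ap s x) := rfl

theorem kap_ne_zero {x : A} (hx : x ≠ 0) : kap s R x ≠ 0 :=
  hs.ne_zero (neg_ne_zero.mpr (hs.ne_zero hx))

theorem kap_kap {x : A} (hx : x ≠ 0) : kap s R (kap s R x) = x := by
  have h1 : - R.ap s x ≠ 0 := neg_ne_zero.mpr (hs.ne_zero hx)
  rw [kap_def, kap_def, hs.ap_ap h1, neg_neg, hs.ap_ap hx]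

theorem kap_ap {u : A} (hu : u ≠ 0) : kap s R (R.ap s u) = R.ap s (-u) := by
  rw [kap_def, hs.ap_ap hu]

/-- The element of `s τ(A) s` taking `∞` to `x`. -/
noncomputable def br (s : G) (R : RootData G Ω A) (x : A) : G := bB s R (R.ap s x)

omit hs in
theorem br_def (x : A) : br s R x = bB s R (R.ap s x) := rfl

theorem br_o (x : A) : br s R x • R.o = R.o := bB_o hs _

theorem br_inf {x : A} (hx : x ≠ 0) : br s R x • R.inf = R.pt x := by
  rw [br_def, bB_inf hs (hs.ne_zero hx), hs.ap_ap hx]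

theorem br_inv {x : A} (hx : x ≠ 0) : (br s R x)⁻¹ = br s R (kap s R x) := by
  have h1 : R.ap s (kap s R x) = - R.ap s x := by
    rw [kap_def, hs.ap_ap (neg_ne_zero.mpr (hs.ne_zero hx))]
  rw [br_def, br_def, h1, bB_neg hs]

theorem br_kap_inf {x : A} (hx : x ≠ 0) : br s R x • R.pt (kap s R x) = R.inf := by
  have h := br_inf hs (kap_ne_zero hs hx)
  rw [← br_inv hs hx, inv_smul_eq_iff] at h
  exact h.symm

/-- The element `μ`. -/
noncomputable def mu (s : G) (R : RootData G Ω A) (x : A) : G :=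
  R.τ (-x) * br s R x * R.τ (kap s R x)

omit hs in
theorem mu_def (x : A) : mu s R x = R.τ (-x) * br s R x * R.τ (kap s R x) := rfl

theorem mu_sw {x : A} (hx : x ≠ 0) : R.Sw (mu s R x) := by
  refine ⟨?_, ?_⟩
  · rw [mu_def, mul_smul, R.τ_inf, mul_smul, br_inf hs hx, R.τ_pt, neg_add_cancel]
    rfl
  · rw [mu_def, mul_smul, R.τ_o, mul_smul, br_kap_inf hs hx, R.τ_inf]

omit hs in
/-- The Bruhat decomposition of `br`. -/
theorem br_eq (x : A) : br s R x = R.τ x * mu s R x * R.τ (- kap s R x) := by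
  rw [mu_def, R.τ_neg, R.τ_neg]
  group

/-- The Bruhat decomposition of `s τ s`. -/
theorem bB_eq {u : A} (hu : u ≠ 0) :
    bB s R u = R.τ (R.ap s u) * mu s R (R.ap s u) * R.τ (- R.ap s (-u)) := by
  have h := br_eq (s := s) (R := R) (R.ap s u)
  rw [kap_ap hs hu] at h
  rwa [br_def, hs.ap_ap hu] at h

theorem mu_mem {x : A} (hx : x ≠ 0) : mu s R x * s ∈ R.H :=
  (mu_sw hs hx).mul_mem hs.sw

theorem mu_kap {x : A} (hx : x ≠ 0) : mu s R (kap s R x) = (mu s R x)⁻¹ := by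
  rw [mu_def, mu_def, kap_kap hs hx, ← br_inv hs hx, R.τ_neg, R.τ_neg]
  group

/-- `mu x` sends `-κ x` to `-x`. -/
theorem mu_smul_neg_kap {x : A} (hx : x ≠ 0) : mu s R x • R.pt (- kap s R x) = R.pt (-x) := by
  rw [mu_def, mul_smul, R.τ_pt, add_neg_cancel, mul_smul, show R.pt 0 = R.o from rfl, br_o hs,
    R.τ_o]

theorem mu_ap_neg_kap {x : A} (hx : x ≠ 0) : R.ap (mu s R x) (- kap s R x) = -x := by
  have h := mu_smul_neg_kap hs hx
  rw [(mu_sw hs hx).pt (neg_ne_zero.mpr (kap_ne_zero hs hx))] at h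
  exact R.pt_inj h

/-- `H` acts on the elements `br`. -/
theorem conj_bB {g : G} (hg : g ∈ R.H) (u : A) :
    g * bB s R u * g⁻¹ = bB s R (R.ap (s * g * s) u) := by
  have hg' := hs.conj_mem hg
  rw [bB_def, bB_def, ← H_conj hg']
  have h1 : (s * g * s)⁻¹ = s⁻¹ * g⁻¹ * s⁻¹ := by group
  rw [h1, hs.inv_eq]
  have h2 : s * (s * g * s * R.τ u * (s * g⁻¹ * s)) * s
      = (s * s) * g * s * R.τ u * s * g⁻¹ * (s * s) := by group
  rw [h2, hs.sq]
  group

theorem conj_br {g : G} (hg : g ∈ R.H) {x : A} (hx : x ≠ 0) :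
    g * br s R x * g⁻¹ = br s R (R.ap g x) := by
  rw [br_def, br_def, conj_bB hs hg, hs.ap_conj hg hx]

theorem kap_H {g : G} (hg : g ∈ R.H) {x : A} (hx : x ≠ 0) :
    kap s R (R.ap g x) = R.ap g (kap s R x) := by
  have hg' := hs.conj_mem hg
  have h1 : s * (s * g * s) * s = g := by
    have : s * (s * g * s) * s = (s * s) * g * (s * s) := by group
    rw [this, hs.sq]
    group
  have hne : R.ap s x ≠ 0 := hs.ne_zero hx
  rw [kap_def, kap_def, hs.ap_conj hg hx, ← H_neg hg', hs.ap_conj hg' (neg_ne_zero.mpr hne), h1]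

theorem mu_conj {g : G} (hg : g ∈ R.H) {x : A} (hx : x ≠ 0) :
    g * mu s R x * g⁻¹ = mu s R (R.ap g x) := by
  rw [mu_def, mu_def, ← conj_br hs hg hx, kap_H hs hg hx, ← H_neg hg, ← H_conj hg, ← H_conj hg]
  group

/-- Conjugating `τ z` by an element of `s H` gives an element of `s τ s`. -/
theorem conj_tau {m : G} (hm : m * s ∈ R.H) (hmsw : R.Sw m) {z : A} (hz : z ≠ 0) :
    m * R.τ z * m⁻¹ = br s R (R.ap m z) := by
  set h := m * s with hh
  have hm' : m = h * s := by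
    rw [hh, mul_assoc, hs.sq, mul_one]
  have h1 : m * R.τ z * m⁻¹ = h * bB s R z * h⁻¹ := by
    rw [hm', bB_def]
    have : (h * s)⁻¹ = s⁻¹ * h⁻¹ := by group
    rw [this, hs.inv_eq]
    group
  rw [h1, conj_bB hs hm, br_def]
  congr 1
  rw [hm', hs.sw.H_ap hm, hs.ap_conj hm (hs.ne_zero hz), hs.ap_ap hz]

/-! ### Special elements and the fibre lemma -/

/-- `s` is special when `κ = -1` on non-zero elements. -/
def Special (s : G) (R : RootData G Ω A) : Prop := ∀ x : A, x ≠ 0 → kap s R x = -x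

end Inv

section Special

variable {R}
variable {s : G}

/-- In the special case `s` commutes with `-1`. -/
theorem ap_neg {hs : R.Inv s} (hsp : Special s R) {x : A} (hx : x ≠ 0) : R.ap s (-x) = - R.ap s x := by
  have h := hsp (R.ap s x) (hs.ne_zero hx)
  rwa [kap_ap hs hx] at h

/-- **The fibre lemma.** -/
theorem mu_fiber (hs : R.Inv s) (hsp : Special s R) {x y : A} (hx : x ≠ 0) (hy : y ≠ 0)
    (hxy : mu s R x = mu s R y) : y = x ∨ y = -x := by
  by_cases heq : y = x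
  · exact Or.inl heq
  refine Or.inr ?_
  set m := mu s R x with hm
  have hmsw : R.Sw m := mu_sw hs hx
  have hmm : m * s ∈ R.H := mu_mem hs hx
  have hbx : br s R x = R.τ x * m * R.τ x := by
    have := br_eq (s := s) (R := R) x
    rwa [hsp x hx, neg_neg] at this
  have hby : br s R y = R.τ y * m * R.τ y := by
    have := br_eq (s := s) (R := R) y
    rwa [hsp y hy, neg_neg, ← hxy] at this
  have hz : x - y ≠ 0 := sub_ne_zero.mpr (Ne.symm heq)
  set p := R.ap m (x - y) with hp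
  have hp0 : p ≠ 0 := hmsw.ne_zero hz
  have hconj : m * R.τ (x - y) * m⁻¹ = br s R p := conj_tau hs hmm hmsw hz
  -- the element `f`
  set w := R.ap s x - R.ap s y with hw
  have hw0 : w ≠ 0 := by
    intro h
    apply heq
    exact (hs.ap_inj hx hy (sub_eq_zero.mp h)).symm
  have hf1 : bB s R w = br s R x * (br s R y)⁻¹ := by
    rw [hw, bB_sub hs, br_def, br_def]
  have hf2 : bB s R w = R.τ x * br s R p * R.τ (-y) := by
    rw [hf1, hbx, hby, ← hconj, R.τ_sub, R.τ_neg]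
    group
  have h1 : bB s R w • R.inf = R.pt (x + p) := by
    rw [hf2, mul_smul, R.τ_inf, mul_smul, br_inf hs hp0, R.τ_pt]
  have h2 : (bB s R w)⁻¹ • R.inf = R.pt (y + -p) := by
    rw [hf2]
    have : (R.τ x * br s R p * R.τ (-y))⁻¹ = R.τ y * (br s R p)⁻¹ * (R.τ x)⁻¹ := by
      rw [R.τ_neg]
      group
    rw [this, mul_smul, inv_smul_eq_iff.mpr (R.τ_inf x).symm, mul_smul, br_inv hs hp0,
      br_inf hs (kap_ne_zero hs hp0), R.τ_pt, hsp p hp0]
  rw [bB_inf hs hw0] at h1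
  rw [← bB_neg hs, bB_inf hs (neg_ne_zero.mpr hw0)] at h2
  have h3 := R.pt_inj h1
  have h4 := R.pt_inj h2
  rw [ap_neg (hs := hs) hsp hw0, h3] at h4
  have h5 : y + -p + (x + p) = 0 := by
    rw [← h4]
    exact neg_add_cancel _
  have h6 : y + x = 0 := by
    have : y + -p + (x + p) = y + x := by abel
    rwa [this] at h5
  exact eq_neg_of_add_eq_zero_left h6

/-- In the special case `mu x` sends `x` to `-x`. -/
theorem mu_smul_self (hs : R.Inv s) (hsp : Special s R) {x : A} (hx : x ≠ 0) :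
    R.ap (mu s R x) x = -x := by
  have h := mu_ap_neg_kap hs hx
  rwa [hsp x hx, neg_neg] at h

end Special

end RootData

end Cfsg.Agent.Lib.Zass.Root
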