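import Cfsg.Agent.Lib.Zass.Root
import Cfsg.Agent.Lib.Zass.FieldOf
import Cfsg.Agent.Lib.Zass.PGLRec
import Cfsg.Agent.Lib.Small.PSL2Act

/-!
# Coordinates: from root data to the projective line

If the involution `s` is special and inverts a large subgroup `N` of the two-point stabiliser,
`A` is the additive group of a field `K` on which `N` acts by multiplications, and `s` acts
as `x ↦ -1/x`.
-/

set_option autoImplicit false
set_option linter.unusedSectionVars false
set_option linter.unusedVariables false
set_option linter.style.haveILetI false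

namespace Cfsg.Agent.Lib.Zass.RootCoord

open MulAction OnePoint
open Cfsg.Agent.Lib.Zass.Root Cfsg.Agent.Lib.Zass.Root.RootData

universe u v w

variable {G : Type u} {Ω : Type v} {A : Type w} [Group G] [MulAction G Ω] [AddCommGroup A]

section

variable {R : RootData G Ω A} {s : G}

/-- If `s` sends `e` to `-e` then `s τ_e s = τ_{-e} s τ_{-e}`. -/
theorem bB_self (hs : R.Inv s) (hsp : Special s R) {e : A} (he : e ≠ 0) (hse : R.ap s e = -e) :
    bB s R e = R.τ (-e) * s * R.τ (-e) := by
  have he' : -e ≠ 0 := neg_ne_zero.mpr he
  have hs1 : R.ap s (-e) = e := by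
    rw [ap_neg (hs := hs) hsp he, hse, neg_neg]
  have h1 := bB_eq hs he
  rw [hse, hs1] at h1
  have hmu : mu s R (-e) = s := by
    have hmem := mu_mem hs he'
    have h2 : R.ap (mu s R (-e) * s) e = e := by
      have h3 := hs.sw.H_ap hmem (x := -e)
      have h4 : mu s R (-e) * s * s = mu s R (-e) := by
        rw [mul_assoc, hs.sq, mul_one]
      rw [h4, hs1, mu_smul_self hs hsp he', neg_neg] at h3
      exact h3.symm
    have h5 := H_fix hmem he h2
    have h6 : mu s R (-e) = s⁻¹ := eq_inv_of_mul_eq_one_left h5
    rw [h6, hs.inv_eq]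
  rw [hmu] at h1
  exact h1

/-- The functional equation `s(e + s v) = -e + s(v - e)`. -/
theorem ap_self_add (hs : R.Inv s) (hsp : Special s R) {e : A} (he : e ≠ 0) (hse : R.ap s e = -e)
    {v : A} (hv : v ≠ 0) (hve : v ≠ e) :
    R.ap s (e + R.ap s v) = -e + R.ap s (v - e) := by
  have hs1 : R.ap s (-e) = e := by
    rw [ap_neg (hs := hs) hsp he, hse, neg_neg]
  have hne : e + R.ap s v ≠ 0 := by
    intro h
    apply hve
    have h2 : R.ap s v = -e := eq_neg_of_add_eq_zero_right h
    rw [← hs.ap_ap hv, h2, hs1]
  have hne2 : v - e ≠ 0 := sub_ne_zero.mpr hve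
  have h1 : bB s R e • R.pt v = R.pt (R.ap s (e + R.ap s v)) := by
    rw [bB_def, mul_smul, mul_smul, hs.pt hv, R.τ_pt, hs.pt hne]
  have h2 : (R.τ (-e) * s * R.τ (-e)) • R.pt v = R.pt (-e + R.ap s (v - e)) := by
    rw [mul_smul, mul_smul, R.τ_pt, show -e + v = v - e by abel, hs.pt hne2, R.τ_pt]
  rw [bB_self hs hsp he hse, h2] at h1
  exact (R.pt_inj h1).symm

end

/-- The main coordinate theorem. -/
theorem coords (R : RootData G Ω A) [Finite A] {s : G} (hs : R.Inv s) (hsp : Special s R)
    (N : Subgroup G) (hN : N ≤ R.H) (hinv : ∀ g ∈ N, s * g * s = g⁻¹)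
    {e : A} (he : e ≠ 0) (hse : R.ap s e = -e)
    (hcard : Nat.card N * 2 + 1 = Nat.card A ∨ Nat.card N + 1 = Nat.card A) :
    ∃ (K : Type) (_ : Field K) (_ : Fintype K) (ε : K ≃+ A) (χ : N →* Kˣ),
      ε 1 = e ∧ (∀ (g : N) k, R.ap (g : G) (ε k) = ε ((χ g : K) * k)) ∧
      Subring.closure (Set.range fun g => ((χ g : Kˣ) : K)) = ⊤ ∧
      Function.Injective χ ∧ (∀ x : K, x ≠ 0 → R.ap s (ε x) = ε (-1 / x)) := by
  classical
  -- `N` is abelian
  have hcomm : ∀ a b : N, a * b = b * a := by
    intro a b
    apply Subtype.ext
    have h1 := hinv _ (N.mul_mem a.2 b.2)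
    have h2 : s * ((a : G) * (b : G)) * s = (s * a * s) * (s * b * s) := by
      have : (s * a * s) * (s * b * s) = s * a * (s * s) * b * s := by group
      rw [this, hs.sq]
      group
    rw [h2, hinv _ a.2, hinv _ b.2] at h1
    have h3 : ((a : G) * b)⁻¹ = ((b : G) * a)⁻¹ := by
      rw [← h1, mul_inv_rev]
    exact inv_injective h3
  letI : CommGroup N := { (inferInstance : Group N) with mul_comm := hcomm }
  let φ : N →* AddMonoid.End A := R.hom.comp (Subgroup.inclusion hN)
  have hφ : ∀ (g : N) x, φ g x = R.ap (g : G) x := fun _ _ => rfl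
  -- finiteness
  have hfinN : Finite N := by
    apply Finite.of_injective (fun g : N => R.ap (g : G) e)
    intro g g' h
    apply Subtype.ext
    exact H_eq (hN g.2) (hN g'.2) he h
  have hAcard : 0 < Nat.card A := Nat.card_pos
  -- irreducibility
  have hirr : ∀ B : AddSubgroup A, B ≠ ⊥ → (∀ γ, ∀ x ∈ B, φ γ x ∈ B) → B = ⊤ := by
    intro B hB hinvB
    obtain ⟨⟨x, hxB⟩, hx⟩ := AddSubgroup.ne_bot_iff_exists_ne_zero.mp hB
    have hx0 : x ≠ 0 := fun h => hx (Subtype.ext h)
    have hcardB : Nat.card N + 1 ≤ Nat.card B := by
      rw [← Finite.card_option]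
      apply Nat.card_le_card_of_injective
        (fun o : Option N => match o with
          | Option.none => (0 : B)
          | Option.some g => ⟨φ g x, hinvB g x hxB⟩)
      rintro (_ | g) (_ | g') h
      · rfl
      · exfalso
        have h' : (0 : A) = R.ap (g' : G) x := congrArg Subtype.val h
        exact H_ne_zero (hN g'.2) hx0 h'.symm
      · exfalso
        have h' : R.ap (g : G) x = 0 := congrArg Subtype.val h
        exact H_ne_zero (hN g.2) hx0 h'
      · congr 1
        apply Subtype.ext
        have h' : R.ap (g : G) x = R.ap (g' : G) x := congrArg Subtype.val h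
        exact H_eq (hN g.2) (hN g'.2) hx0 h'
    by_contra hne
    have hidx : B.index ≠ 1 := fun h => hne (AddSubgroup.index_eq_one.mp h)
    have hmul := AddSubgroup.card_mul_index B
    have hidx0 : B.index ≠ 0 := by
      intro h
      rw [h, mul_zero] at hmul
      omega
    have h2 : 2 ≤ B.index := by omega
    have h3 : 2 * Nat.card B ≤ Nat.card A := by
      rw [← hmul, mul_comm]
      exact Nat.mul_le_mul_left _ h2
    rcases hcard with hc | hc <;> omega
  obtain ⟨K, instF, instFt, ε, χ, h1, hmul, hgen⟩ :=
    Cfsg.Agent.Lib.Zass.FieldOf.exists_field φ hirr e he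
  have hmul' : ∀ (g : N) k, R.ap (g : G) (ε k) = ε ((χ g : K) * k) := hmul
  have hinj : Function.Injective χ := by
    intro g g' h
    apply Subtype.ext
    apply H_ext (hN g.2) (hN g'.2)
    intro x
    obtain ⟨k, rfl⟩ := ε.surjective x
    rw [hmul', hmul', h]
  refine ⟨K, instF, instFt, ε, χ, h1, hmul', hgen, hinj, ?_⟩
  -- the involution in coordinates
  let S : K → K := fun x => ε.symm (R.ap s (ε x))
  have hS : ∀ x, R.ap s (ε x) = ε (S x) := fun x => by simp [S]
  have hεne : ∀ x : K, x ≠ 0 → ε x ≠ 0 := fun x hx => by
    simpa using hx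
  have hS1 : S 1 = -1 := by
    apply ε.injective
    rw [← hS, h1, hse, map_neg, h1]
  have hSscale : ∀ (g : N) (x : K), x ≠ 0 → S ((χ g : K) * x) = ((χ g : Kˣ)⁻¹ : Kˣ) * S x := by
    intro g x hx
    apply ε.injective
    rw [← hS, ← hmul', hs.ap_conj (hN g.2) (hεne x hx), hinv _ g.2, hS]
    have := hmul' g⁻¹ (S x)
    rw [Subgroup.coe_inv, map_inv] at this
    exact this
  have hSneg : ∀ x : K, x ≠ 0 → S (-x) = - S x := by
    intro x hx
    apply ε.injective
    rw [← hS, map_neg, ap_neg (hs := hs) hsp (hεne x hx), hS, map_neg]
  have hE1 : ∀ v : K, v ≠ 0 → v ≠ 1 → S (1 + S v) = -1 + S (v - 1) := by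
    intro v hv hv1
    apply ε.injective
    have hve : ε v ≠ e := by
      rw [← h1]
      intro h
      exact hv1 (ε.injective h)
    have := ap_self_add hs hsp he hse (hεne v hv) hve
    rw [← hS, map_add, h1, ← hS, this, map_add, map_neg, h1, ← hS, map_sub, h1]
  -- on the image of `χ`
  have hSχ : ∀ g : N, S (χ g : K) = -((χ g : K))⁻¹ := by
    intro g
    have h2 := hSscale g 1 one_ne_zero
    rw [mul_one, hS1, mul_neg, mul_one] at h2
    rw [h2]
    simp
  suffices hall : ∀ x : K, x ≠ 0 → S x = -1 / x by
    intro x hx
    rw [hS, hall x hx]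
  have hunits : Nat.card Kˣ + 1 = Nat.card A := by
    have h3 : Nat.card K = Nat.card A := Nat.card_congr ε.toEquiv
    rw [← h3, Nat.card_eq_fintype_card, Nat.card_eq_fintype_card, Fintype.card_units]
    have : 0 < Fintype.card K := Fintype.card_pos
    omega
  have hrange : Nat.card χ.range = Nat.card N := Nat.card_congr (MonoidHom.ofInjective hinj).toEquiv.symm
  rcases hcard with hc | hc
  · -- index two
    have hidx : χ.range.index = 2 := by
      have h3 := Subgroup.card_mul_index χ.range
      rw [hrange] at h3
      have h4 : Nat.card N ≠ 0 := Nat.card_pos.ne'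
      have h5 : Nat.card N * χ.range.index = Nat.card N * 2 := by
        rw [h3]
        omega
      exact Nat.eq_of_mul_eq_mul_left (Nat.pos_of_ne_zero h4) h5
    -- a suitable element outside the image
    have hmemχ : ∀ u : Kˣ, u ∈ χ.range → S (u : K) = -(u : K)⁻¹ := by
      rintro _ ⟨g, rfl⟩
      exact hSχ g
    have hscale : ∀ u : Kˣ, u ∈ χ.range → ∀ x : K, x ≠ 0 → S ((u : K) * x) = (u : K)⁻¹ * S x := by
      rintro _ ⟨g, rfl⟩ x hx
      rw [hSscale g x hx]
      simp
    obtain ⟨r, hr, hSr⟩ : ∃ r : Kˣ, r ∉ χ.range ∧ S (r : K) = -1 / (r : K) := by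
      by_cases hm1 : (-1 : Kˣ) ∈ χ.range
      · -- find `z` in the image with `z - 1` outside
        have : ∃ z : Kˣ, z ∈ χ.range ∧ (z : K) ≠ 1 ∧ ∀ w : Kˣ, (w : K) = (z : K) - 1 → w ∉ χ.range := by
          by_contra hcon
          push Not at hcon
          -- the image together with `0` is an additive subgroup
          let T : AddSubgroup K :=
            { carrier := {x | x = 0 ∨ ∃ u : Kˣ, u ∈ χ.range ∧ (u : K) = x}
              zero_mem' := Or.inl rfl
              neg_mem' := by
                rintro x (rfl | ⟨u, hu, rfl⟩)
                · exact Or.inl neg_zero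
                · refine Or.inr ⟨-1 * u, χ.range.mul_mem hm1 hu, ?_⟩
                  simp
              add_mem' := by
                rintro x y (rfl | ⟨u, hu, rfl⟩) (rfl | ⟨v, hv, rfl⟩)
                · left; simp
                · right; exact ⟨v, hv, by simp⟩
                · right; exact ⟨u, hu, by simp⟩
                · -- `u + v = (-v) (u / (-v) - 1)`
                  set c : Kˣ := -1 * v with hc'
                  have hcm : c ∈ χ.range := χ.range.mul_mem hm1 hv
                  set q : Kˣ := u * c⁻¹ with hq
                  have hqm : q ∈ χ.range := χ.range.mul_mem hu (χ.range.inv_mem hcm)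
                  by_cases hq1 : (q : K) = 1
                  · left
                    have h6 : (u : K) = (c : K) := by
                      have h7 : (q : K) * (c : K) = (u : K) := by
                        rw [hq]; simp
                      rw [← h7, hq1, one_mul]
                    rw [h6, hc']
                    simp
                  · right
                    have h6 : (q : K) - 1 ≠ 0 := sub_ne_zero.mpr hq1
                    obtain ⟨w, hw, hw2⟩ := hcon q hqm hq1
                    refine ⟨w * c, χ.range.mul_mem hw2 hcm, ?_⟩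
                    rw [Units.val_mul, hw]
                    have h7 : (q : K) * (c : K) = (u : K) := by
                      rw [hq]; simp
                    have h8 : (c : K) = -(v : K) := by
                      rw [hc']; simp
                    rw [sub_mul, h7, one_mul, h8]
                    ring }
          have hTtop : T = ⊤ := by
            have hB := hirr (T.map ε.toAddMonoidHom) (by
              intro hbot
              apply he
              have h6 : ε 1 ∈ T.map ε.toAddMonoidHom :=
                ⟨1, Or.inr ⟨1, χ.range.one_mem, rfl⟩, rfl⟩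
              rw [hbot, AddSubgroup.mem_bot, h1] at h6
              exact h6) (by
              rintro γ _ ⟨x, hx, rfl⟩
              refine ⟨(χ γ : K) * x, ?_, ?_⟩
              · rcases hx with rfl | ⟨u, hu, rfl⟩
                · left; simp
                · right
                  exact ⟨χ γ * u, χ.range.mul_mem ⟨γ, rfl⟩ hu, rfl⟩
              · exact (hmul γ x).symm)
            rw [eq_top_iff]
            intro x _
            have h6 : ε x ∈ T.map ε.toAddMonoidHom := by rw [hB]; trivial
            obtain ⟨y, hy, hy2⟩ := h6
            have : y = x := ε.injective hy2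
            rwa [← this]
          -- contradiction with index two
          apply (by omega : χ.range.index ≠ 1)
          rw [Subgroup.index_eq_one, eq_top_iff]
          intro u _
          have h6 : (u : K) ∈ T := by rw [hTtop]; trivial
          rcases h6 with h7 | ⟨v, hv, h7⟩
          · exact absurd h7 u.ne_zero
          · have : v = u := Units.ext h7
            rwa [← this]
        obtain ⟨z, hz, hz1, hzw⟩ := this
        have hr0 : (z : K) - 1 ≠ 0 := sub_ne_zero.mpr hz1
        refine ⟨Units.mk0 ((z : K) - 1) hr0, hzw _ rfl, ?_⟩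
        rw [Units.val_mk0]
        have hE := hE1 (z : K) z.ne_zero hz1
        rw [hmemχ z hz] at hE
        have h2 : 1 + -((z : K))⁻¹ = ((z⁻¹ : Kˣ) : K) * ((z : K) - 1) := by
          have := z.ne_zero
          simp only [Units.val_inv_eq_inv_val]
          field_simp
          ring
        rw [h2, hscale _ (χ.range.inv_mem hz) _ hr0] at hE
        simp only [Units.val_inv_eq_inv_val, inv_inv] at hE
        have h3 : ((z : K) - 1) * S ((z : K) - 1) = -1 := by
          linear_combination hE
        field_simp
        linear_combination h3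
      · refine ⟨-1, hm1, ?_⟩
        have h2 := hSneg 1 one_ne_zero
        rw [hS1] at h2
        simp only [Units.val_neg, Units.val_one]
        rw [h2]
        simp
    intro x hx
    set u : Kˣ := Units.mk0 x hx with hu
    by_cases hum : u ∈ χ.range
    · have := hmemχ u hum
      rw [hu, Units.val_mk0] at this
      rw [this]
      field_simp
    · have hq : u * r⁻¹ ∈ χ.range := by
        rw [Subgroup.mul_mem_iff_of_index_two hidx]
        constructor
        · intro h
          exact absurd h hum
        · intro h
          exact absurd (by simpa using h) hr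
      have h2 := hscale _ hq (r : K) r.ne_zero
      have h3 : ((u * r⁻¹ : Kˣ) : K) * (r : K) = x := by
        simp [hu]
      rw [h3, hSr] at h2
      rw [h2]
      have hr0 := r.ne_zero
      simp [hu]
      field_simp
  · -- surjective
    have hsurj : Function.Surjective χ := by
      have hbij : Nat.card N = Nat.card Kˣ := by omega
      exact ((Nat.bijective_iff_injective_and_card χ).mpr ⟨hinj, hbij⟩).2
    intro x hx
    obtain ⟨g, hg⟩ := hsurj (Units.mk0 x hx)
    have := hSχ g
    rw [hg, Units.val_mk0] at this
    rw [this]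
    field_simp

end Cfsg.Agent.Lib.Zass.RootCoord
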