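import Cfsg.Agent.Lib.Zass.NormalSub
import Cfsg.Agent.Lib.FPF.Complement
import Cfsg.Agent.S0879
import Mathlib.GroupTheory.SpecificGroups.ZGroup
import Mathlib.GroupTheory.Transfer

/-!
# Two-point stabilisers of Zassenhaus groups and their normalisers
-/

set_option autoImplicit false
set_option linter.unusedSectionVars false
set_option linter.style.haveILetI false

namespace Cfsg.Agent.Lib.Zass.Stab

open Cfsg MulAction
open Cfsg.Agent.Lib.Zass.Basic
open scoped Pointwise

variable {G Ω : Type*} [Group G] [MulAction G Ω]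

/-- The two-point stabiliser. -/
abbrev E (a b : Ω) : Subgroup G := stabilizer G a ⊓ stabilizer G b

theorem mem_E {a b : Ω} {g : G} : g ∈ E a b ↔ g • a = a ∧ g • b = b := Iff.rfl

/-- The normaliser of the two-point stabiliser. -/
abbrev B (a b : Ω) : Subgroup G := Subgroup.normalizer ((E a b : Subgroup G) : Set G)

theorem fix_eq (hZ : IsZassenhausGroup G Ω) {a b : Ω} (hab : a ≠ b) {h : G} (hh : h ∈ E a b)
    (h1 : h ≠ 1) {c : Ω} (hc : h • c = c) : c = a ∨ c = b := by
  by_contra hcon
  push Not at hcon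
  exact h1 (fix3 hZ hab (Ne.symm hcon.2) (Ne.symm hcon.1) hh.1 hh.2 hc)

theorem conj_E (hZ : IsZassenhausGroup G Ω) {a b : Ω} (hab : a ≠ b) {g x : G} (hx : x ∈ E a b)
    (hx1 : x ≠ 1) (hgx : g * x * g⁻¹ ∈ E a b) :
    (g • a = a ∧ g • b = b) ∨ (g • a = b ∧ g • b = a) := by
  have hne : g * x * g⁻¹ ≠ 1 := by
    intro h
    apply hx1
    have := congrArg (fun y => g⁻¹ * y * g) h
    simpa [mul_assoc] using this
  have hfa : (g * x * g⁻¹) • (g • a) = g • a := by
    rw [mul_smul, mul_smul, inv_smul_smul, hx.1]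
  have hfb : (g * x * g⁻¹) • (g • b) = g • b := by
    rw [mul_smul, mul_smul, inv_smul_smul, hx.2]
  have hgab : g • a ≠ g • b := fun h => hab (smul_left_cancel _ h)
  rcases fix_eq hZ hab hgx hne hfa with h1 | h1 <;> rcases fix_eq hZ hab hgx hne hfb with h2 | h2
  · exact absurd (h1.trans h2.symm) hgab
  · exact Or.inl ⟨h1, h2⟩
  · exact Or.inr ⟨h1, h2⟩
  · exact absurd (h1.trans h2.symm) hgab

theorem conj_mem_E_of_fix_or_swap {a b : Ω} {g : G}
    (hg : (g • a = a ∧ g • b = b) ∨ (g • a = b ∧ g • b = a)) {h : G} (hh : h ∈ E a b) :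
    g * h * g⁻¹ ∈ E a b := by
  have hha : h • a = a := hh.1
  have hhb : h • b = b := hh.2
  rcases hg with ⟨h1, h2⟩ | ⟨h1, h2⟩
  · have i1 : g⁻¹ • a = a := by rw [inv_smul_eq_iff, h1]
    have i2 : g⁻¹ • b = b := by rw [inv_smul_eq_iff, h2]
    constructor
    · show (g * h * g⁻¹) • a = a
      rw [mul_smul, mul_smul, i1, hha, h1]
    · show (g * h * g⁻¹) • b = b
      rw [mul_smul, mul_smul, i2, hhb, h2]
  · have i1 : g⁻¹ • a = b := by rw [inv_smul_eq_iff, h2]
    have i2 : g⁻¹ • b = a := by rw [inv_smul_eq_iff, h1]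
    constructor
    · show (g * h * g⁻¹) • a = a
      rw [mul_smul, mul_smul, i1, hhb, h2]
    · show (g * h * g⁻¹) • b = b
      rw [mul_smul, mul_smul, i2, hha, h1]

theorem mem_B_iff (hZ : IsZassenhausGroup G Ω) {a b : Ω} (hab : a ≠ b) {g : G} :
    g ∈ B (G := G) a b ↔ (g • a = a ∧ g • b = b) ∨ (g • a = b ∧ g • b = a) := by
  constructor
  · intro hg
    obtain ⟨x, hx1, hxa, hxb⟩ := exists_ne_fix2 hZ hab
    have hx : x ∈ E a b := ⟨hxa, hxb⟩
    exact conj_E hZ hab hx hx1 ((Subgroup.mem_normalizer_iff.1 hg x).1 hx)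
  · intro hg
    rw [Subgroup.mem_normalizer_iff]
    intro h
    constructor
    · exact fun hh => conj_mem_E_of_fix_or_swap hg hh
    · intro hh
      have hg' : (g⁻¹ • a = a ∧ g⁻¹ • b = b) ∨ (g⁻¹ • a = b ∧ g⁻¹ • b = a) := by
        rcases hg with ⟨h1, h2⟩ | ⟨h1, h2⟩
        · left
          exact ⟨by rw [inv_smul_eq_iff, h1], by rw [inv_smul_eq_iff, h2]⟩
        · right
          exact ⟨by rw [inv_smul_eq_iff, h2], by rw [inv_smul_eq_iff, h1]⟩
      have := conj_mem_E_of_fix_or_swap hg' hh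
      simpa [mul_assoc] using this

theorem E_le_B (a b : Ω) : E (G := G) a b ≤ B a b := Subgroup.le_normalizer

theorem E_ne_bot (hZ : IsZassenhausGroup G Ω) {a b : Ω} (hab : a ≠ b) : E (G := G) a b ≠ ⊥ := by
  obtain ⟨x, hx1, hxa, hxb⟩ := exists_ne_fix2 hZ hab
  intro h
  have hx : x ∈ E (G := G) a b := ⟨hxa, hxb⟩
  rw [h, Subgroup.mem_bot] at hx
  exact hx1 hx

/-- An element whose square lies in a subgroup and whose order divides an odd number lies in it. -/
theorem mem_of_sq_mem {H : Subgroup G} {x : G} (hx : x * x ∈ H) {n : ℕ} (hn : Odd n) (hxn : x ^ n = 1) :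
    x ∈ H := by
  obtain ⟨m, rfl⟩ := hn
  have h1 : x = (x * x) ^ (m + 1) := by
    rw [← pow_two, ← pow_mul]
    have : 2 * (m + 1) = (2 * m + 1) + 1 := by ring
    rw [this, pow_succ, hxn, one_mul]
  rw [h1]
  exact H.pow_mem hx _

variable [Finite G] [Fintype Ω]

theorem card_B (hZ : IsZassenhausGroup G Ω) {a b : Ω} (hab : a ≠ b) :
    Nat.card (B (G := G) a b) = 2 * Nat.card (E (G := G) a b) := by
  have h1 := (Cfsg.Agent.S0879.result hZ hab).2
  have h2 := Subgroup.card_mul_index ((E (G := G) a b).subgroupOf (B a b))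
  rw [h1] at h2
  have h3 : Nat.card ((E (G := G) a b).subgroupOf (B a b)) = Nat.card (E (G := G) a b) :=
    Nat.card_congr (Subgroup.subgroupOfEquivOfLe (E_le_B a b)).toEquiv
  rw [h3] at h2
  omega

theorem trans_conj (hZ : IsZassenhausGroup G Ω) {a b : Ω} (hab : a ≠ b) {x : G} (hx : x ∈ E a b)
    (hx1 : x ≠ 1) {q : ℕ} [hq : Fact q.Prime] (hqx : orderOf x = q) :
    (Nat.card Ω) ≡ 2 [MOD q] := by
  classical
  have hX : IsPGroup q (Subgroup.zpowers x) := by
    rw [IsPGroup.iff_card, Nat.card_zpowers, hqx]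
    exact ⟨1, by simp⟩
  have h1 := hX.card_modEq_card_fixedPoints Ω
  have hgen : ∀ c : Ω, c ∈ fixedPoints (Subgroup.zpowers x) Ω ↔ c = a ∨ c = b := by
    intro c
    constructor
    · intro hc
      exact fix_eq hZ hab hx hx1 (hc ⟨x, Subgroup.mem_zpowers x⟩)
    · intro hc
      rintro ⟨y, k, rfl⟩
      have : x • c = c := by
        rcases hc with rfl | rfl
        · exact hx.1
        · exact hx.2
      have h2 : (x ^ k) • c = c := by
        rw [← mem_stabilizer_iff]
        exact Subgroup.zpow_mem _ this k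
      exact h2
  have h2 : fixedPoints (Subgroup.zpowers x) Ω = {a, b} := by
    ext c
    simp [hgen c]
  have h3 : Nat.card (fixedPoints (Subgroup.zpowers x) Ω) = 2 := by
    rw [h2, Nat.card_coe_set_eq, Set.ncard_pair hab]
  rwa [h3] at h1

/-- A Sylow subgroup for an odd prime dividing the order of the two-point stabiliser can be chosen
inside it. -/
theorem exists_sylow_le (hZ : IsZassenhausGroup G Ω) {a b : Ω} (hab : a ≠ b) {q : ℕ}
    [hq : Fact q.Prime] (hq2 : q ≠ 2) (hqd : q ∣ Nat.card (E (G := G) a b)) :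
    ∃ Q : Sylow q G, (Q : Subgroup G) ≤ E a b := by
  classical
  obtain ⟨x, hx⟩ := exists_prime_orderOf_dvd_card' q hqd
  have hxG : orderOf (x : G) = q := by rw [Subgroup.orderOf_coe, hx]
  have hx1 : (x : G) ≠ 1 := by
    intro h
    rw [h, orderOf_one] at hxG
    exact hq.out.one_lt.ne hxG
  have hmod := trans_conj hZ hab x.2 hx1 hxG
  obtain ⟨Q⟩ : Nonempty (Sylow q G) := inferInstance
  have h1 := (Q.isPGroup').card_modEq_card_fixedPoints Ω
  have h2 : Nat.card (fixedPoints (Q : Subgroup G) Ω) ≡ 2 [MOD q] := h1.symm.trans hmod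
  have hq3 : 2 < q := lt_of_le_of_ne hq.out.two_le (Ne.symm hq2)
  have h3 : 1 < Nat.card (fixedPoints (Q : Subgroup G) Ω) := by
    by_contra hcon
    push Not at hcon
    interval_cases hn : Nat.card (fixedPoints (Q : Subgroup G) Ω)
    · have h4 : 2 % q = 0 := by
        have := h2
        simp only [Nat.ModEq, Nat.zero_mod] at this
        exact this.symm
      rw [Nat.mod_eq_of_lt hq3] at h4
      omega
    · have h4 : 1 % q = 2 % q := h2
      rw [Nat.mod_eq_of_lt (by omega), Nat.mod_eq_of_lt hq3] at h4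
      omega
  rw [Finite.one_lt_card_iff_nontrivial] at h3
  obtain ⟨⟨c, hc⟩, ⟨d, hd⟩, hcd⟩ := exists_pair_ne (fixedPoints (Q : Subgroup G) Ω)
  have hcd' : c ≠ d := fun h => hcd (Subtype.ext h)
  obtain ⟨g, hgc, hgd⟩ := trans2 hZ hcd' hab
  refine ⟨g • Q, ?_⟩
  intro y hy
  rw [Sylow.smul_def, Sylow.pointwise_smul_def, Cfsg.Agent.Lib.Frobenius.Basic.mem_conj_iff] at hy
  have hyc := hc ⟨_, hy⟩
  have hyd := hd ⟨_, hy⟩
  change (g⁻¹ * y * g) • c = c at hyc
  change (g⁻¹ * y * g) • d = d at hyd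
  simp only [mul_smul] at hyc hyd
  rw [inv_smul_eq_iff] at hyc hyd
  exact ⟨by rw [← hgc]; exact hyc, by rw [← hgd]; exact hyd⟩

theorem normalizer_le_B (hZ : IsZassenhausGroup G Ω) {a b : Ω} (hab : a ≠ b) {Q : Subgroup G}
    (hQ : Q ≤ E a b) (hQ1 : Q ≠ ⊥) :
    Subgroup.normalizer (Q : Set G) ≤ B (G := G) a b := by
  intro g hg
  obtain ⟨x, hx, hx1⟩ := (Subgroup.bot_or_exists_ne_one Q).resolve_left hQ1
  rw [mem_B_iff hZ hab]
  exact conj_E hZ hab (hQ hx) hx1 (hQ ((Subgroup.mem_normalizer_iff.1 hg x).1 hx))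

/-- `p`-subgroups of the two-point stabiliser are cyclic for odd `p`. -/
theorem isCyclic_of_isPGroup_le (hZ : IsZassenhausGroup G Ω) {a b : Ω} (hab : a ≠ b)
    {P : Subgroup G} (hP : P ≤ E a b) {p : ℕ} [Fact p.Prime] (hp2 : p ≠ 2) (hPp : IsPGroup p P) :
    IsCyclic P := by
  classical
  have hH := isFrobeniusComplement_compl (G := G) hZ hab
  have hc := Cfsg.Agent.Lib.Frobenius.Theorem.kernel_isComplement' hH
  have hK := Cfsg.Agent.Lib.Frobenius.ClassSizes.kernel_ne_bot hH
  haveI := Cfsg.Agent.Lib.Frobenius.Theorem.kernel_normal (compl (G := G) a b)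
  have hfpf := (Cfsg.Agent.Lib.Frobenius.Basic.isFrobeniusComplement_iff_of_isComplement' _ hc hK
    hH.1).1 hH
  let P' : Subgroup (stabilizer G a) := P.subgroupOf (stabilizer G a)
  have hle : P ≤ stabilizer G a := hP.trans inf_le_left
  let e : P' ≃* P := Subgroup.subgroupOfEquivOfLe hle
  have hP'p : IsPGroup p P' := hPp.of_equiv e.symm
  have hP'le : P' ≤ compl (G := G) a b := fun x hx => (hP hx).2
  have hcyc := Cfsg.Agent.Lib.FPF.Complement.isCyclic_of_isPGroup hc hK hfpf P' hP'le hp2 hP'p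
  exact isCyclic_of_surjective e e.surjective

/-- For odd two-point stabiliser, the normaliser is a Z-group. -/
theorem isZGroup_B (hZ : IsZassenhausGroup G Ω) {a b : Ω} (hab : a ≠ b)
    (hodd : Odd (Nat.card (E (G := G) a b))) : IsZGroup (B (G := G) a b) := by
  refine ⟨fun p hp P => ?_⟩
  haveI := Fact.mk hp
  by_cases hp2 : p = 2
  · subst hp2
    have h1 : Nat.card P ∣ Nat.card (B (G := G) a b) := Subgroup.card_subgroup_dvd_card _
    rw [card_B hZ hab] at h1
    obtain ⟨k, hk⟩ := IsPGroup.iff_card.1 P.isPGroup'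
    have hcop : Nat.Coprime (Nat.card P) (Nat.card (E (G := G) a b)) := by
      rw [hk]
      exact Nat.Coprime.pow_left k (Nat.coprime_two_left.2 hodd)
    have h2 : Nat.card P ∣ 2 := hcop.dvd_of_dvd_mul_right h1
    rcases (Nat.dvd_prime Nat.prime_two).1 h2 with h | h
    · haveI : Subsingleton P := (Nat.card_eq_one_iff_unique.1 h).1
      infer_instance
    · exact isCyclic_of_prime_card h
  · let P₀ : Subgroup G := (P : Subgroup (B (G := G) a b)).map (B a b).subtype
    have hP₀ : IsPGroup p P₀ := P.isPGroup'.map _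
    have hle : P₀ ≤ E a b := by
      rintro _ ⟨x, hx, rfl⟩
      have hxB : (x : G) ∈ B (G := G) a b := x.2
      rw [mem_B_iff hZ hab] at hxB
      have hsq : (x : G) * x ∈ E (G := G) a b := by
        rcases hxB with ⟨h1, h2⟩ | ⟨h1, h2⟩
        · exact Subgroup.mul_mem _ ⟨h1, h2⟩ ⟨h1, h2⟩
        · constructor
          · show ((x : G) * x) • a = a
            rw [mul_smul, h1, h2]
          · show ((x : G) * x) • b = b
            rw [mul_smul, h2, h1]
      obtain ⟨k, hk⟩ := P.isPGroup' ⟨x, hx⟩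
      have hk' : (x : G) ^ p ^ k = 1 := by
        have := congrArg (fun y : P => ((y : B (G := G) a b) : G)) hk
        simpa using this
      refine mem_of_sq_mem hsq ?_ hk'
      exact Odd.pow (hp.odd_of_ne_two hp2)
    have hcyc := isCyclic_of_isPGroup_le hZ hab hle hp2 hP₀
    let e : P ≃* P₀ := (P : Subgroup (B (G := G) a b)).equivMapOfInjective _ (B (G := G) a b).subtype_injective
    exact isCyclic_of_surjective e.symm e.symm.surjective

/-- Burnside's transfer in the form used below. -/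
theorem exists_noncentral {q : ℕ} [Fact q.Prime] (Q : Sylow q G)
    (hnil : ¬ ∃ N : Subgroup G, N.Normal ∧ N.index = q ^ (Nat.card G).factorization q) :
    ∃ g ∈ Subgroup.normalizer ((Q : Subgroup G) : Set G), ∃ y ∈ (Q : Subgroup G), g * y * g⁻¹ ≠ y := by
  by_contra hcon
  push Not at hcon
  have hP : Subgroup.normalizer ((Q : Subgroup G) : Set G) ≤
      Subgroup.centralizer ((Q : Subgroup G) : Set G) := by
    intro g hg
    rw [Subgroup.mem_centralizer_iff]
    intro y hy
    have := hcon g hg y hy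
    rw [mul_inv_eq_iff_eq_mul] at this
    exact this.symm
  have h1 := MonoidHom.ker_transferSylow_isComplement' Q hP
  apply hnil
  refine ⟨(MonoidHom.transferSylow Q hP).ker, MonoidHom.normal_ker _, ?_⟩
  rw [h1.symm.index_eq_card, Q.card_eq_multiplicity]

/-- The commutator subgroup of the normaliser is the two-point stabiliser. -/
theorem commutator_B_eq (hZ : IsZassenhausGroup G Ω) {a b : Ω} (hab : a ≠ b)
    (hodd : Odd (Nat.card (E (G := G) a b)))
    (hnil : ∀ q : ℕ, q.Prime → q ∣ Nat.card (E (G := G) a b) →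
      ¬ ∃ N : Subgroup G, N.Normal ∧ N.index = q ^ (Nat.card G).factorization q) :
    commutator (B (G := G) a b) = (E (G := G) a b).subgroupOf (B a b) := by
  haveI hZg := isZGroup_B hZ hab hodd
  -- primes dividing `d` divide the commutator subgroup
  have hdvd : ∀ q : ℕ, q.Prime → q ∣ Nat.card (E (G := G) a b) →
      q ∣ Nat.card (commutator (B (G := G) a b)) := by
    intro q hq hqd
    haveI := Fact.mk hq
    have hq2 : q ≠ 2 := by
      rintro rfl
      exact (Nat.not_even_iff_odd.2 hodd) (even_iff_two_dvd.2 hqd)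
    obtain ⟨Q, hQ⟩ := exists_sylow_le hZ hab hq2 hqd
    have hQ1 : (Q : Subgroup G) ≠ ⊥ := Q.ne_bot_of_dvd_card (hqd.trans
      (Subgroup.card_dvd_of_le (le_top : E (G := G) a b ≤ ⊤) |>.trans (by simp)))
    have hQB : (Q : Subgroup G) ≤ B a b := hQ.trans (E_le_B a b)
    let P : Sylow q (B (G := G) a b) := Q.subtype hQB
    rcases Sylow.normalizer_le_centralizer_or_le_commutator P with h | h
    · exfalso
      obtain ⟨g, hg, y, hy, hne⟩ := exists_noncentral Q (hnil q hq hqd)
      have hgB : g ∈ B (G := G) a b := normalizer_le_B hZ hab hQ hQ1 hg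
      have h1 : (⟨g, hgB⟩ : B (G := G) a b) ∈ Subgroup.normalizer ((P : Subgroup (B (G := G) a b)) : Set (B (G := G) a b)) := by
        rw [Subgroup.mem_normalizer_iff]
        intro z
        rw [Sylow.coe_subtype, Subgroup.mem_subgroupOf, Subgroup.mem_subgroupOf]
        exact (Subgroup.mem_normalizer_iff.1 hg z)
      have h2 := h h1
      rw [Subgroup.mem_centralizer_iff] at h2
      have hyP : (⟨y, hQB hy⟩ : B (G := G) a b) ∈ (P : Subgroup (B (G := G) a b)) := by
        rw [Sylow.coe_subtype, Subgroup.mem_subgroupOf]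
        exact hy
      have h3 := h2 ⟨y, hQB hy⟩ hyP
      apply hne
      have h4 := congrArg Subtype.val h3
      simp only [Subgroup.coe_mul] at h4
      rw [← h4]
      group
    · have h1 : q ∣ Nat.card P := by
        have : Nat.card P = Nat.card Q :=
          Nat.card_congr (Subgroup.subgroupOfEquivOfLe hQB).toEquiv
        rw [this]
        rcases (Q.isPGroup').card_eq_or_dvd with h0 | h0
        · exact absurd (Subgroup.card_eq_one.1 h0) hQ1
        · exact h0
      exact h1.trans (Subgroup.card_dvd_of_le h)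
  -- the commutator subgroup lies in the index two subgroup
  have hidx := (Cfsg.Agent.S0879.result hZ hab).2
  haveI hnormal : ((E (G := G) a b).subgroupOf (B a b)).Normal :=
    Subgroup.normal_of_index_eq_two hidx
  have hle : commutator (B (G := G) a b) ≤ (E (G := G) a b).subgroupOf (B a b) := by
    rw [← Subgroup.Normal.quotient_commutative_iff_commutator_le]
    have hc : Nat.card (B (G := G) a b ⧸ (E (G := G) a b).subgroupOf (B a b)) = 2 := hidx
    haveI : Fact (Nat.Prime 2) := ⟨Nat.prime_two⟩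
    haveI := isCyclic_of_prime_card hc
    exact IsCyclic.isMulCommutative
  -- coprimality gives equality
  have hcop := IsZGroup.coprime_commutator_index (B (G := G) a b)
  have hmul := Subgroup.card_mul_index (commutator (B (G := G) a b))
  rw [card_B hZ hab] at hmul
  set i := (commutator (B (G := G) a b)).index with hi
  set c := Nat.card (commutator (B (G := G) a b)) with hc
  set d := Nat.card (E (G := G) a b) with hd
  have hid : Nat.Coprime i d := by
    apply Nat.Coprime.symm
    apply Nat.coprime_of_dvd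
    intro q hq hqd hqi
    have := hdvd q hq hqd
    exact (Nat.Coprime.coprime_dvd_left this hcop).coprime_dvd_right hqi |> (Nat.Prime.coprime_iff_not_dvd hq).1 <| dvd_rfl
  have hi2 : i ∣ 2 := hid.dvd_of_dvd_mul_right ⟨c, by rw [← hmul]; ring⟩
  have hi1 : i ≠ 1 := by
    intro h
    have htop : commutator (B (G := G) a b) = ⊤ := Subgroup.index_eq_one.1 h
    rw [htop, top_le_iff] at hle
    have := Subgroup.index_eq_one.2 hle
    rw [hidx] at this
    omega
  have hi3 : i = 2 := by
    rcases (Nat.dvd_prime Nat.prime_two).1 hi2 with h | h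
    · exact absurd h hi1
    · exact h
  have hcd : c = d := by
    rw [hi3] at hmul
    omega
  apply Subgroup.eq_of_le_of_card_ge hle
  have h3 : Nat.card ((E (G := G) a b).subgroupOf (B a b)) = d :=
    Nat.card_congr (Subgroup.subgroupOfEquivOfLe (E_le_B a b)).toEquiv
  rw [h3, ← hcd]

/-- Under the hypotheses of the transfer argument the two-point stabiliser is cyclic. -/
theorem isCyclic_E (hZ : IsZassenhausGroup G Ω) {a b : Ω} (hab : a ≠ b)
    (hodd : Odd (Nat.card (E (G := G) a b)))
    (hnil : ∀ q : ℕ, q.Prime → q ∣ Nat.card (E (G := G) a b) →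
      ¬ ∃ N : Subgroup G, N.Normal ∧ N.index = q ^ (Nat.card G).factorization q) :
    IsCyclic (E (G := G) a b) := by
  haveI hZg := isZGroup_B hZ hab hodd
  have h1 := IsZGroup.isCyclic_commutator (B (G := G) a b)
  rw [commutator_B_eq hZ hab hodd hnil] at h1
  let e := Subgroup.subgroupOfEquivOfLe (E_le_B (G := G) a b)
  exact isCyclic_of_surjective e e.surjective

end Cfsg.Agent.Lib.Zass.Stab
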